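import Cfsg.Agent.Lib.GOB.Small

/-!
# Step B2: the product disconnected configuration
-/

set_option autoImplicit false

namespace CfsgLib.GO

open Subgroup MulAction Cfsg CfsgLib.H1 CfsgLib.SE CfsgLib.Suz

universe u

theorem Ctx.ro {G Ω : Type u} [Group G] [Finite G] [MulAction G Ω] {Z : Set G} (h : Ctx G Ω Z)
    (α : Ω) : ∃ Q t, RO (stabilizer G α) Q t ∧ Rank2 Q := by
  refine h.ro_of_sea (fun u hu => by_contra fun hu' => ?_) α
  obtain ⟨n, b⟩ := h.bc hu hu'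
  exact b.false

theorem ihz (m : ℕ) : IHZ.{u} m := by
  induction m using Nat.strong_induction_on with
  | _ m ih =>
    intro H Δ _ _ _ Z hm h3 hK R hf δ
    exact Ctx.ro ⟨R, h3, fun X _ => hK.subgroup X, hf, ih _ hm⟩ δ

theorem MC.szT_of_zd {G : Type u} [Group G] [Finite G] (h : MC G) {S A M : Subgroup G}
    (hA : SCA S A) (hM : ZD A M) : SzT G := by
  have : Fact (Nat.Prime 2) := ⟨Nat.prime_two⟩
  have := h.simple
  set Z : Set G := {z | ∃ g, ∃ a ∈ A, a ≠ 1 ∧ g * a * g⁻¹ = z}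
  have inA : ∀ z ∈ Z, ∀ x, x * z * x⁻¹ ∈ S → x * z * x⁻¹ ∈ A := by
    rintro _ ⟨g, a, ha, -, rfl⟩ x hx
    rw [show x * (g * a * g⁻¹) * x⁻¹ = x * g * a * (x * g)⁻¹ by group] at hx ⊢
    exact hA.sc _ a ha hx
  have inv : ∀ z ∈ Z, IsInv z := by
    rintro _ ⟨g, a, ha, h1, rfl⟩
    exact IsInv.conj ⟨by rw [← pow_two]; exact hA.ea.2 a ha, h1⟩ g
  have pair : ∀ z ∈ Z, ∀ w ∈ Z, IsPGroup 2 (zpowers (z * w)) →
      ∃ x, x * z * x⁻¹ ∈ A ∧ x * w * x⁻¹ ∈ A := fun z hz w hw hp => by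
    obtain ⟨Q, h1, h2⟩ := Invol.exists_sylow_of_isPGroup (inv z hz).1 (inv w hw).1 hp
    obtain ⟨x, -, h3⟩ := hA.syl.exists_conj_le Q.isPGroup' le_top
    exact ⟨x, inA z hz x (h3 (mem_map_of_mem _ h1)), inA w hw x (h3 (mem_map_of_mem _ h2))⟩
  have C : ZC Z :=
    { inv := inv
      conj := by
        rintro _ ⟨g, a, ha, h1, rfl⟩ x
        exact ⟨x * g, a, ha, h1, by group⟩
      two := fun z hz w hw hp => or_iff_not_imp_left.2 fun e => by
        obtain ⟨x, h1, h2⟩ := pair z hz w hw hp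
        exact ⟨x⁻¹, _, A.mul_mem h1 h2, by rwa [conj_mul, Ne, conj_eq_one_iff], by group⟩ }
  have hSM : S ≤ M := fun s hs => hM.norm (mem_normalizer_fintype fun a ha =>
    hA.sc s a ha (conj_mem_of_mem_normalizer (le_normalizer hs) (hA.le ha)))
  have key : ∀ z ∈ Z, z ∈ M → ∀ x, x * z * x⁻¹ ∈ M → x ∈ M := fun z hz h1 x h2 => by
    obtain ⟨m, hm, e1⟩ := (hA.syl.mono hSM le_top).exists_conj_le
      (Invol.isPGroup_zpowers (C.sq hz)) (zpowers_le.2 h1)
    obtain ⟨k, hk, e2⟩ := (hA.syl.mono hSM le_top).exists_conj_le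
      (Invol.isPGroup_zpowers (C.sq (C.conj z hz x))) (zpowers_le.2 h2)
    have h3 : m * z * m⁻¹ ∈ S := e1 (mem_map_of_mem _ (mem_zpowers _))
    have h4 : k * (x * z * x⁻¹) * k⁻¹ ∈ S := e2 (mem_map_of_mem _ (mem_zpowers _))
    obtain ⟨y, -, hy, h5⟩ := hA.ctl (k * x * m⁻¹) (mem_top _)
    have h6 := hM.cent _ (inA z hz m h3) (C.ne_one (C.conj z hz m)) (mem_cent_of_conj_eq
      (g := y⁻¹ * (k * x * m⁻¹)) (by
        rw [show ∀ a, y⁻¹ * (k * x * m⁻¹) * a * (y⁻¹ * (k * x * m⁻¹))⁻¹ =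
          y⁻¹ * (k * x * m⁻¹ * a * (k * x * m⁻¹)⁻¹) * y from fun a => by group,
          ← h5 _ h3 (by simpa [mul_assoc] using h4)]
        group))
    rwa [M.mul_mem_cancel_left (M.inv_mem (hM.norm hy)), M.mul_mem_cancel_right (M.inv_mem hm),
      M.mul_mem_cancel_left hk] at h6
  have h4 : F4 Z M := by
    by_contra h0
    obtain ⟨⟨a, ha⟩, h1⟩ := ne_bot_iff_exists_ne_one.1 hA.ne
    have h2 : a ∈ Z := ⟨1, a, ha, fun e => h1 (Subtype.ext e), by simp⟩
    have h3 := Blk.glauberman_zstar G a (inv a h2).orderOf fun g e => by_contra fun e' => by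
      have h4 := C.conj a h2 g
      obtain ⟨x, h5, h6⟩ := pair _ h4 a h2
        (Invol.isPGroup_zpowers (sq_of_comm (C.sq h4) (C.sq h2) e.symm))
      exact h0 ⟨_, C.conj _ h4 x, _, C.conj _ h2 x, hSM (hA.le h5), hSM (hA.le h6),
        fun e => e' (by simpa using e), by rw [conj_mul, conj_mul, e.eq]⟩
    have h5 : pPrimeCore 2 G = ⊥ := (IsSimpleGroup.eq_bot_or_eq_top_of_normal _
      inferInstance).resolve_right fun e => (inv a h2).not_odd (e.ge (mem_top a))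
        (Nat.coprime_two_right.1 (pPrimeCore_coprime 2))
    rcases IsSimpleGroup.eq_bot_or_eq_top_of_normal (center G) inferInstance with e | e
    · exact C.ne_one h2 (e.le (mem_center_iff.2 fun g =>
        mul_inv_eq_iff_eq_mul.1 (mul_inv_eq_one.1 (h5.le (h3 g)))))
    · exact h.nonab ⟨⟨fun x y => mem_center_iff.1 (e.ge (mem_top y)) x⟩⟩
  have R : ZS G (G ⧸ M) Z :=
    { C with
      trans := fun α β => exists_smul_eq G α β
      nontriv := by
        obtain ⟨g, hg⟩ := not_forall.1 (mt (eq_top_iff' M).2 hM.ne)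
        exact ⟨(1 : G), (g : G), fun e => hg (by simpa using QuotientGroup.eq.1 e)⟩
      uniq := fun z hz α β h1 h2 => by
        obtain ⟨g, rfl⟩ := QuotientGroup.mk_surjective α
        obtain ⟨k, rfl⟩ := QuotientGroup.mk_surjective β
        refine (QuotientGroup.eq.2 (key _ (C.conj' hz g) (smul_mk_eq_iff.1 h1) _ ?_)).symm
        simpa [mul_assoc] using smul_mk_eq_iff.1 h2
      four := ⟨((1 : G) : G ⧸ M), h4.mono (stab_quot_one M).ge⟩ }
  obtain ⟨Q, t, h1, h2⟩ := Ctx.ro ⟨R, h.s3f, h.kg,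
    faithful_quot (normalCore_eq_bot_of_simple hM.ne), ihz _⟩ ((1 : G) : G ⧸ M)
  exact szT_of_RO h.s3f h1 h2

end CfsgLib.GO
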