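import Cfsg.Agent.Lib.GOB.B1
import Cfsg.Agent.Lib.GOB.B2

/-!
# Simple `S₃`-free groups
-/

set_option autoImplicit false

namespace CfsgLib.GO

open Subgroup Cfsg CfsgLib.H1

universe u

theorem kg_induction {P : ∀ (X : Type u) [Group X] [Finite X], Prop}
    (h1 : ∀ (X Y : Type u) [Group X] [Finite X] [Group Y] [Finite Y], Involves Y X → P X → P Y)
    (h2 : ∀ (X : Type u) [Group X] [Finite X], P X → S3F X)
    (h3 : ∀ (X : Type u) [Group X] [Finite X], P X → MC X → SzT X ∨ L3T X)
    (X : Type u) [Group X] [Finite X] : P X → KG X := by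
  refine card_induction (P := fun X _ _ => P X → KG X) (fun X _ _ ih hX K _ hK hs hn => ?_) X
  obtain ⟨H, f, hf⟩ := involves_iff.1 hK
  have := Finite.of_surjective f hf
  have h4 := h1 X K hK hX
  exact h3 K h4 ⟨hs, hn, h2 K h4, fun L hL => ih L ((card_lt_of_ne_top hL).trans_le
    ((Nat.card_le_card_of_surjective f hf).trans (card_le_card_group H)))
      (h1 K L (Involves.of_subgroup (involves_self L)) h4)⟩

/-- The nonabelian simple sections of an `S₃`-free group are Suzuki groups or `L₂(3^(2f+1))`. -/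
theorem S3F.kg {X : Type u} [Group X] [Finite X] (h : S3F X) : KG X :=
  kg_induction (P := fun X _ _ => S3F X) (fun _ _ _ _ _ _ h h' => h'.of_involves h)
    (fun _ _ _ h => h) (fun _ _ _ _ h => h.exists_zd.elim Or.inl fun h' => h'.elim Or.inr
      fun ⟨_, _, _, h1, h2⟩ => Or.inl (h.szT_of_zd h1 h2)) X h

theorem not_three_dvd_of_involves {X Y : Type*} [Group X] [Finite X] [Group Y] (h : Involves Y X)
    (h3 : ¬ 3 ∣ Nat.card X) : ¬ 3 ∣ Nat.card Y := fun h' => by
  obtain ⟨H, f, hf⟩ := involves_iff.1 h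
  exact h3 ((h'.trans (card_dvd_of_surjective f hf)).trans (card_subgroup_dvd_card H))

theorem s3f_of_not_three_dvd {X : Type*} [Group X] [Finite X] (h3 : ¬ 3 ∣ Nat.card X) : S3F X :=
  fun h => not_three_dvd_of_involves h h3 (by rw [Nat.card_perm, Nat.card_fin]; decide)

/-- The same for `3'`-groups, independent of `MC.exists_zd`. -/
theorem kg_of_not_three_dvd {X : Type u} [Group X] [Finite X] (h : ¬ 3 ∣ Nat.card X) : KG X :=
  kg_induction (P := fun X _ _ => ¬ 3 ∣ Nat.card X)
    (fun _ _ _ _ _ _ h h' => not_three_dvd_of_involves h h')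
    (fun _ _ _ h => s3f_of_not_three_dvd h) (fun _ _ _ h3 h => (h.exists_zd' h3).elim Or.inl
      fun ⟨_, _, _, h1, h2⟩ => Or.inl (h.szT_of_zd h1 h2)) X h

end CfsgLib.GO
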