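import Cfsg.Agent.Lib.GOB.Defs
import Cfsg.Agent.Lib.FT.Main
import Cfsg.Agent.Lib.H1Misc

/-!
# The final module lemma
-/

set_option autoImplicit false

namespace CfsgLib.GO

open Subgroup Cfsg CfsgLib.H1

universe u

/-- The stabilizer of the coset `vA`. -/
def Fx {N : Type*} [Group N] (A : Subgroup N) [A.Normal] (v : N) : Subgroup N :=
  (centralizer {QuotientGroup.mk' A v}).comap (QuotientGroup.mk' A)

theorem mem_Fx {N : Type*} [Group N] {A : Subgroup N} [A.Normal] {v g : N} :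
    g ∈ Fx A v ↔ g * v * g⁻¹ * v⁻¹ ∈ A := by
  rw [Fx, mem_comap, mem_centralizer_singleton_iff, ← QuotientGroup.eq_one_iff,
    ← QuotientGroup.mk'_apply, map_mul, map_mul, map_mul, map_inv, map_inv, mul_inv_eq_one,
    mul_inv_eq_iff_eq_mul]

theorem mem_Fx_conj {N : Type*} [Group N] {A : Subgroup N} [hA : A.Normal] {v g d : N}
    (h : g⁻¹ * d * g ∈ Fx A v) : d ∈ Fx A (g * v * g⁻¹) := by
  rw [mem_Fx] at h ⊢
  convert hA.conj_mem _ h g using 1
  group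

theorem comm_of_odd_step {N : Type*} [Group N] [Finite N] {S : Subgroup N} (hS : IsPGroup 2 S)
    {x s : N} (ho : Odd (orderOf x)) (h1 : s⁻¹ * (x * s * x⁻¹) ∈ S)
    (h2 : x * (s⁻¹ * (x * s * x⁻¹)) = s⁻¹ * (x * s * x⁻¹) * x) : x * s = s * x := by
  set c := s⁻¹ * (x * s * x⁻¹) with hc
  have h3 : x * s = s * c * x := by rw [hc]; group
  have h4 : ∀ k : ℕ, x ^ k * s = s * c ^ k * x ^ k := fun k => by
    induction k with
    | zero => simp
    | succ k ih =>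
      have h5 : x * c ^ k = c ^ k * x := ((show Commute x c from h2).pow_right k).eq
      calc x ^ (k + 1) * s = x * (x ^ k * s) := by rw [pow_succ', mul_assoc]
        _ = x * s * c ^ k * x ^ k := by rw [ih]; simp only [mul_assoc]
        _ = s * c * (x * c ^ k) * x ^ k := by rw [h3]; simp only [mul_assoc]
        _ = s * c ^ (k + 1) * x ^ (k + 1) := by
          rw [h5, pow_succ' c, pow_succ' x]; simp only [mul_assoc]
  have h5 := h4 (orderOf x)
  rw [pow_orderOf_eq_one, one_mul, mul_one, left_eq_mul] at h5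
  obtain ⟨k, hk⟩ := hS ⟨c, h1⟩
  have h6 : c = 1 := orderOf_eq_one_iff.1 (Nat.eq_one_of_dvd_coprimes
    ((Nat.coprime_two_left.2 ho).pow_left k)
    (orderOf_dvd_of_pow_eq_one (congrArg Subtype.val hk)) (orderOf_dvd_of_pow_eq_one h5))
  rw [h3, h6, mul_one]

theorem card_le_of_cover {N ι : Type*} [Group N] [Finite ι] {A : Subgroup N} (f : ι → N)
    (h : ∀ b ∈ A, b ≠ 1 → ∃ i, f i = b) : Nat.card A ≤ Nat.card ι + 1 := by
  have h1 : (A : Set N) ⊆ insert 1 (Set.range f) := fun b hb =>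
    or_iff_not_imp_left.2 (h b hb)
  calc Nat.card A = (A : Set N).ncard := rfl
    _ ≤ _ := Set.ncard_le_ncard h1 ((Set.finite_range f).insert 1)
    _ ≤ _ := Set.ncard_insert_le _ _
    _ ≤ _ := Nat.add_le_add_right (Finite.card_range_le f) 1

theorem eq_three_of_pow_le {n : ℕ} (h3 : 3 ≤ n) (h : 2 ^ n ≤ 2 * n + 2) : n = 3 := by
  by_contra h4
  obtain ⟨k, rfl⟩ : ∃ k, n = k + 3 + 1 := ⟨n - 4, by omega⟩
  have := Nat.lt_two_pow_self (n := k)
  rw [pow_succ, pow_add] at h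
  omega

/-- The hypotheses of the module lemma. -/
structure MH {N : Type*} [Group N] (S A : Subgroup N) [A.Normal] (n : ℕ) (w y : N) : Prop where
  p2 : IsPGroup 2 S
  odd : Odd S.index
  le : A ≤ S
  cz : S ≤ centralizer (A : Set N)
  hA : ∀ a ∈ A, a * a = 1
  hsq : ∀ s ∈ S, s * s ∈ A
  hn : 3 ≤ n
  hq : Nat.card A = 2 ^ n
  hc : Nat.card S = 2 * (2 ^ n) ^ 3
  hw : w ∈ S
  hwA : w ∉ A
  hww : w * w = 1
  h1 : ∀ a ∈ A, ∃ s ∈ S, s * w * s⁻¹ = w * a
  h2 : ∀ x ∈ S, ∀ z ∈ S, x * w = w * x → z * w = w * z → x * x = z * z →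
      x⁻¹ * z ∈ A ⊔ zpowers w
  hy : y ∈ Fx A w
  hy' : ∀ a ∈ A, ∀ b ∈ A, a ≠ 1 → b ≠ 1 → ∃ i : ℕ, y ^ i * a * (y ^ i)⁻¹ = b

namespace MH

variable {N : Type*} [Group N] {S A : Subgroup N} [nS : S.Normal] [nA : A.Normal] {n : ℕ}
  {w y : N} (h : MH S A n w y)
include h

omit nS in
theorem cm {a s : N} (ha : a ∈ A) (hs : s ∈ S) : a * s = s * a := h.cz hs a ha

omit nS in
theorem le_Fx {v : N} (hv : v ∈ S) : S ≤ Fx A v := fun s hs => by
  have key : ∀ t ∈ S, QuotientGroup.mk' A t * QuotientGroup.mk' A t = 1 := fun t ht => by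
    rw [← map_mul]; exact (QuotientGroup.eq_one_iff _).2 (h.hsq t ht)
  rw [Fx, mem_comap, mem_centralizer_singleton_iff]
  have h1 := inv_eq_of_mul_eq_one_right (key _ (mul_mem hs hv))
  rw [map_mul, mul_inv_rev, inv_eq_of_mul_eq_one_right (key s hs),
    inv_eq_of_mul_eq_one_right (key v hv)] at h1
  exact h1.symm

omit nS in
theorem br_mem {u v : N} (hu : u ∈ S) (hv : v ∈ S) : u * v * u⁻¹ * v⁻¹ ∈ A :=
  mem_Fx.1 (h.le_Fx hv hu)

omit nS in
theorem br_fix {u v g : N} (hu : u ∈ S) (hv : v ∈ S) (h1 : g ∈ Fx A u) (h2 : g ∈ Fx A v) :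
    g * (u * v * u⁻¹ * v⁻¹) * g⁻¹ = u * v * u⁻¹ * v⁻¹ := by
  rw [mem_Fx] at h1 h2
  set a := g * u * g⁻¹ * u⁻¹ with ha
  set b := g * v * g⁻¹ * v⁻¹ with hb
  have e1 : g * u * g⁻¹ = a * u := by rw [ha]; group
  have e2 : g * v * g⁻¹ = b * v := by rw [hb]; group
  calc g * (u * v * u⁻¹ * v⁻¹) * g⁻¹
      = (g * u * g⁻¹) * (g * v * g⁻¹) * (g * u * g⁻¹)⁻¹ * (g * v * g⁻¹)⁻¹ := by group
    _ = a * (u * (b * (v * u⁻¹ * a⁻¹ * v⁻¹) * b⁻¹)) := by rw [e1, e2]; group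
    _ = a * (u * v * u⁻¹) * a⁻¹ * v⁻¹ := by
      rw [h.cm h2 (mul_mem (mul_mem (mul_mem hv (inv_mem hu)) (inv_mem (h.le h1))) (inv_mem hv))]
      group
    _ = _ := by rw [h.cm h1 (mul_mem (mul_mem hu hv) (inv_mem hu))]; group

omit nS in
theorem mem_sup {v : N} (hv : v ∈ A ⊔ zpowers w) : ∃ a ∈ A, v = a ∨ v = a * w := by
  rw [← SetLike.mem_coe, normal_mul] at hv
  obtain ⟨a, ha, _, ⟨k, rfl⟩, rfl⟩ := hv
  refine ⟨a, ha, ?_⟩
  have h2 : w ^ (2 : ℤ) = 1 := by rw [zpow_two, h.hww]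
  rcases Int.even_or_odd' k with ⟨j, rfl | rfl⟩
  · left; simp [zpow_mul, h2]
  · right; simp [zpow_add, zpow_mul, h2]

theorem cent_of_odd [Finite N] {x : N} (ho : Odd (orderOf x)) (hx : ∀ a ∈ A, x * a = a * x)
    (hw : x ∈ Fx A w) : ∀ s ∈ S, x * s = s * x := by
  have c0 : ∀ s ∈ S, s⁻¹ * (x * s * x⁻¹) ∈ S := fun s hs =>
    mul_mem (inv_mem hs) (nS.conj_mem s hs x)
  have e1 : x * w = w * x := comm_of_odd_step h.p2 ho (c0 w h.hw) (hx _ (by
    convert nA.conj_mem _ (mem_Fx.1 hw) w⁻¹ using 1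
    group))
  have e2 : ∀ c ∈ S, c * w = w * c → x * c = c * x := fun c hc e => by
    refine comm_of_odd_step h.p2 ho (c0 c hc) ?_
    obtain ⟨a, ha, h3⟩ := h.mem_sup (h.h2 c hc _ (nS.conj_mem c hc x) e (by
      calc x * c * x⁻¹ * w = x * c * x⁻¹ * (w * x) * x⁻¹ := by group
        _ = x * (c * w) * x⁻¹ := by rw [← e1]; group
        _ = w * (x * c * x⁻¹) := by rw [e, ← mul_assoc, e1]; group) (by
      rw [conj_mul, hx _ (h.hsq c hc), mul_inv_cancel_right]))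
    rcases h3 with h3 | h3 <;> rw [h3]
    · exact hx a ha
    · rw [← mul_assoc, hx a ha, mul_assoc, e1, mul_assoc]
  intro s hs
  refine comm_of_odd_step h.p2 ho (c0 s hs) (e2 _ (c0 s hs) ?_)
  have e3 := hx _ (h.br_mem hs h.hw)
  have e4 : x * s * x⁻¹ * w = s * w * s⁻¹ * (x * s * x⁻¹) := by
    calc x * s * x⁻¹ * w = x * s * x⁻¹ * (w * x) * x⁻¹ := by group
      _ = x * (s * w * s⁻¹ * w⁻¹) * w * s * x⁻¹ := by rw [← e1]; group
      _ = s * w * s⁻¹ * w⁻¹ * (x * w) * s * x⁻¹ := by rw [e3]; group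
      _ = _ := by rw [e1]; group
  rw [mul_assoc, e4]
  group

theorem br_ne {g : N} (hg : g ∉ Fx A w) :
    w * (g * w * g⁻¹) * w⁻¹ * (g * w * g⁻¹)⁻¹ ≠ 1 := fun e => by
  obtain ⟨a, ha, h3 | h3⟩ := h.mem_sup (h.h2 1 (one_mem _) _ (nS.conj_mem w h.hw g) (by simp)
    (by rw [mul_inv_eq_one, mul_inv_eq_iff_eq_mul] at e; exact e.symm)
    (by rw [conj_mul, h.hww]; simp))
  · rw [inv_one, one_mul] at h3
    exact h.hwA ((nA.mem_comm_iff).1 (by
      convert nA.conj_mem _ ha g⁻¹ using 1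
      rw [← h3]; group : w * 1 ∈ A) |> fun h => by simpa using h)
  · rw [inv_one, one_mul] at h3
    exact hg (mem_Fx.2 (by rw [h3, mul_inv_cancel_right]; exact ha))

theorem eq_bot [Finite N] (hC : centralizer (S : Set N) ≤ S) {D : Subgroup N}
    (hyD : y ∈ normalizer (D : Set N)) (ho : ∀ d ∈ D, Odd (orderOf d)) (hD : D ≤ Fx A w) {g : N}
    (hg : g ∉ Fx A w) (hgD : ∀ d ∈ D, g⁻¹ * d * g ∈ Fx A w) : D = ⊥ := by
  have hw' := nS.conj_mem w h.hw g
  refine eq_bot_iff.2 fun d hd => ?_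
  have h3 : d ∈ S := hC fun s hs => (h.cent_of_odd (ho d hd) (fun b hb => ?_) (hD hd) s hs).symm
  · obtain ⟨k, hk⟩ := h.p2 ⟨d, h3⟩
    exact orderOf_eq_one_iff.1 (Nat.eq_one_of_dvd_coprimes
      ((Nat.coprime_two_left.2 (ho d hd)).pow_left k)
      (orderOf_dvd_of_pow_eq_one (congrArg Subtype.val hk)) dvd_rfl)
  by_cases hb1 : b = 1
  · simp [hb1]
  obtain ⟨i, rfl⟩ := h.hy' _ (h.br_mem h.hw hw') b hb (h.br_ne hg) hb1
  have h4 : (y ^ i)⁻¹ * d * y ^ i ∈ D := by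
    simpa using (mem_normalizer_iff.1 (inv_mem (pow_mem hyD i)) d).1 hd
  have h5 := h.br_fix h.hw hw' (hD h4) (mem_Fx_conj (hgD _ h4))
  set c := w * (g * w * g⁻¹) * w⁻¹ * (g * w * g⁻¹)⁻¹
  calc d * (y ^ i * c * (y ^ i)⁻¹)
      = y ^ i * ((y ^ i)⁻¹ * d * y ^ i * c * ((y ^ i)⁻¹ * d * y ^ i)⁻¹) * (y ^ i)⁻¹ * d := by group
    _ = _ := by rw [h5]

theorem of_mul {s : N} (hs : s ∈ S) : MH S A n w (s * y) :=
  { h with
    hy := mul_mem (h.le_Fx h.hw hs) h.hy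
    hy' := fun a ha b hb h1 h2 => by
      obtain ⟨i, hi⟩ := h.hy' a ha b hb h1 h2
      have h3 : (s * y) ^ i * (y ^ i)⁻¹ ∈ S := by
        rw [← QuotientGroup.eq_one_iff, QuotientGroup.mk_mul, QuotientGroup.mk_inv,
          QuotientGroup.mk_pow, QuotientGroup.mk_pow, QuotientGroup.mk_mul,
          (QuotientGroup.eq_one_iff s).2 hs, one_mul, mul_inv_cancel]
      refine ⟨i, ?_⟩
      calc (s * y) ^ i * a * ((s * y) ^ i)⁻¹ = (s * y) ^ i * (y ^ i)⁻¹ *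
            (y ^ i * a * (y ^ i)⁻¹) * ((s * y) ^ i * (y ^ i)⁻¹)⁻¹ := by group
        _ = b := by rw [hi, ← h.cm hb h3, mul_inv_cancel_right] }

omit nS in
theorem eight_le : 8 ≤ Nat.card A := h.hq ▸ Nat.pow_le_pow_right two_pos h.hn

omit nS in
theorem exists_ne [Finite N] : ∃ a ∈ A, a ≠ 1 := by
  have h1 : A ≠ ⊥ := fun e => by have := h.eight_le; rw [e, card_bot] at this; omega
  exact (bot_or_exists_ne_one A).resolve_left h1

omit nS in
theorem eq_one_of_comm [Finite N] {a : N} (ha : a ∈ A) (e : y * a = a * y) : a = 1 := by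
  by_contra h1
  have h2 := card_le_of_cover (A := A) (fun _ : Unit => a) fun b hb h3 => by
    obtain ⟨i, rfl⟩ := h.hy' a ha b hb h1 h3
    exact ⟨(), by rw [((show Commute y a from e).pow_left i).eq, mul_inv_cancel_right]⟩
  have := h.eight_le
  rw [Nat.card_unique (α := Unit)] at h2
  omega

omit nS in
theorem le_card [Finite N] : 2 ^ n ≤ Nat.card (zpowers y) + 1 := by
  obtain ⟨a, ha, h1⟩ := h.exists_ne
  rw [← h.hq]
  refine card_le_of_cover (fun r : zpowers y => r * a * (r : N)⁻¹) fun b hb h3 => ?_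
  obtain ⟨i, rfl⟩ := h.hy' a ha b hb h1 h3
  exact ⟨⟨_, pow_mem (mem_zpowers y) i⟩, rfl⟩

omit nS in
theorem cent_y [Finite N] {v : N} (hv : v ∈ S) (e : y * v = v * y) :
    v = 1 ∨ ∃ a ∈ A, v = a * w := by
  have e1 : y ∈ Fx A v := mem_Fx.2 (by rw [e]; simp)
  have e2 := h.eq_one_of_comm (h.br_mem hv h.hw)
    (mul_inv_eq_iff_eq_mul.1 (h.br_fix hv h.hw e1 h.hy))
  have e3 := h.eq_one_of_comm (h.hsq v hv) ((show Commute y v from e).mul_right e).eq
  obtain ⟨a, ha, h3 | h3⟩ := h.mem_sup (h.h2 1 (one_mem _) v hv (by simp)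
    (by rwa [mul_inv_eq_one, mul_inv_eq_iff_eq_mul] at e2) (by rw [e3, mul_one]))
  · rw [inv_one, one_mul] at h3
    exact Or.inl (h.eq_one_of_comm (h3 ▸ ha) e)
  · exact Or.inr ⟨a, ha, by rwa [inv_one, one_mul] at h3⟩

omit nS in
theorem card_cent_y [Finite N] :
    Nat.card ↥(S ⊓ centralizer (zpowers y : Set N)) ≤ 2 := by
  by_cases h0 : S ⊓ centralizer (zpowers y : Set N) = ⊥
  · rw [h0, card_bot]; omega
  obtain ⟨u, hu, u1⟩ := (bot_or_exists_ne_one _).resolve_left h0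
  have hu' := hu.2 y (mem_zpowers y)
  obtain ⟨a, ha, rfl⟩ := (h.cent_y hu.1 hu').resolve_left u1
  refine (card_le_of_cover (fun _ : Unit => a * w) fun v hv v1 => ⟨(), ?_⟩).trans_eq (by simp)
  have hv' := hv.2 y (mem_zpowers y)
  obtain ⟨b, hb, rfl⟩ := (h.cent_y hv.1 hv').resolve_left v1
  have := h.eq_one_of_comm (a := a * w * (b * w)⁻¹) (by simpa using mul_mem ha (inv_mem hb))
    ((show Commute y (a * w) from hu').mul_right (show Commute y (b * w) from hv').inv_right).eq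
  exact mul_inv_eq_one.1 this

omit nS in
theorem not_sq [Finite N] : ¬ ∀ s ∈ S, s * s = 1 := fun h0 => by
  obtain ⟨a, ha, h1⟩ := h.exists_ne
  obtain ⟨s, hs, e⟩ := h.h1 a ha
  have h3 := inv_eq_of_mul_eq_one_right (h0 _ (mul_mem hs h.hw))
  rw [mul_inv_rev, inv_eq_of_mul_eq_one_right h.hww,
    inv_eq_of_mul_eq_one_right (h0 s hs)] at h3
  rw [← h3, mul_inv_cancel_right, left_eq_mul] at e
  exact h1 e

theorem false_of_semireg [Finite N] {K : Subgroup N} {p : ℕ} [hp : Fact p.Prime] (hp2 : p ≠ 2)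
    (hK : IsPGroup p K) (h0 : K ≠ ⊥) (hKw : ∀ x ∈ K, x ∈ Fx A w → x = 1) (hn : n = 3)
    (hc : Nat.card ↥(S ⊓ centralizer (K : Set N)) = 8) : False := by
  subst hn
  have h1 := card_modEq_card_inf_centralizer hK (U := S) (le_normalizer_of_normal)
  rw [hc, h.hc] at h1
  have h2 : p ∣ 2 ^ 3 * 127 := (Nat.modEq_iff_dvd' (by norm_num)).1 h1.symm
  have h3 : p = 127 := by
    rcases (Nat.Prime.dvd_mul hp.out).1 h2 with h3 | h3
    · exact absurd ((Nat.prime_dvd_prime_iff_eq hp.out Nat.prime_two).1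
        (hp.out.dvd_of_dvd_pow h3)) hp2
    · exact (Nat.prime_dvd_prime_iff_eq hp.out (by norm_num)).1 h3
  have h4 : 127 ≤ Nat.card K := by
    obtain ⟨k, hk⟩ := hK.exists_card_eq
    rcases k with _ | k
    · exact absurd (card_eq_one.1 hk) h0
    · rw [hk, h3]; exact Nat.le_self_pow k.succ_ne_zero _
  have h5 : ∀ x : N, x * w * x⁻¹ ∉ A := fun x hx => h.hwA (by
    simpa [mul_assoc] using nA.conj_mem _ hx x⁻¹)
  let f : Option K × A → S := fun z => match z with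
    | (none, a) => ⟨a, h.le a.2⟩
    | (some x, a) => ⟨a * (x * w * (x : N)⁻¹), mul_mem (h.le a.2) (nS.conj_mem w h.hw x)⟩
  have hf : Function.Injective f := by
    rintro ⟨_ | x, a⟩ ⟨_ | z, b⟩ e <;> have e' := congrArg Subtype.val e <;> simp only [f] at e'
    · rw [Subtype.ext e']
    · exact absurd ((mul_mem_cancel_left b.2).1 (e' ▸ a.2)) (h5 _)
    · exact absurd ((mul_mem_cancel_left a.2).1 (e' ▸ b.2)) (h5 _)
    · have h6 : (z : N)⁻¹ * x = 1 := hKw _ (mul_mem (inv_mem z.2) x.2) (mem_Fx.2 (by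
        convert nA.conj_mem _ (mul_mem (inv_mem a.2) b.2) (z : N)⁻¹ using 1
        rw [show (b : N) = a * (x * w * (x : N)⁻¹) * (z * w * (z : N)⁻¹)⁻¹ by rw [e']; group]
        group))
      obtain rfl : z = x := Subtype.ext (inv_mul_eq_one.1 h6)
      rw [Subtype.ext (mul_right_cancel e')]
  have h6 := (hf.bijective_of_nat_card_le (by
    rw [Nat.card_prod, Finite.card_option, h.hc, h.hq]; omega)).2
  refine h.not_sq fun s hs => ?_
  obtain ⟨⟨_ | x, a⟩, e⟩ := h6 ⟨s, hs⟩ <;> have e' := congrArg Subtype.val e <;>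
    simp only [f] at e' <;> rw [← e']
  · exact h.hA _ a.2
  · rw [mul_assoc, ← mul_assoc _ (a : N), ← h.cm a.2 (nS.conj_mem w h.hw x), mul_assoc, conj_mul,
      h.hww, ← mul_assoc, h.hA _ a.2]
    simp

theorem core [Finite N] (hC : centralizer (S : Set N) ≤ S) (g : N) : g ∈ Fx A w := by
  obtain ⟨k, hk⟩ := h.p2.exists_card_eq
  obtain ⟨Y, hY⟩ := exists_right_complement'_of_coprime (N := S)
    (hk ▸ (Nat.coprime_two_left.2 h.odd).pow_left k)
  have hYo : Odd (Nat.card Y) := hY.symm.index_eq_card ▸ h.odd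
  have ho : ∀ x ∈ Y, Odd (orderOf x) := fun x hx =>
    hYo.of_dvd_nat (Y.orderOf_dvd_natCard hx)
  have hcop : ∀ K ≤ Y, ∀ T ≤ S, (Nat.card K).Coprime (Nat.card T) := fun K h1 T h2 =>
    ((hk ▸ (Nat.coprime_two_right.2 hYo).pow_right k :
      (Nat.card Y).Coprime (Nat.card S)).coprime_dvd_left (card_dvd_of_le h1)).coprime_dvd_right
        (card_dvd_of_le h2)
  have dec : ∀ x : N, ∃ s ∈ S, s * x ∈ Y := fun x => by
    obtain ⟨⟨s, t⟩, rfl⟩ := hY.2 x
    exact ⟨(s : N)⁻¹, inv_mem s.2, by simp⟩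
  obtain ⟨s, hs, hy⟩ := dec y
  replace h := h.of_mul hs
  generalize s * y = y at h hy
  by_contra hg
  obtain ⟨s, hs, hgY⟩ := dec g
  replace hg : s * g ∉ Fx A w := by rwa [mul_mem_cancel_left (h.le_Fx h.hw hs)]
  generalize s * g = g at hg hgY
  have : Nontrivial Y := (nontrivial_iff_ne_bot Y).2 fun e =>
    hg (by rw [mem_bot.1 (e.le hgY)]; exact one_mem _)
  have := FT.feit_thompson hYo
  obtain ⟨M, hM⟩ := exists_isMinNormal (G := Y)
  obtain ⟨p, hp, hel⟩ := hM.exists_isElementaryAbelian inferInstance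
  have := Fact.mk hp
  have := hM.1
  set K := M.map Y.subtype with hKd
  have hKY : K ≤ Y := map_subtype_le M
  have hYK : Y ≤ normalizer (K : Set N) := fun u hu =>
    mem_normalizer_fintype (by
      rintro _ ⟨m, hm, rfl⟩
      exact ⟨_, this.conj_mem m hm ⟨u, hu⟩, rfl⟩)
  have hKp : IsPGroup p K := (isPGroup_of_isElementaryAbelian hel).map _
  have hK0 : K ≠ ⊥ := fun e => hM.2.1 ((map_eq_bot_iff_of_injective _ Y.subtype_injective).1 e)
  have hKc : ∀ a ∈ K, ∀ b ∈ K, a * b = b * a := by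
    have := hel.1
    exact H5.isMulCommutative_iff'.1 inferInstance
  have hp2 : p ≠ 2 := by
    rintro rfl
    obtain ⟨x, hx, h1⟩ := (bot_or_exists_ne_one K).resolve_left hK0
    obtain ⟨j, hj⟩ := hKp ⟨x, hx⟩
    exact h1 (orderOf_eq_one_iff.1 (Nat.eq_one_of_dvd_coprimes
      ((Nat.coprime_two_left.2 (ho x (hKY hx))).pow_left j)
      (orderOf_dvd_of_pow_eq_one (congrArg Subtype.val hj)) dvd_rfl))
  have hKw : ∀ x ∈ K, x ∈ Fx A w → x = 1 := by
    obtain ⟨g', h1, h2⟩ : ∃ g', g' ∉ Fx A w ∧ ∀ d ∈ K ⊓ Fx A w, g'⁻¹ * d * g' ∈ Fx A w := by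
      by_cases h3 : K ≤ Fx A w
      · exact ⟨g, hg, fun d hd => h3 (by
          simpa using (mem_normalizer_iff.1 (hYK (inv_mem hgY)) d).1 hd.1)⟩
      · obtain ⟨m, h4, h5⟩ := SetLike.not_le_iff_exists.1 h3
        exact ⟨m, h5, fun d hd => by
          rw [mul_assoc, hKc d hd.1 m h4, inv_mul_cancel_left]; exact hd.2⟩
    have h3 := h.eq_bot hC (D := K ⊓ Fx A w)
      (inf_normalizer_le_normalizer_inf ⟨hYK hy, le_normalizer h.hy⟩)
      (fun d hd => ho d (hKY hd.1)) inf_le_right h1 h2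
    exact fun x h4 h5 => h3.le ⟨h4, h5⟩
  have hR : zpowers y ≤ Y := zpowers_le.2 hy
  have hfrob : ∀ r ∈ zpowers y, r ≠ 1 → K ⊓ centralizer ({r} : Set N) = ⊥ := fun r hr r1 => by
    refine eq_bot_iff.2 fun x hx => hKw x hx.1 (by_contra fun h1 => r1 ?_)
    have h2 : zpowers r ≤ zpowers y := zpowers_le.2 hr
    have h3 : zpowers y ≤ Fx A w := zpowers_le.2 h.hy
    refine zpowers_eq_bot.1 (h.eq_bot hC (D := zpowers r) ?_
      (fun d hd => ho d (hR (h2 hd))) (h2.trans h3) h1 fun d hd => ?_)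
    · obtain ⟨j, rfl⟩ := hr
      refine centralizer_le_normalizer _ fun _ hd => ?_
      obtain ⟨i, rfl⟩ := hd
      exact (((Commute.refl y).zpow_left j).zpow_left i).eq
    · obtain ⟨i, rfl⟩ := hd
      rw [mul_assoc, ← ((show Commute x r from mem_centralizer_singleton_iff.1 hx.2).zpow_right
        i).eq, inv_mul_cancel_left]
      exact h3 (h2 (zpow_mem (mem_zpowers r) i))
  have hA8 := h.eight_le
  have h8 := h.le_card
  have hn := h.hn
  have h9 : 2 ^ 3 ≤ 2 ^ n := Nat.pow_le_pow_right two_pos hn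
  have hsol : ∀ T ≤ S, Group.IsSolvable T := fun T hT =>
    have := (h.p2.to_le hT).isNilpotent
    inferInstance
  have hKA : K ≤ centralizer (A : Set N) := FT.Frobenius_Wielandt_cent (hR.trans hYK) hfrob
    le_normalizer_of_normal le_normalizer_of_normal (hsol A h.le) (hcop K hKY A h.le)
    (hcop _ hR A h.le) (fun e => by rw [e, card_bot] at h8; omega)
    (eq_bot_iff.2 fun a ha => h.eq_one_of_comm ha.1 (ha.2 y (mem_zpowers y)))
  have hW := FT.Frobenius_Wielandt_fixpoint (M := S) (hR.trans hYK) hfrob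
    le_normalizer_of_normal le_normalizer_of_normal (hsol S le_rfl) (hcop K hKY S le_rfl)
    (hcop _ hR S le_rfl)
  have hKv : ∀ a ∈ A, a * w ∉ centralizer (K : Set N) := fun a ha h1 =>
    hK0 (eq_bot_iff.2 fun x hx => hKw x hx (mem_Fx.2 (by
      have h2 := h1 x hx
      convert mul_mem (nA.conj_mem _ (inv_mem ha) x) ha using 1
      calc x * w * x⁻¹ * w⁻¹ = x * a⁻¹ * x⁻¹ * (x * (a * w)) * x⁻¹ * w⁻¹ := by group
        _ = _ := by rw [h2]; group)))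
  have h1 : S ⊓ centralizer ((K ⊔ zpowers y : Subgroup N) : Set N) = ⊥ :=
    eq_bot_iff.2 fun v hv => (h.cent_y hv.1 (hv.2 y (mem_sup_right (mem_zpowers y)))).resolve_right
      (by rintro ⟨a, ha, rfl⟩; exact hKv a ha fun x hx => hv.2 x (mem_sup_left hx))
  rw [h1, card_bot, one_pow, one_mul] at hW
  have h2 := h.card_cent_y
  have h3 : 0 < Nat.card ↥(S ⊓ centralizer (zpowers y : Set N)) := Nat.card_pos
  have h4 : Nat.card A ≤ Nat.card ↥(S ⊓ centralizer (K : Set N)) :=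
    card_le_of_le (le_inf h.le (le_centralizer_iff.1 hKA))
  generalize Nat.card ↥(S ⊓ centralizer (zpowers y : Set N)) = c at hW h2 h3
  interval_cases c
  · rw [one_pow, one_mul] at hW
    have h5 := eq_of_le_of_card_ge inf_le_left hW.le
    exact hKv 1 (one_mem _) (by rw [one_mul]; exact (h5.ge h.hw).2)
  generalize Nat.card (zpowers y) = r at hW h8
  rw [h.hc] at hW
  rw [h.hq] at h4
  have h5 : 2 ^ (r + n) ≤ 2 ^ (3 * n + 1) := by
    rw [pow_add, pow_succ', mul_comm 3, pow_mul, hW]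
    exact Nat.mul_le_mul_left _ h4
  rw [Nat.pow_le_pow_iff_right one_lt_two] at h5
  have h6 := eq_three_of_pow_le hn (by omega)
  subst h6
  obtain rfl : r = 7 := by omega
  exact h.false_of_semireg hp2 hKp hK0 hKw rfl (by omega)

theorem map [Finite N] {X : Type*} [Group X] (f : N →* X) (hf : Function.Surjective f)
    (hk : S ⊓ f.ker = ⊥) [(A.map f).Normal] : MH (S.map f) (A.map f) n (f w) (f y) := by
  have inj : ∀ s ∈ S, ∀ t ∈ S, f s = f t → s = t := fun s hs t ht e =>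
    mul_inv_eq_one.1 (hk.le (mem_inf.2 ⟨mul_mem hs (inv_mem ht), by
      rw [MonoidHom.mem_ker, map_mul, map_inv, e, mul_inv_cancel]⟩))
  refine ⟨h.p2.map f, h.odd.of_dvd_nat (index_map_dvd S hf), map_mono h.le, ?_, ?_, ?_, h.hn,
    ?_, ?_, mem_map_of_mem f h.hw, ?_, by rw [← map_mul, h.hww, map_one], ?_, ?_, ?_, ?_⟩
  · rintro _ ⟨s, hs, rfl⟩ _ ⟨a, ha, rfl⟩
    rw [← map_mul, h.cm ha hs, map_mul]
  · rintro _ ⟨a, ha, rfl⟩
    rw [← map_mul, h.hA a ha, map_one]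
  · rintro _ ⟨s, hs, rfl⟩
    exact ⟨_, h.hsq s hs, map_mul _ _ _⟩
  · rw [FT.card_map_of_inf_ker_eq_bot f (eq_bot_iff.2 ((inf_le_inf_right _ h.le).trans hk.le)),
      h.hq]
  · rw [FT.card_map_of_inf_ker_eq_bot f hk, h.hc]
  · rintro ⟨a, ha, e⟩
    exact h.hwA (inj a (h.le ha) w h.hw e ▸ ha)
  · rintro _ ⟨a, ha, rfl⟩
    obtain ⟨s, hs, e⟩ := h.h1 a ha
    exact ⟨_, mem_map_of_mem f hs, by rw [← map_inv, ← map_mul, ← map_mul, e, map_mul]⟩
  · rintro _ ⟨x, hx, rfl⟩ _ ⟨z, hz, rfl⟩ e1 e2 e3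
    simp only [← map_mul] at e1 e2 e3
    have := mem_map_of_mem f (h.h2 x hx z hz
      (inj _ (mul_mem hx h.hw) _ (mul_mem h.hw hx) e1)
      (inj _ (mul_mem hz h.hw) _ (mul_mem h.hw hz) e2)
      (inj _ (mul_mem hx hx) _ (mul_mem hz hz) e3))
    rwa [Subgroup.map_sup, MonoidHom.map_zpowers, map_mul, map_inv] at this
  · exact mem_Fx.2 ⟨_, mem_Fx.1 h.hy, by simp⟩
  · rintro _ ⟨a, ha, rfl⟩ _ ⟨b, hb, rfl⟩ h1 h2
    obtain ⟨i, hi⟩ := h.hy' a ha b hb (by rintro rfl; simp at h1) (by rintro rfl; simp at h2)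
    exact ⟨i, by rw [← hi]; simp⟩

theorem main [Finite N] (g : N) : g ∈ Fx A w := by
  set f := QuotientGroup.mk' (pPrimeCore 2 N)
  have hf : Function.Surjective f := QuotientGroup.mk'_surjective _
  obtain ⟨k, hk⟩ := h.p2.exists_card_eq
  have h1 : S ⊓ f.ker = ⊥ := by
    rw [QuotientGroup.ker_mk']
    exact disjoint_iff.1 (disjoint_of_coprime_natCard
      (hk ▸ (pPrimeCore_coprime 2).symm.pow_left k))
  have := nA.map f hf
  have := nS.map f hf
  have h2 := h.map f hf h1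
  have h3 : IsPSolvable 2 (N ⧸ pPrimeCore 2 N) :=
    isPSolvable_of_normal_of_quotient (S.map f) (isPSolvable_of_isPGroup h2.p2)
      (isPSolvable_of_coprime (Nat.coprime_two_right.2 h2.odd))
  have h4 := centralizer_pCore_le h3 (pPrimeCore_quotient_pPrimeCore 2)
  have h5 : pCore 2 (N ⧸ pPrimeCore 2 N) = S.map f :=
    le_antisymm (fun x hx => by
      obtain ⟨j, hj⟩ := pCore_isPGroup 2 ⟨x, hx⟩
      exact mem_of_coprime_index (((Nat.coprime_two_left.2 h2.odd).pow_left j).coprime_dvd_left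
        (orderOf_dvd_of_pow_eq_one (congrArg Subtype.val hj)))) (le_pCore h2.p2)
  rw [h5] at h4
  obtain ⟨a, ha, e⟩ := mem_Fx.1 (h2.core h4 (f g))
  have h6 : g * w * g⁻¹ * w⁻¹ ∈ S := mul_mem (nS.conj_mem w h.hw g) (inv_mem h.hw)
  have h7 : a⁻¹ * (g * w * g⁻¹ * w⁻¹) = 1 := h1.le (mem_inf.2
    ⟨mul_mem (inv_mem (h.le ha)) h6, by
      rw [MonoidHom.mem_ker, map_mul, map_inv, e]; simp [mul_assoc]⟩)
  exact mem_Fx.2 (inv_mul_eq_one.1 h7 ▸ ha)

end MH

/-- `S` is a normal Sylow `2`-subgroup of `N` of order `2q³`, `S/A` is elementary abelian, `A` is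
central in `S` of order `q`; the centralizer of `w` in `S` looks like `⟨w⟩ × Q` with `Q` a Sylow
`2`-subgroup of `Sz(q)`.  Then `N` fixes the coset `wA`. -/
theorem mod_lemma {N : Type u} [Group N] [Finite N] {S A : Subgroup N} [S.Normal] [A.Normal]
    (hS : IsPGroup 2 S) (hSi : Odd S.index) (hAS : A ≤ S) (hZ : S ≤ centralizer (A : Set N))
    (hA : ∀ a ∈ A, a * a = 1) (hsq : ∀ s ∈ S, s * s ∈ A) {n : ℕ} (hn : 3 ≤ n)
    (hq : Nat.card A = 2 ^ n) (hc : Nat.card S = 2 * (2 ^ n) ^ 3) {w y : N} (hw : w ∈ S)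
    (hwA : w ∉ A) (hww : w * w = 1) (h1 : ∀ a ∈ A, ∃ s ∈ S, s * w * s⁻¹ = w * a)
    (h2 : ∀ x ∈ S, ∀ z ∈ S, x * w = w * x → z * w = w * z → x * x = z * z →
      x⁻¹ * z ∈ A ⊔ zpowers w)
    (hy : y * w * y⁻¹ * w⁻¹ ∈ A)
    (hy' : ∀ a ∈ A, ∀ b ∈ A, a ≠ 1 → b ≠ 1 → ∃ i : ℕ, y ^ i * a * (y ^ i)⁻¹ = b) (g : N) :
    g * w * g⁻¹ * w⁻¹ ∈ A := by
  exact mem_Fx.1 (MH.main ⟨hS, hSi, hAS, hZ, hA, hsq, hn, hq, hc, hw, hwA, hww, h1, h2,
    mem_Fx.2 hy, hy'⟩ g)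

end CfsgLib.GO
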