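import Cfsg.Agent.Lib.Gol.El
import Cfsg.Agent.Lib.Gol.R2g
import Cfsg.Agent.Lib.GOB.Main

/-!
# Simple `S₃`-free groups: the complete classification
-/

set_option autoImplicit false

namespace CfsgLib.GO

open Subgroup Cfsg CfsgLib.H1 CfsgLib.Wal CfsgLib.FT CfsgLib.FT.BGN

universe u

theorem MC.exists_zd_full {G : Type u} [Group G] [Finite G] (h : MC G) :
    SzT G ∨ L3T G ∨ ∃ S A M : Subgroup G, SCA S A ∧ ZD A M := by
  have := Fact.mk Nat.prime_two
  have := h.simple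
  by_cases hab : AbTwo G
  · exact Or.inr (Or.inl (l3T_of_abTwo h.nonab h.s3f hab))
  refine Or.inr (Or.inr ?_)
  obtain ⟨S, hS⟩ : ∃ S : Sylow 2 G, ¬ (S : Subgroup G) ≤ 𝐂((S : Subgroup G)) := by
    by_contra! e
    exact hab (abTwo_of_sylow fun S => ⟨⟨fun a b => Subtype.ext (e S b.2 a a.2)⟩⟩)
  have h0 := IsSylowIn.sylow_top S
  obtain ⟨h1, h2⟩ := rmax_spec ⊤ (S : Subgroup G)
  have h3 : _ ≤ _ := k1_of_lkg h.s3f h.lkg h0
  have h4 : ¬ (S : Subgroup G) ≤ 𝐂(rmax ⊤ (S : Subgroup G)) := fun e =>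
    hS (e.trans (centralizer_le ((le_inf le_rfl e).trans h3)))
  have sca : ∀ B ≤ (S : Subgroup G), El B → B ≠ ⊥ → 𝐍(rmax ⊤ (S : Subgroup G)) ≤ 𝐍(B) →
      SCA S B := fun B a b c d =>
    ⟨h0, a, b.elem, c, fun g _ ha => (h2.mono d).conj_mem a (mem_top g) ha, h2.mono d⟩
  by_cases hE : El (rmax ⊤ (S : Subgroup G))
  · obtain ⟨A, M, e⟩ := EC.exists_zd ⟨h, sca _ h1 hE (fun e => h4 (by
      rw [e, cent_bot]; exact le_top)) le_rfl, h4, fun K a b k e => by
      have c := FT.U4.norm_le_norm_cent (rmax ⊤ (S : Subgroup G))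
      have d := (relIndex_sup_of_le_normalizer (a.trans c)).trans e
      have f := H1.le_normalizer_sup b c
      have := le_rmax inf_le_left (ctl_up h0 hE h1 h3 h2 (sup_le a (cent_le_norm _)) f
        le_sup_right d)
      exact le_sup_left.trans (((h0.inf_of_le_normalizer le_top ((h2.le_normalizer h1 le_top).trans
        f)).sup_eq_of_relIndex_eq_pow le_sup_right d).ge.trans
          (sup_le le_rfl (this.trans hE.le_cent)))⟩
    exact ⟨S, A, M, e⟩
  generalize rmax ⊤ (S : Subgroup G) = R at *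
  have hR := S.isPGroup'.to_le h1
  have h5 : Sq R ≤ R := (closure_le _).2 fun _ ⟨x, hx, e⟩ => e ▸ mul_mem hx hx
  obtain ⟨A, h6, hA, hi⟩ := (sca (Sig.oz R ⊓ Sq R) (inf_le_left.trans ((Sig.oz_le R).trans h1))
    (fun x hx => (Sig.mem_oz.1 hx.1).2.2) (fun e => by
      obtain ⟨z, hz, z2⟩ := GW.exists_inv_of_not_odd (H := Sq R ⊓ 𝐂(R)) fun ho =>
        inf_centralizer_ne_bot_of_isNilpotent hR.isNilpotent h5
          (le_normalizer.trans (norm_le_norm_Sq R))
          (fun e => hE fun x hx => mem_bot.1 (e.le (subset_closure ⟨x, hx, rfl⟩)))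
          (eq_bot_of_odd_of_two ho hR (inf_le_left.trans h5))
      exact GW.ne_one_of_inv z2 (mem_bot.1 (e.le
        ⟨Sig.mem_oz.2 ⟨h5 hz.1, hz.2, GW.mul_self_of_inv z2⟩, hz.1⟩)))
    (H1.le_normalizer_inf (Sig.le_normalizer_oz le_rfl) (norm_le_norm_Sq R))).exists_irr
  have h7 := h6.trans inf_le_right
  by_contra! hn
  by_cases h8 : Nat.card A = 4
  · exact R2.false ⟨⟨h, hA, h8, hi⟩, fun X a b => h.good_of_sq a hR (h1.trans b) h7, hS,
      fun M => hn _ _ M hA⟩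
  obtain ⟨M, hM⟩ := h.core2 hA (eight_le hA.el (hA.four_le h) h8) hi fun a ha a1 =>
    h.good_of_sq (h.cent1_ne a1) hR (FT.le_cent1_iff.2 (Sig.oz_le_centralizer R (h6 ha).1)) h7
  exact hn _ _ M hA hM

/-- The nonabelian simple sections of an `S₃`-free group are Suzuki groups or `L₂(3^(2f+1))`. -/
theorem S3F.kg_full {X : Type u} [Group X] [Finite X] (h : S3F X) : KG X :=
  kg_induction (P := fun X _ _ => S3F X) (fun _ _ _ _ _ _ h h' => h'.of_involves h)
    (fun _ _ _ h => h) (fun _ _ _ _ h => h.exists_zd_full.elim Or.inl fun h' => h'.elim Or.inr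
      fun ⟨_, _, _, h1, h2⟩ => Or.inl (h.szT_of_zd h1 h2)) X h

end CfsgLib.GO
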