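import Cfsg.Agent.Lib.Gol.Small

/-!
# Step B1: reduction to the product disconnected configuration
-/

set_option autoImplicit false

namespace CfsgLib.GO

open Subgroup Cfsg CfsgLib.H1

universe u

theorem MC.exists_zd {G : Type u} [Group G] [Finite G] (h : MC G) :
    SzT G ∨ L3T G ∨ ∃ S A M : Subgroup G, SCA S A ∧ ZD A M := by
  sorry

/-- The case of `3'`-groups. -/
theorem MC.exists_zd' {G : Type u} [Group G] [Finite G] (h : MC G) (h3 : ¬ 3 ∣ Nat.card G) :
    SzT G ∨ ∃ S A M : Subgroup G, SCA S A ∧ ZD A M :=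
  Or.inr (h.zd_of_three h3)

end CfsgLib.GO
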