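import Cfsg.Agent.Lib.GOB.Ctx

/-!
# Elementary abelian Sylow `2`-subgroups are not strongly embedded
-/

set_option autoImplicit false
set_option linter.unusedSectionVars false

namespace CfsgLib.GO

open Subgroup MulAction Cfsg CfsgLib.H1 CfsgLib.SE CfsgLib.Suz

universe u

theorem IHZ.eq_top {m : ℕ} (ih : IHZ.{u} m) {H : Type u} [Group H] [Finite H]
    (hm : Nat.card H < m) (h3 : S3F H) (hK : KG H) {U M : Subgroup H} (hU : IsSylowIn 2 U ⊤)
    (ea : ∀ x ∈ U, x * x = 1) {a b : H} (ha : a ∈ U) (hb : b ∈ U) (a1 : a ≠ 1) (b1 : b ≠ 1)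
    (hne : a ≠ b) (h1 : normalizer (U : Set H) ≤ M) (h2 : ∀ u ∈ U, u ≠ 1 → centralizer {u} ≤ M) :
    M = ⊤ := by
  have : Fact (Nat.Prime 2) := ⟨Nat.prime_two⟩
  by_contra h0
  have hUM := le_normalizer.trans h1
  have cm : ∀ x ∈ U, ∀ y ∈ U, x * y = y * x := fun x hx y hy =>
    comm_of_sq (ea x hx) (ea y hy) (ea _ (U.mul_mem hx hy))
  have key : ∀ u ∈ U, u ≠ 1 → ∀ k, k * u * k⁻¹ ∈ U → k ∈ M := fun u hu u1 k hk => by
    obtain ⟨c, hc, e⟩ := (hU.mono (K := centralizer {k * u * k⁻¹})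
      (fun x hx => mem_cent.2 (cm x hx _ hk)) le_top).exists_conj_eq
      ((hU.map_conj_of_mem_normalizer (g := k) (le_normalizer (mem_top k))).mono
        (map_le_cent (fun x hx => mem_cent.2 (cm x hx u hu)) k) le_top)
    exact (M.mul_mem_cancel_left (h2 _ hk (mt conj_eq_one_iff.1 u1) hc)).1
      (h1 (mem_normalizer_of_map_conj_eq (by rw [map_conj_mul, e])))
  have E := sea_quot h0 ⟨ea a ha, a1⟩ (hUM ha) fun u g hu h4 h5 => by
    obtain ⟨x, hx, e1⟩ := (hU.mono hUM le_top).exists_conj_le (Invol.isPGroup_zpowers hu.1)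
      (zpowers_le.2 h4)
    obtain ⟨y, hy, e2⟩ := (hU.mono hUM le_top).exists_conj_le
      (Invol.isPGroup_zpowers (hu.conj g).1) (zpowers_le.2 h5)
    have h6 : y * (g * u * g⁻¹) * y⁻¹ ∈ U := e2 (mem_map_of_mem _ (mem_zpowers _))
    have := key _ (e1 (mem_map_of_mem _ (mem_zpowers u))) (hu.conj x).2 (y * g * x⁻¹)
      (by simpa [mul_assoc] using h6)
    exact (M.mul_mem_cancel_left hy).1 ((M.mul_mem_cancel_right (M.inv_mem hx)).1 this)
  have R : ZS H (H ⧸ M) {u | IsInv u} :=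
    { inv := fun _ h => h
      conj := fun _ h g => IsInv.conj h g
      two := fun z _ w _ hp => or_iff_not_imp_left.2 fun e => ⟨by
        obtain ⟨x, -, h4⟩ := hU.exists_conj_le hp le_top
        have : x * (z * w) * x⁻¹ * (x * (z * w) * x⁻¹) = 1 :=
          ea _ (h4 (mem_map_of_mem _ (mem_zpowers _)))
        rwa [conj_mul, conj_eq_one_iff] at this, e⟩
      trans := E.trans
      nontriv := E.nontriv
      uniq := E.uniq
      four := ⟨((1 : H) : H ⧸ M), a, ⟨ea a ha, a1⟩, b, ⟨ea b hb, b1⟩,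
        (stab_quot_one M).ge (hUM ha), (stab_quot_one M).ge (hUM hb), hne, cm a ha b hb⟩ }
  obtain ⟨δ, -⟩ := R.nontriv
  obtain ⟨n, L⟩ := ih.ln R (X := ⊤) (α := δ) (card_top.trans_lt hm) (h3.subgroup ⊤) (hK.subgroup ⊤)
    (fun e => R.stab_ne_top δ (top_le_iff.1 e)) (by rw [top_inf_eq]; exact R.f4 δ)
  have h4 := L.cA U hU
  rw [show zs {u | IsInv u} U = U from le_antisymm (zs_le _ _) fun x hx =>
    (R.mem_zs hU.isPGroup).2 (or_iff_not_imp_left.2 fun e => ⟨⟨ea x hx, e⟩, hx⟩), L.cT U hU] at h4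
  have h6 : 2 ^ 3 ≤ 2 ^ n := Nat.pow_le_pow_right two_pos L.three
  have h7 := (Nat.le_mul_of_pos_right _ Nat.card_pos).trans_eq h4
  generalize 2 ^ n = q at h6 h7
  nlinarith

theorem Ctx.le_of_ea {G Ω : Type u} [Group G] [Finite G] [MulAction G Ω] {Z : Set G}
    (h : Ctx G Ω Z) {X U M : Subgroup G} (hX : X ≠ ⊤) (hU : IsSylowIn 2 U X)
    (ea : ∀ x ∈ U, x * x = 1) {a b : G} (ha : a ∈ U) (hb : b ∈ U) (a1 : a ≠ 1) (b1 : b ≠ 1)
    (hne : a ≠ b) (h1 : normalizer (U : Set G) ≤ M)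
    (h2 : ∀ u ∈ U, u ≠ 1 → X ⊓ centralizer {u} ≤ M) : X ≤ M := by
  lift a to X using hU.le ha
  lift b to X using hU.le hb
  exact subgroupOf_eq_top.1 (h.ih.eq_top (card_lt_of_ne_top hX) (h.s3f.subgroup X) (h.kg X hX)
    (subgroupOf_self X ▸ hU.subgroupOf le_rfl) (fun x hx => Subtype.ext (ea x hx)) ha hb
    (fun e => a1 (congrArg Subtype.val e)) (fun e => b1 (congrArg Subtype.val e))
    (fun e => hne (congrArg Subtype.val e))
    (fun x hx => h1 (by rwa [← mem_normalizer_map_subtype, map_subtype_subgroupOf hU.le] at hx))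
    fun u hu u1 x hx => h2 u hu (fun e => u1 (Subtype.ext e))
      ⟨x.2, mem_cent.2 (congrArg Subtype.val (mem_cent.1 hx))⟩)

end CfsgLib.GO
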