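import Cfsg.Agent.Lib.GOB.UTV
import Cfsg.Agent.Lib.GOB.SEab

/-!
# No four-group fixes two points
-/

set_option autoImplicit false
set_option linter.unusedSectionVars false

namespace CfsgLib.GO

open Subgroup MulAction Cfsg CfsgLib.H1 CfsgLib.SE CfsgLib.Suz

universe u

/-- `w` lies in a four-group fixing the line of `w` pointwise. -/
def BigL {G : Type*} [Group G] (Ω : Type*) [MulAction G Ω] (w : G) : Prop :=
  ∃ x, IsInv x ∧ x ≠ w ∧ x ∈ Nw Ω w ∧ x * w = w * x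

theorem BigL.conj {G Ω : Type*} [Group G] [MulAction G Ω] {w : G} (h : BigL Ω w) (g : G) :
    BigL Ω (g * w * g⁻¹) :=
  let ⟨x, h1, h2, h3, h4⟩ := h
  ⟨g * x * g⁻¹, h1.conj g, fun e => h2 (by simpa using e), conj_mem_Nw h3,
    by rw [conj_mul, conj_mul, h4]⟩

theorem ncard_offDiag {α : Type*} [Finite α] (s : Set α) :
    s.offDiag.ncard = s.ncard * s.ncard - s.ncard := by
  obtain ⟨t, rfl⟩ := (Set.toFinite s).exists_finset_coe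
  rw [← Finset.coe_offDiag, Set.ncard_coe_finset, Set.ncard_coe_finset, Finset.offDiag_card]

namespace BC

variable {G Ω : Type u} [Group G] [Finite G] [MulAction G Ω] {Z : Set G} {n : ℕ}
  (h : BC G Ω Z n)
include h

theorem exists_line {u : G} (hu : IsInv u) (hu' : u ∉ Z) {γ : Ω} (hγ : u • γ ≠ γ) :
    ∃ t ∈ Z, ∃ T, IsSylowIn 2 T (centralizer {u}) ∧ t ∈ T ∧ (u * t) • γ = γ := by
  have : Fact (Nat.Prime 2) := ⟨Nat.prime_two⟩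
  obtain ⟨a, ha, h1⟩ := h.exists_fix γ
  obtain ⟨t, ht, -, h2, h3⟩ := h.exists_t h.cen hu.1 ha
  obtain ⟨T, h4, hT⟩ := IsSylowIn.exists_ge (Invol.isPGroup_zpowers (h.sq ht))
    (zpowers_le.2 (mem_cent.2 h2))
  exact ⟨t, ht, T, hT, h4 (mem_zpowers t), h.fix_of_comm ha h1 h3⟩

theorem odd_le {w : G} (hw : IsInv w) (hw' : w ∉ Z) (hb : BigL Ω w) {T R : Subgroup G}
    (hT : IsSylowIn 2 T (centralizer {w})) {α : Ω} (h1 : T ≤ stabilizer G α)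
    (hR : Odd (Nat.card R)) (h2 : R ≤ stabilizer G α) (h3 : T ≤ normalizer (R : Set G)) :
    R ≤ Nw Ω w := by
  have : Fact (Nat.Prime 2) := ⟨Nat.prime_two⟩
  have key : ∀ y ∈ T, IsInv y → y ∈ Nw Ω w → R ⊓ centralizer {y} ≤ Nw Ω w := by
    rintro y hy y1 y2 r ⟨hr, hr'⟩
    obtain ⟨y3, y4⟩ := h.fix_eq hw hw' y1 y2
    obtain ⟨T', h4, hT'⟩ := IsSylowIn.exists_ge hT.isPGroup (H := centralizer {y})
      fun t ht => mem_cent.2 (h.central hw hw' hT hy y1.1 ht)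
    have L := h.ln y y1 y3
    rw [Nw, ← y4]
    refine L.oddc T' hT' r hr' (odd_orderOf_of_mem hR hr) fun a ha => ?_
    rw [h.zs_eq_of_card ((h.ln w hw hw').cA T hT) hT'.isPGroup ((zs_le Z T).trans h4)] at ha
    rcases (h.mem_zs hT.isPGroup).1 ha with rfl | ⟨a1, a2⟩
    · simp
    have h5 := hT'.le (h4 a2)
    refine mem_of_sq_mem (odd_orderOf_of_mem hR ?_) (L.zz _ (h.conj a a1 r) a a1
      (mul_mem (mul_mem hr' h5) (inv_mem hr')) h5 α (h1 hy)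
      (mul_mem (mul_mem (h2 hr) (h1 a2)) (inv_mem (h2 hr))) (h1 a2))
    have := R.mul_mem hr (conj_mem_of_mem_normalizer (h3 a2) (R.inv_mem hr))
    rwa [(h.inv a a1).inv_eq, ← mul_assoc, ← mul_assoc] at this
  obtain ⟨x, x1, x2, x3, x4⟩ := hb
  obtain ⟨c, hc, h4⟩ := hT.exists_conj_le (Invol.isPGroup_zpowers x1.1)
    (zpowers_le.2 (mem_cent.2 x4))
  obtain ⟨y, y0, y1, y2, y3⟩ : ∃ y ∈ T, IsInv y ∧ w ≠ y ∧ y ∈ Nw Ω w :=
    ⟨c * x * c⁻¹, h4 (mem_map_of_mem _ (mem_zpowers x)), x1.conj c,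
      fun e => x2 (by simpa using e.symm.trans (conj_eq_of_mem_cent hc).symm),
      conj_mem_of_mem_normalizer (cent_le_norm_Nw w hc) x3⟩
  have h5 := h.mem_T hw hw' hT
  have h6 := (mem_cent.1 (hT.le y0)).symm
  exact le_of_four hw y1 y2 h6 hR (h3 h5) (h3 y0) (key w h5 hw (mem_Nw_self w)) (key y y0 y1 y3)
    (key _ (T.mul_mem h5 y0) (isInv_mul hw y1 y2 h6) (mul_mem (mem_Nw_self w) y3))

theorem big_mul {w : G} (hw : IsInv w) (hw' : w ∉ Z) (hb : BigL Ω w) {T : Subgroup G}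
    (hT : IsSylowIn 2 T (centralizer {w})) {a : G} (ha : a ∈ zs Z T) : BigL Ω (w * a) :=
  let ⟨_, g, _, e⟩ := h.exists_conj hw hw' hT ha
  e ▸ hb.conj g

theorem core_Nw {w : G} (hw : IsInv w) (hw' : w ∉ Z) (hb : BigL Ω w) :
    piCoreOf {2}ᶜ (Nw Ω w) = ⊥ := by
  refine eq_bot_iff.2 fun r hr => h.faith r fun γ => ?_
  have h0 := piCoreOf_le (π := {2}ᶜ) (Nw Ω w)
  by_cases hγ : w • γ = γ
  · exact mem_Nf.1 (h0 hr) γ hγ
  obtain ⟨t, ht, T, hT, h1, h2⟩ := h.exists_line hw hw' hγ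
  obtain ⟨δ, h3⟩ := h.fix ht
  have h4 := mem_zs_of ht h1
  obtain ⟨v1, v2⟩ := h.mul_bad hw hw' hT h4
  exact mem_Nf.1 (h.odd_le v1 v2 (h.big_mul hw hw' hb hT h4) (h.exists_conj hw hw' hT h4).1
    (h.le_stab hT.isPGroup ht h1 h3) (odd_piCoreOf (Nw Ω w)) (fun x hx => mem_Nf.1 (h0 hx) δ
      (h.fix_of_comm ht h3 (mem_cent.1 (hT.le h1)).symm))
    (hT.le.trans ((cent_le_norm_Nw w).trans (normalizer_le_normalizer_piCoreOf _))) hr) γ h2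

section
variable {w₀ : G} (hw₀ : IsInv w₀) (hw₀' : w₀ ∉ Z) (hb₀ : BigL Ω w₀)
include hw₀ hw₀' hb₀

theorem core_stab (α : Ω) : piCoreOf {2}ᶜ (stabilizer G α) = ⊥ := by
  obtain ⟨T, β, -, hT, h1, h2, -⟩ := h.exists_flag hw₀ hw₀'
  obtain ⟨g, rfl⟩ := h.trans β α
  have h3 := le_normalizer_piCoreOf (π := {2}ᶜ) (stabilizer G β)
  rw [stab_smul, piCoreOf_map_conj, map_eq_bot_iff_of_injective _ (MulAut.conj g).injective,
    eq_bot_iff, ← h.core_Nw hw₀ hw₀' hb₀]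
  exact le_oddCore (h.odd_le hw₀ hw₀' hb₀ hT h2 (odd_piCoreOf _) (piCoreOf_le _) (h2.trans h3))
    (le_trans (fun x hx => mem_Nf.1 hx β h1) h3) (odd_piCoreOf _)

theorem mem_syl {α : Ω} {S : Subgroup G} (hS : IsSylowIn 2 S (stabilizer G α)) {z : G}
    (hz : z ∈ Z) (h1 : z • α = α) : z ∈ S := by
  obtain ⟨a, ha, h2, h3⟩ := h.na hS z hz h1
  rw [h.core_stab hw₀ hw₀' hb₀, mem_bot, mul_eq_one_iff_eq_inv] at h3
  exact h3 ▸ S.inv_mem h2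

theorem com {α : Ω} {z x : G} (hz : z ∈ Z) (h1 : z • α = α) (hx : x * x = 1) (h2 : x • α = α) :
    x * z = z * x := by
  have : Fact (Nat.Prime 2) := ⟨Nat.prime_two⟩
  obtain ⟨S, h3, hS⟩ := IsSylowIn.exists_ge (Invol.isPGroup_zpowers hx)
    (zpowers_le.2 (show x ∈ stabilizer G α from h2))
  exact h.cen S hS.isPGroup z hz (h.mem_syl hw₀ hw₀' hb₀ hS hz h1) x (h3 (mem_zpowers x))

theorem nz_top (α : Ω) : nz Z ⊤ α = 2 ^ n - 1 := by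
  have : Fact (Nat.Prime 2) := ⟨Nat.prime_two⟩
  obtain ⟨S, hS⟩ := IsSylowIn.exists_in (p := 2) (stabilizer G α)
  rw [← ncard_ne_one (h.cA S (h.sylow_top hS))]
  exact congrArg Set.ncard (Set.ext fun z => ⟨fun e => ⟨mem_zs_of e.1
    (h.mem_syl hw₀ hw₀' hb₀ hS e.1 e.2.2), h.ne_one e.1⟩,
    fun e => ⟨h.mem_of_zs hS.isPGroup e.1 e.2, mem_top z, hS.le (zs_le Z S e.1)⟩⟩)

theorem meet {u v : G} (hu : IsInv u) (hu' : u ∉ Z) (hv : IsInv v) (hv' : v ∉ Z) {α β : Ω}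
    (hne : α ≠ β) (h1 : u • α = α) (h2 : u • β = β) (h3 : v • α = α) (h4 : v • β = β) :
    fixedBy Ω u = fixedBy Ω v := by
  have : Fact (Nat.Prime 2) := ⟨Nat.prime_two⟩
  have := h.finite
  have key : ∀ z ∈ Z, ∀ γ : Ω, z • γ = γ → u • γ = γ → v • γ = γ →
      z ∈ centralizer {u} ⊓ centralizer {v} := fun z hz γ a b c =>
    ⟨mem_cent.2 (h.com hw₀ hw₀' hb₀ hz a hu.1 b).symm,
      mem_cent.2 (h.com hw₀ hw₀' hb₀ hz a hv.1 c).symm⟩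
  obtain ⟨S, hS⟩ := IsSylowIn.exists_in (p := 2) (stabilizer G α)
  have h5 : zs Z S ≤ centralizer {u} ⊓ centralizer {v} :=
    (closure_le _).2 fun z hz => key z hz.1 α (hS.le hz.2) h1 h3
  obtain ⟨b, hb, h6⟩ := h.exists_fix β
  obtain ⟨m, L⟩ := h.toCtx.ln (ne_top_of_le_ne_top (h.cent_ne_top hu.2 h1) inf_le_left)
    (fun e => hne (h.uniq b hb _ _ (e (key b hb β h6 h2 h4)) h6))
    ((h.f4_of_card hS.isPGroup le_rfl ((h.four_le hS (h.f4 α)).trans_lt' (by norm_num))).mono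
      (le_inf h5 ((zs_le Z S).trans hS.le)))
  obtain ⟨T, h7, hT⟩ := IsSylowIn.exists_ge (hS.isPGroup.to_le (zs_le Z S)) h5
  have h8 := L.cA T hT
  have h9 := h.cA S (h.sylow_top hS)
  rw [h.zs_eq_of_card h9 hT.isPGroup h7, h9] at h8
  have e : ∀ x, IsInv x → x ∉ Z → x • α = α → centralizer {u} ⊓ centralizer {v} ≤ centralizer {x} →
      orbit ↥(centralizer ({u} : Set G) ⊓ centralizer {v}) α = fixedBy Ω x := fun x a b c d =>
    Set.eq_of_subset_of_ncard_le (by rintro _ ⟨g, rfl⟩; exact (h.ln x a b).mem g (d g.2) α c)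
      (by rw [L.card, (h.ln x a b).card, h8])
  exact (e u hu hu' h1 inf_le_left).symm.trans (e v hv hv' h3 inf_le_right)

section
variable {u : G} (hu : IsInv u) (hu' : u ∉ Z)
include hu hu'

theorem cent_Nw {y t : G} (hy : y ∈ Nw Ω u) (ht : t ∈ Z) (hc : t * u = u * t) :
    y * t = t * y := by
  obtain ⟨δ, h1⟩ := h.fix ht
  have h2 := mem_Nf.1 hy δ (h.fix_of_comm ht h1 hc.symm)
  have h3 := h.conj t ht y
  have h4 := conj_smul_eq (g := y) h1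
  rw [h2] at h4
  refine mul_inv_eq_iff_eq_mul.1 (by_contra fun e => h.not_mem_Nf hu hu'
    (h.mul_mem h3 ht (h.com hw₀ hw₀' hb₀ ht h1 (h.sq h3) h4) e) ?_)
  have := mul_mem hy (conj_mem_of_mem_normalizer (cent_le_norm_Nw u (mem_cent.2 hc)) (inv_mem hy))
  rwa [(h.inv t ht).inv_eq, ← mul_assoc, ← mul_assoc] at this

theorem eq_one_of_odd {y : G} (hy : y ∈ Nw Ω u) (hc : y * u = u * y) (ho : Odd (orderOf y)) :
    y = 1 := h.faith y fun γ => by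
  by_cases hγ : u • γ = γ
  · exact mem_Nf.1 hy γ hγ
  obtain ⟨t, ht, T, hT, h1, h2⟩ := h.exists_line hu hu' hγ
  have h4 := mem_zs_of ht h1
  obtain ⟨v1, v2⟩ := h.mul_bad hu hu' hT h4
  have h5 := h.cent_Nw hw₀ hw₀' hb₀ hu hu' hy ht (mem_cent.1 (hT.le h1))
  refine mem_Nf.1 ((h.ln _ v1 v2).oddc T (h.exists_conj hu hu' hT h4).1 y
    (mem_cent.2 (by rw [← mul_assoc, hc, mul_assoc, h5, mul_assoc])) ho fun a ha => ?_) γ h2
  rcases (h.mem_zs hT.isPGroup).1 ha with rfl | ⟨a1, a2⟩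
  · simp
  rw [h.cent_Nw hw₀ hw₀' hb₀ hu hu' hy a1 (mem_cent.1 (hT.le a2)), mul_inv_cancel_right, h.sq a1]
  exact one_mem _

theorem two_U : IsPGroup 2 ↥(Nw Ω u ⊓ centralizer {u}) :=
  have : Fact (Nat.Prime 2) := ⟨Nat.prime_two⟩
  H5.isPGroup_of_forall_coprime fun _ hx e => h.eq_one_of_odd hw₀ hw₀' hb₀ hu hu' hx.1
    (mem_cent.1 hx.2) (Nat.coprime_two_right.1 e)

omit hw₀ hw₀' hb₀ in
theorem sq_of_le {P : Subgroup G} (hP : IsPGroup 2 P) (h1 : P ≤ Nw Ω u) {x : G} (hx : x ∈ P) :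
    x * x = 1 := by
  obtain ⟨-, -, α, β, h2, h3, h4⟩ := h.bad hu hu'
  exact h.sq_of_two (isPGroup_zpowers_of_mem hP hx) h2 (mem_Nf.1 (h1 hx) α h3)
    (mem_Nf.1 (h1 hx) β h4)

omit hw₀ hw₀' hb₀ in
theorem comm_of_le {P : Subgroup G} (hP : IsPGroup 2 P) (h1 : P ≤ Nw Ω u) {x y : G} (hx : x ∈ P)
    (hy : y ∈ P) : x * y = y * x :=
  comm_of_sq (h.sq_of_le hu hu' hP h1 hx) (h.sq_of_le hu hu' hP h1 hy)
    (h.sq_of_le hu hu' hP h1 (P.mul_mem hx hy))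

theorem U_eq {v : G} (hv : v ∈ Nw Ω u ⊓ centralizer {u}) (h1 : v ≠ 1) :
    IsInv v ∧ v ∉ Z ∧ Nw Ω v = Nw Ω u ∧
      Nw Ω u ⊓ centralizer {v} = Nw Ω u ⊓ centralizer {u} := by
  have p := h.two_U hw₀ hw₀' hb₀ hu hu'
  have v1 : IsInv v := ⟨h.sq_of_le hu hu' p inf_le_left hv, h1⟩
  obtain ⟨v2, v3⟩ := h.fix_eq hu hu' v1 hv.1
  have e : Nw Ω v = Nw Ω u := by rw [Nw, v3]
  have p' := h.two_U hw₀ hw₀' hb₀ v1 v2
  rw [e] at p'
  exact ⟨v1, v2, e, le_antisymm (fun x hx => ⟨hx.1, mem_cent.2 (h.comm_of_le hu hu' p' inf_le_left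
    hx ⟨mem_Nw_self u, mem_cent.2 (mem_cent.1 hv.2).symm⟩)⟩)
    fun x hx => ⟨hx.1, mem_cent.2 (h.comm_of_le hu hu' p inf_le_left hx hv)⟩⟩

/-- `U` is a normal Sylow `2`-subgroup of the subgroups `Y ≥ U` with this property. -/
theorem mem_U (hb : BigL Ω u) {Y : Subgroup G} (hY : Y ≠ ⊤)
    (h1 : Nw Ω u ⊓ centralizer {u} ≤ Y) (h2 : ∀ v ∈ Nw Ω u ⊓ centralizer {u}, v ≠ 1 →
      ∀ c ∈ Y, IsPGroup 2 (zpowers c) → c * v = v * c → c ∈ Nw Ω u) {y : G} (hy : y ∈ Y)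
    (h3 : y * y = 1) : y ∈ Nw Ω u ⊓ centralizer {u} := by
  have : Fact (Nat.Prime 2) := ⟨Nat.prime_two⟩
  have p := h.two_U hw₀ hw₀' hb₀ hu hu'
  have u0 : u ∈ Nw Ω u ⊓ centralizer {u} := ⟨mem_Nw_self u, mem_cent.2 rfl⟩
  have hU : IsSylowIn 2 (Nw Ω u ⊓ centralizer {u}) Y := sylow_of_normalizer
    (IsSylowIn.of_maximal (le_inf h1 le_normalizer) p fun P hP a b => by
      obtain ⟨⟨v, hv⟩, h4⟩ := ne_bot_iff_exists_ne_one.1
        (inf_centralizer_ne_bot_of_isNilpotent hP.isNilpotent a (b.trans inf_le_right)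
          fun e => hu.2 (e.le u0))
      have h5 : v ≠ 1 := fun e => h4 (Subtype.ext e)
      rw [← (h.U_eq hw₀ hw₀' hb₀ hu hu' hv.1 h5).2.2.2]
      exact fun c hc => ⟨h2 v hv.1 h5 c (b hc).1 (isPGroup_zpowers_of_mem hP hc) (hv.2 c hc),
        mem_cent.2 (hv.2 c hc)⟩)
  obtain ⟨x, x1, x2, x3, x4⟩ := hb
  have h4 := h.le_of_ea hY hU (fun x hx => h.sq_of_le hu hu' p inf_le_left hx)
    ⟨x3, mem_cent.2 x4⟩ u0 x1.2 hu.2 x2 le_rfl fun v hv v1 => inf_le_right.trans (by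
      obtain ⟨-, -, e1, e2⟩ := h.U_eq hw₀ hw₀' hb₀ hu hu' hv v1
      rw [← e2, ← e1]
      exact le_normalizer_inf (cent_le_norm_Nw v) le_normalizer)
  exact (hU.eq_of_le (isPGroup_sup_of_le_normalizer (Invol.isPGroup_zpowers h3) p
    (zpowers_le.2 (h4 hy))) le_sup_right (sup_le (zpowers_le.2 hy) h1)).le
    (mem_sup_left (mem_zpowers y))

theorem comm_Nw (hb : BigL Ω u) {y : G} (hy : y ∈ Nw Ω u) (h3 : y * y = 1) : y * u = u * y := by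
  obtain ⟨-, -, α, -, -, h1, -⟩ := h.bad hu hu'
  exact mem_cent.1 (h.mem_U hw₀ hw₀' hb₀ hu hu' hb (Y := Nw Ω u)
    (ne_top_of_le_ne_top (h.stab_ne_top α)
    fun x hx => mem_Nf.1 hx α h1) inf_le_left (fun _ _ _ _ hc _ _ => hc) hy h3).2

end

theorem big_three {a t : G} (ha : a ∈ Z) (ht : t ∈ Z) (c1 : t * w₀ = w₀ * t)
    (c2 : w₀ * t * a = a * (w₀ * t)) :
    IsInv (w₀ * t * a) ∧ w₀ * t * a ∉ Z ∧ BigL Ω (w₀ * t * a) := by
  have : Fact (Nat.Prime 2) := ⟨Nat.prime_two⟩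
  have key : ∀ w, IsInv w → w ∉ Z → BigL Ω w → ∀ t ∈ Z, t * w = w * t →
      IsInv (w * t) ∧ w * t ∉ Z ∧ BigL Ω (w * t) := fun w a b c t ht d => by
    obtain ⟨T, h4, hT⟩ := IsSylowIn.exists_ge (Invol.isPGroup_zpowers (h.sq ht))
      (zpowers_le.2 (mem_cent.2 d))
    have := mem_zs_of ht (h4 (mem_zpowers t))
    exact ⟨(h.mul_bad a b hT this).1, (h.mul_bad a b hT this).2, h.big_mul a b c hT this⟩
  obtain ⟨h1, h2, h3⟩ := key _ hw₀ hw₀' hb₀ t ht c1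
  exact key _ h1 h2 h3 a ha c2.symm

theorem line_disj {a t : G} (ha : a ∈ Z) {β : Ω} (h1 : a • β = β) (h2 : w₀ • β ≠ β) (ht : t ∈ Z)
    (c1 : t * w₀ = w₀ * t) (c2 : w₀ * t * a = a * (w₀ * t)) {γ : Ω} (h3 : (w₀ * t * a) • γ = γ) :
    w₀ • γ ≠ γ := fun h4 => by
  have h5 : ∀ δ : Ω, t • δ = δ → a • δ ≠ δ := fun δ e1 e2 =>
    h2 (h.uniq a ha _ _ e2 h1 ▸ h.fix_of_comm ht e1 c1.symm)
  have h6 : t • γ ≠ γ := fun e => h5 γ e (by
    rwa [c2, mul_smul, mul_smul, e, h4] at h3)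
  obtain ⟨c, hc, h7⟩ := h.exists_fix γ
  have h8 : c * (t * a) = t * a * c := by
    have e1 := h.com hw₀ hw₀' hb₀ hc h7 hw₀.1 h4
    have e2 := h.com hw₀ hw₀' hb₀ hc h7 (h.big_three hw₀ hw₀' hb₀ ha ht c1 c2).1.1 h3
    rw [mul_assoc w₀, ← mul_assoc c, ← e1, mul_assoc w₀, mul_assoc w₀, mul_left_cancel_iff] at e2
    exact e2.symm
  have h9 : c ∈ centralizer (zpowers (t * a) : Set G) := by
    rw [centralizer_zpowers]; exact mem_cent.2 h8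
  obtain ⟨s, -, h10, e⟩ := h.exists_swap hc ht h7 h6 (centralizer_le_normalizer _ h9)
    (L := normalizer (zpowers (t * a) : Set G)) (mem_normalizer_fintype fun x hx => by
      rw [Invol.inverts_of_mem_zpowers (Invol.inverts_mul (h.sq ht) (h.sq ha)) hx]
      exact inv_mem hx)
  have h11 := conj_mem_of_mem_normalizer (le_normalizer_centralizer le_rfl h10) h9
  rw [e, centralizer_zpowers, mem_cent, mul_assoc, mul_left_cancel_iff] at h11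
  exact h5 β (h.fix_of_comm ha h1 h11) h1

theorem line_inj {a t b s : G} (ha : a ∈ Z) {β : Ω} (h1 : a • β = β) (h2 : w₀ • β ≠ β)
    (ht : t ∈ Z) (c1 : t * w₀ = w₀ * t) (c2 : w₀ * t * a = a * (w₀ * t)) (hb : b ∈ Z)
    (hs : s ∈ Z) (d1 : s * w₀ = w₀ * s) (d2 : w₀ * s * b = b * (w₀ * s))
    (e : fixedBy Ω (w₀ * t * a) = fixedBy Ω (w₀ * s * b)) : a = b := by
  by_contra hne
  obtain ⟨v1, v2, v3⟩ := h.big_three hw₀ hw₀' hb₀ ha ht c1 c2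
  obtain ⟨y1, -⟩ := h.big_three hw₀ hw₀' hb₀ hb hs d1 d2
  have y2 : w₀ * s * b ∈ Nw Ω (w₀ * t * a) := by rw [Nw, e]; exact mem_Nw_self _
  have c3 : a * (w₀ * t * a) = w₀ * t * a * a := by rw [← mul_assoc, c2]
  have d3 : b * (w₀ * s * b) = w₀ * s * b * b := by rw [← mul_assoc, d2]
  have e1 : w₀ * t * a * a = w₀ * t := by rw [mul_assoc, h.sq ha, mul_one]
  have e2 : w₀ * s * b * b = w₀ * s := by rw [mul_assoc, h.sq hb, mul_one]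
  have e3 : w₀ * t * (w₀ * s) = t * s := by rw [← c1, mul_assoc, hw₀.mul_mul]
  have h3 : (w₀ * t * a) • β = β := by rw [mul_smul, h1]; exact h.fix_of_comm ha h1 c2
  have tu := h.t_uniq hw₀.1 ha h1 h2 ht hs c1 d1 c2
  generalize w₀ * t * a = v at *
  generalize w₀ * s * b = y at *
  obtain ⟨γ, h4⟩ := h.fix hb
  have h5 : v • γ = γ := e.ge (h.fix_of_comm hb h4 d3.symm)
  have c4 := h.com hw₀ hw₀' hb₀ hb h4 v1.1 h5
  have c5 := h.cent_Nw hw₀ hw₀' hb₀ v1 v2 y2 ha c3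
  have c6 := h.comm_Nw hw₀ hw₀' hb₀ v1 v2 v3 y2 y1.1
  have e4 : t * s = v * y * (a * b) := by
    rw [← e3, ← e1, ← e2, mul_assoc v, ← mul_assoc a, ← c5, mul_assoc, mul_assoc]
  have h6 : β ≠ γ := by
    rintro rfl
    obtain rfl := tu (by
      rw [← e2, mul_assoc, h.com hw₀ hw₀' hb₀ ha h1 (h.sq hb) h4, ← mul_assoc, c5, mul_assoc])
    have h7 := mul_mem (inv_mem (mul_mem (mem_Nw_self (Ω := Ω) v) y2)) (one_mem _)
    rw [← h.sq ht, e4, inv_mul_cancel_left] at h7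
    exact h.not_mem_Nf v1 v2 (h.mul_mem ha hb (h.com hw₀ hw₀' hb₀ hb h4 (h.sq ha) h1) hne) h7
  have o1 := h.odd_mul hb ha h4 (h.smul_ne ha h1 h6.symm)
  rw [← orderOf_inv, mul_inv_rev, (h.inv a ha).inv_eq, (h.inv b hb).inv_eq] at o1
  have h7 : a * b ≠ 1 := fun e => hne (by rw [eq_inv_of_mul_eq_one_left e, (h.inv b hb).inv_eq])
  have c7 : Commute (v * y) (a * b) :=
    (Commute.mul_right c3.symm c4).mul_left (Commute.mul_right c5 d3.symm)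
  have q1 := sq_of_comm v1.1 y1.1 c6.symm
  have q2 : t * s * (t * s) = a * b * (a * b) := by
    rw [e4, ← pow_two, c7.mul_pow, pow_two, q1, one_mul, pow_two]
  have q3 : t * s * (t * s) ≠ 1 := fun e => h7 (Invol.eq_one_of_odd o1 (q2 ▸ e))
  obtain ⟨δ, h8⟩ := h.fix ht
  have o2 := h.odd_mul ht hs h8 fun e =>
    q3 (sq_of_comm (h.sq ht) (h.sq hs) (h.com hw₀ hw₀' hb₀ hs e (h.sq ht) h8))
  have e5 : t * s = a * b := by
    have : v * y = t * s * (a * b)⁻¹ := by rw [e4, mul_inv_cancel_right]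
    have c8 : Commute (t * s) (a * b)⁻¹ := (e4 ▸ c7.mul_left (Commute.refl _)).inv_right
    rw [e4, Invol.eq_one_of_odd (((o2.mul o1).of_dvd_nat ?_)) q1, one_mul]
    rw [this, ← orderOf_inv (a * b)]
    exact c8.orderOf_mul_dvd_mul_orderOf
  have h9 := h.mem_U hw₀ hw₀' hb₀ hw₀ hw₀' hb₀ (Y := centralizer {t * s}) (fun e => ?_)
    (fun x hx => mem_cent.2 (Commute.mul_right (h.cent_Nw hw₀ hw₀' hb₀ hw₀ hw₀' hx.1 ht c1)
      (h.cent_Nw hw₀ hw₀' hb₀ hw₀ hw₀' hx.1 hs d1))) (fun x hx x1 c hc hp c8 => ?_) (y := v)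
    (e5 ▸ mem_cent.2 (Commute.mul_right c3.symm c4)) v1.1
  · exact h2 ((h.fix_eq hw₀ hw₀' v1 h9.1).2.le h3)
  · have := mem_cent.1 (e.ge (mem_top t))
    rw [mul_assoc, mul_left_cancel_iff] at this
    exact q3 (sq_of_comm (h.sq ht) (h.sq hs) this)
  obtain ⟨x2, x3, x4, -⟩ := h.U_eq hw₀ hw₀' hb₀ hw₀ hw₀' hx x1
  have t1 := (h.cent_Nw hw₀ hw₀' hb₀ hw₀ hw₀' hx.1 ht c1).symm
  have t2 := (h.cent_Nw hw₀ hw₀' hb₀ hw₀ hw₀' hx.1 hs d1).symm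
  rw [← x4]
  refine (h.ln x x2 x3).real t ht s hs (mem_cent.2 t1) (mem_cent.2 t2) (fun e => q3 ?_) c
    (mem_cent.2 c8) hp (mem_cent.1 hc)
  rw [h.eq_one_of_odd hw₀ hw₀' hb₀ x2 x3 (mem_of_sq_mem o2 e) (Commute.mul_left t1 t2) o2, one_mul]

theorem false_of_big : False := by
  have := h.finite
  have e1 := h.cnt_pts (X := ⊤) (W := (fixedBy Ω w₀)ᶜ) fun β _ => h.nz_top hw₀ hw₀' hb₀ β
  have e2 := ncard_mul_le (s := {z | z ∈ Z ∧ z ∈ (⊤ : Subgroup G) ∧ ∃ β ∈ (fixedBy Ω w₀)ᶜ, z • β = β})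
    (t := (fixedBy Ω w₀)ᶜ.offDiag) (fun a p => ∃ t ∈ Z, t * w₀ = w₀ * t ∧
      w₀ * t * a = a * (w₀ * t) ∧ p ∈ (fixedBy Ω (w₀ * t * a)).offDiag)
    (m := ((2 ^ n) ^ 2 + 1) * ((2 ^ n) ^ 2 + 1) - ((2 ^ n) ^ 2 + 1)) (k := 1) ?_ ?_
  · have h8 := Set.ncard_add_ncard_compl (fixedBy Ω w₀)
    have h9 := h.eight
    rw [(h.ln _ hw₀ hw₀').card, h.card_pts, mul_add_one, add_comm, Nat.add_right_cancel_iff] at h8
    rw [e1, ncard_offDiag, mul_one, ← Nat.mul_sub_one, ← Nat.mul_sub_one, Nat.add_sub_cancel,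
      mul_assoc] at e2
    have h10 : 0 < (fixedBy Ω w₀)ᶜ.ncard := by
      rw [h8]
      exact Nat.mul_pos (Nat.succ_pos _) (Nat.mul_pos (by positivity) (by omega))
    have := Nat.le_of_mul_le_mul_left e2 h10
    rw [show (2 ^ n - 1) * (((2 ^ n) ^ 2 + 1) * (2 ^ n) ^ 2) = (fixedBy Ω w₀)ᶜ.ncard by
      rw [h8]; ring] at this
    omega
  · rintro a ⟨ha, -, β, h1, h2⟩
    obtain ⟨t, ht, -, c1, c2⟩ := h.exists_t h.cen hw₀.1 ha
    obtain ⟨v1, v2, -⟩ := h.big_three hw₀ hw₀' hb₀ ha ht c1 c2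
    rw [← (h.ln _ v1 v2).card, ← ncard_offDiag]
    exact Set.ncard_le_ncard fun p hp => ⟨⟨h.line_disj hw₀ hw₀' hb₀ ha h2 h1 ht c1 c2 hp.1,
      h.line_disj hw₀ hw₀' hb₀ ha h2 h1 ht c1 c2 hp.2.1, hp.2.2⟩, t, ht, c1, c2, hp⟩
  · refine fun p _ => (Set.ncard_le_one (Set.toFinite _)).2 ?_
    rintro a ⟨⟨ha, -, β, h1, h2⟩, t, ht, c1, c2, hp⟩ b ⟨⟨hb, -⟩, s, hs, d1, d2, hq⟩
    obtain ⟨v1, v2, -⟩ := h.big_three hw₀ hw₀' hb₀ ha ht c1 c2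
    obtain ⟨y1, y2, -⟩ := h.big_three hw₀ hw₀' hb₀ hb hs d1 d2
    exact h.line_inj hw₀ hw₀' hb₀ ha h2 h1 ht c1 c2 hb hs d1 d2
      (h.meet hw₀ hw₀' hb₀ v1 v2 y1 y2 hp.2.2 hp.1 hp.2.1 hq.1 hq.2.1)

end

end BC

end CfsgLib.GO
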