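import Cfsg.Agent.Lib.GOB.LemY2
import Cfsg.Agent.Lib.GW.Psl
import Cfsg.Agent.Lib.ClassCount
import Cfsg.Agent.Lib.FusionRadical

/-!
# Known `S₃`-free groups transitive on the involutions of a normal elementary abelian subgroup
-/

set_option autoImplicit false

namespace CfsgLib.GO

open Subgroup Cfsg CfsgLib.H1 CfsgLib.Suz CfsgLib.Cop
open scoped commutatorElement IsMulCommutative

universe u

variable {N : Type u} [Group N] [Finite N]

omit [Finite N] in
theorem ker_conjNormal (A : Subgroup N) [A.Normal] :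
    (MulAut.conjNormal : N →* MulAut A).ker = centralizer (A : Set N) := by
  ext g
  rw [MonoidHom.mem_ker, MulEquiv.ext_iff, mem_centralizer_iff]
  exact ⟨fun h a ha => (mul_inv_eq_iff_eq_mul.1 (congrArg Subtype.val (h ⟨a, ha⟩))).symm,
    fun h a => Subtype.ext (mul_inv_eq_iff_eq_mul.2 (h a a.2).symm)⟩

omit [Finite N] in
theorem tr_of {A : Subgroup N} [A.Normal] [IsMulCommutative A] (hA : IsElementaryAbelian 2 A)
    (htr : ∀ a ∈ A, ∀ b ∈ A, a ≠ 1 → b ≠ 1 → ∃ g, g * a * g⁻¹ = b) :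
    TR (QuotientGroup.kerLift (MulAut.conjNormal : N →* MulAut A)) :=
  ⟨QuotientGroup.kerLift_injective _, fun v => Subtype.ext (hA.2 v v.2), fun a b ha hb =>
    let ⟨g, hg⟩ := htr a a.2 b b.2 (fun e => ha (Subtype.ext e)) fun e => hb (Subtype.ext e)
    ⟨g, Subtype.ext hg⟩⟩

theorem lemY_solv (h3 : S3F N) (hK : KG N) {A : Subgroup N} [A.Normal]
    (hA : IsElementaryAbelian 2 A)
    (htr : ∀ a ∈ A, ∀ b ∈ A, a ≠ 1 → b ≠ 1 → ∃ g, g * a * g⁻¹ = b) :
    Group.IsSolvable (N ⧸ centralizer (A : Set N)) :=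
  have := hA.1
  isSolvable_of_equiv (QuotientGroup.quotientMulEquivOfEq (ker_conjNormal A))
    ((tr_of hA htr).solvable (h3.quot _) (hK.quot _))

theorem lemY_inv (h3 : S3F N) (hK : KG N) {A : Subgroup N} [A.Normal]
    (hA : IsElementaryAbelian 2 A)
    (htr : ∀ a ∈ A, ∀ b ∈ A, a ≠ 1 → b ≠ 1 → ∃ g, g * a * g⁻¹ = b) {w : N}
    (h1 : w * w ∈ centralizer (A : Set N)) (h2 : w ∉ centralizer (A : Set N)) :
    Nat.card A = Nat.card ↥(A ⊓ centralizer {w}) ^ 2 ∧
      3 ∣ Nat.card ↥(A ⊓ centralizer {w}) - 1 := by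
  have := hA.1
  rw [← ker_conjNormal] at h1 h2
  have h := (tr_of hA htr).inv (h3.quot _) (hK.quot _) (w := (w : N ⧸ _))
    ((QuotientGroup.eq_one_iff _).2 h1) fun e => h2 ((QuotientGroup.eq_one_iff _).1 e)
  rwa [← card_map_of_injective A.subtype_injective, show Subgroup.map A.subtype _ =
    A ⊓ centralizer {w} from le_antisymm ?_ ?_] at h
  · rintro _ ⟨a, ha, rfl⟩
    exact ⟨a.2, mem_centralizer_singleton_iff.2
      (mul_inv_eq_iff_eq_mul.1 (congrArg Subtype.val ha)).symm⟩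
  · exact fun a ha => ⟨⟨a, ha.1⟩, Subtype.ext
      (mul_inv_eq_iff_eq_mul.2 (mem_centralizer_singleton_iff.1 ha.2).symm), rfl⟩

theorem solvable_of_sylow_normal {S K : Subgroup N} (hS : IsSylowIn 2 S K)
    (hn : K ≤ normalizer (S : Set N)) : Group.IsSolvable K := by
  have := (normal_subgroupOf_iff_le_normalizer hS.le).2 hn
  exact isSolvable_of_normal_of_quotient (S.subgroupOf K)
    (isSolvable_of_isPGroup (hS.isPGroup.comap_subtype))
    (FT.feit_thompson (Nat.not_even_iff_odd.1 fun h => hS.not_dvd (even_iff_two_dvd.1 h)))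

/-- A known simple group has one class of involutions. -/
theorem KG.oneCl (hK : KG N) [IsSimpleGroup N] (hn : ¬ Group.IsSolvable N) {u v : N}
    (hu : orderOf u = 2) (hv : orderOf v = 2) : ∃ g, g * u * g⁻¹ = v := by
  rcases hK N (involves_self N) inferInstance fun _ => hn isSolvable_of_isMulCommutative with
    ⟨H, Q, t, Z, -⟩ | h
  · have key : ∀ {x : N}, orderOf x = 2 → ∃ g, x = g⁻¹ * t * g := fun hx =>
      Z.toRO.invol_conj_t (fun e => by simp [e] at hx) (by rw [← sq, ← hx, pow_orderOf_eq_one])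
    obtain ⟨g, rfl⟩ := key hu
    obtain ⟨k, rfl⟩ := key hv
    exact ⟨k⁻¹ * g, by group⟩
  · have h8 := h.not_eight_dvd
    obtain ⟨F, _, _, f, -, hF, ⟨e⟩⟩ := h
    have h1 := GW.psl_E4 (F := F) (Or.inl (by
      rw [hF, pow_succ, pow_mul, Nat.mul_mod, Nat.pow_mod]; simp))
    rcases GW.nilp2_or_oneCl ⟨h8, fun g => e.orderOf_eq g ▸ h1.not4 (e g)⟩ (⊤ : Subgroup N) with
      h2 | ⟨-, h2⟩
    · exfalso
      rcases (normalizer_eq_top_iff.1 (eq_top_iff.2
        (FT.le_norm_piCoreOf {2}ᶜ (⊤ : Subgroup N)))).eq_bot_or_eq_top with h4 | h4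
      · refine hn (isSolvable_of_isPGroup (p := 2)
          (FT.isPGroup_of_forall_prime_dvd fun r hr hd => by_contra fun h5 => ?_))
        have := Fact.mk hr
        obtain ⟨g, hg⟩ := exists_prime_orderOf_dvd_card' r hd
        rw [mem_bot.1 (h4.le (h2 g (mem_top g) (hg ▸ hr.odd_of_ne_two h5))), orderOf_one] at hg
        exact hr.one_lt.ne hg
      · refine hn (FT.feit_thompson (Nat.not_even_iff_odd.1 fun h5 => ?_))
        exact FT.piCoreOf_isPi {2}ᶜ (⊤ : Subgroup N) 2 Nat.prime_two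
          (by rw [h4, card_top]; exact even_iff_two_dvd.1 h5) rfl
    · obtain ⟨g, -, hg⟩ := h2 u (mem_top u) v (mem_top v) hu hv
      exact ⟨g, hg⟩

omit [Finite N] in
theorem exists_ne_ne {A : Subgroup N} (h4 : 4 ≤ Nat.card A) (a : N) :
    ∃ b ∈ A, b ≠ 1 ∧ b ≠ a := by
  by_contra! h
  have h1 := Set.ncard_le_ncard (show (A : Set N) ⊆ {1, a} from fun b hb =>
    or_iff_not_imp_left.2 (h b hb))
  have h2 := Set.ncard_insert_le (1 : N) {a}
  rw [Set.ncard_singleton] at h2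
  rw [← SetLike.coe_sort_coe, Nat.card_coe_set_eq] at h4
  omega

/-- Higman's theorem applies to a Sylow `2`-subgroup of `C(A)`. -/
theorem higman_of_tr (h3 : S3F N) (hK : KG N) {A S : Subgroup N} [A.Normal]
    (hA : IsElementaryAbelian 2 A) (h4 : 4 ≤ Nat.card A)
    (htr : ∀ a ∈ A, ∀ b ∈ A, a ≠ 1 → b ≠ 1 → ∃ g, g * a * g⁻¹ = b)
    (hI : ∀ u : N, u * u = 1 → u ∈ A) (hS : IsSylowIn 2 S (centralizer (A : Set N))) :
    IsMulCommutative S ∨ (∀ x ∈ S, x ^ 4 = 1) ∧ ∀ x ∈ S, ∀ y ∈ S, ⁅x, y⁆ ∈ A := by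
  have := hA.1
  have h1 := lemY_solv h3 hK hA htr
  have h2 : Group.IsSolvable (normalizer (S : Set N)) := by
    have := isSolvable_subgroupOf (solvable_of_sylow_normal
      (hS.mono (le_inf hS.le le_normalizer) inf_le_left) inf_le_right) (normalizer (S : Set N))
    refine Group.isSolvable_of_ker_le_range (((centralizer (A : Set N) ⊓ normalizer (S : Set N)
      ).subgroupOf (normalizer (S : Set N))).subtype)
      ((QuotientGroup.mk' (centralizer (A : Set N))).comp (normalizer (S : Set N)).subtype)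
      fun x hx => ⟨⟨x, (QuotientGroup.eq_one_iff _).1 hx, x.2⟩, rfl⟩
  obtain ⟨D, hD⟩ := Hall.exists_isPiHall h2 {2}ᶜ
  obtain ⟨h5, n, h6⟩ := Hall.isPiHall_compl_singleton_iff.1 hD
  have hAS : A ≤ S := FT.le_sylow_of_norm' hS (IsElementaryAbelian.isPGroup hA)
    (IsElementaryAbelian.le_centralizer hA) le_normalizer_of_normal
  have h7 : ∀ a b : A, a ≠ 1 → b ≠ 1 → ∃ y, (MulAut.conjNormal.comp
      (normalizer (S : Set N)).subtype) y a = b := fun a b ha hb => by
    obtain ⟨g, hg⟩ := htr a a.2 b b.2 (fun e => ha (Subtype.ext e)) fun e => hb (Subtype.ext e)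
    obtain ⟨k, hk, h7⟩ := hS.frattini_elem (g := g) (le_normalizer_of_normal (mem_top g))
    refine ⟨⟨_, h7⟩, Subtype.ext ?_⟩
    change k * g * a * (k * g)⁻¹ = b
    rw [← mul_inv_cancel_right (b : N) k, hk b b.2, ← hg]
    group
  have H : HigSetup (S.normalizerMonoidHom.comp D.subtype) := by
    refine ⟨hS.isPGroup, Nat.coprime_two_right.1 h5, inferInstance, fun x y h8 h9 h10 h11 => ?_, ?_⟩
    · have h12 : ∀ x : S, x ^ 2 = 1 → (x : N) ∈ A := fun x hx =>
        hI x (by rw [← sq]; exact congrArg Subtype.val hx)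
      obtain ⟨g, hg⟩ := h7 ⟨x, h12 x h9⟩ ⟨y, h12 y h11⟩
        (fun e => h8 (Subtype.ext (congrArg (fun a : A => (a : N)) e)))
        fun e => h10 (Subtype.ext (congrArg (fun a : A => (a : N)) e))
      obtain ⟨k, hk, s, hs, rfl⟩ := ClassCount.exists_mul_of_coprime_index (K := D)
        (h6 ▸ (Nat.coprime_two_left.2 (odd_index_of_tr (fun v => Subtype.ext (hA.2 v v.2)) h7
          ⟨x, h12 x h9⟩)).pow_left n) g
      rw [act_mul, mem_stab.1 hs] at hg
      exact ⟨⟨k, hk⟩, Subtype.ext (congrArg (fun a : A => (a : N)) hg)⟩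
    · obtain ⟨a, ha, h8, -⟩ := exists_ne_ne h4 1
      obtain ⟨b, hb, h9, h10⟩ := exists_ne_ne h4 a
      exact ⟨⟨b, hAS hb⟩, ⟨a, hAS ha⟩, fun e => h10 (congrArg Subtype.val e),
        fun e => h9 (congrArg Subtype.val e), Subtype.ext (hA.2 b hb),
        fun e => h8 (congrArg Subtype.val e), Subtype.ext (hA.2 a ha)⟩
  refine or_iff_not_imp_left.2 fun hn => ⟨fun x hx => congrArg Subtype.val
    (H.pow_four_eq_one (exists_comm_ne_one hn) ⟨x, hx⟩), fun x hx y hy => hI _ ?_⟩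
  rw [← sq]
  exact congrArg Subtype.val (H.commutatorElement_sq (exists_comm_ne_one hn) ⟨x, hx⟩ ⟨y, hy⟩)

section Comp

variable {A S K : Subgroup N} [A.Normal] (hA : IsElementaryAbelian 2 A)
  (hI : ∀ u : N, u * u = 1 → u ∈ A) (hS : IsSylowIn 2 S (centralizer (A : Set N)))

include hA in
theorem le_cent_comp (hc : IsComponent K) : A ≤ centralizer (K : Set N) :=
  commutator_eq_bot_iff_le_centralizer.1 (isComponent_commutator_eq_bot_of_isSolvable hc
    (Normal.isSubnormal inferInstance) (isSolvable_of_isPGroup (IsElementaryAbelian.isPGroup hA)))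

include hA hI hS in
theorem false_of_comp_ab (hc : IsComponent K) (hab : IsMulCommutative S) : False := by
  have h1 := le_cent_comp hA hc
  obtain ⟨T⟩ := (inferInstance : Nonempty (Sylow 2 K))
  obtain ⟨g, -, hg⟩ := hS.exists_conj_le (T.isPGroup'.map K.subtype)
    ((map_subtype_le _).trans (le_centralizer_iff.1 h1))
  obtain ⟨u, hu, h2, h4⟩ := exists_invol_of_even (A := (T : Subgroup K)) (by
    refine (Nat.even_mul.1 ((T : Subgroup K).card_mul_index ▸ Nat.not_odd_iff_even.1 fun h =>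
      isComponent_not_isSolvable hc (FT.feit_thompson h))).resolve_right fun h =>
      T.not_dvd_index (even_iff_two_dvd.1 h))
  refine h2 (BSW.eq_one_of_mem_commutator_of_abelian_sylow T ⟨⟨fun a b => ?_⟩⟩ hu
    (fun n _ => Subtype.ext (h1 (hI u (congrArg Subtype.val h4)) n n.2))
    (hc.2.1.commutator_eq_top ▸ mem_top u))
  have h5 := le_centralizer S (hg ⟨_, mem_map_of_mem _ b.2, rfl⟩) _
    (hg ⟨_, mem_map_of_mem _ a.2, rfl⟩)
  exact Subtype.ext (Subtype.ext ((MulAut.conj g).injective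
    ((map_mul _ _ _).trans (h5.trans (map_mul _ _ _).symm))))

include hA hI hS in
theorem false_of_comp (hK : KG N) (hF : fittingSubgroup N = pCore 2 N) (h4 : 4 ≤ Nat.card A)
    (htr : ∀ a ∈ A, ∀ b ∈ A, a ≠ 1 → b ≠ 1 → ∃ g, g * a * g⁻¹ = b)
    (he : ∀ x ∈ S, x ^ 4 = 1) (hc : IsComponent K) : False := by
  have hZ : ∀ {K : Subgroup N} {x : K}, x ∈ center K ↔ (x : N) ∈ centralizer (K : Set N) :=
    mem_center_iff.trans ⟨fun h g hg => congrArg Subtype.val (h ⟨g, hg⟩),
      fun h g => Subtype.ext (h g g.2)⟩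
  have h1 : ∀ {K : Subgroup N} {x : N}, IsComponent K → x ∈ K → x * x ∈ centralizer (K : Set N) →
      x * x * (x * x) = 1 := fun {K x} hc hx h => by
    have h1 : (center K).map K.subtype ≤ pCore 2 N := hF ▸ (map_mono center_le_fitting).trans
      (map_fitting_le_of_isSubnormal hc.1)
    obtain ⟨k, hk⟩ := pCore_isPGroup (G := N) 2 ⟨_, h1 ⟨⟨_, mul_mem hx hx⟩, hZ.2 h, rfl⟩⟩
    obtain ⟨g, -, hg⟩ := hS.exists_conj_le (isPGroup_zpowers_of_pow (x := x) (k := k + 1) (by
      rw [pow_succ', pow_mul, sq]; exact congrArg Subtype.val hk))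
      (zpowers_le_of_mem (le_centralizer_iff.1 (le_cent_comp hA hc) hx))
    have h2 := he _ (hg ⟨x, mem_zpowers x, rfl⟩)
    rw [← map_pow, ← map_one (MulAut.conj g).toMonoidHom] at h2
    rw [← (MulAut.conj g).injective h2, show 4 = 2 + 2 from rfl, pow_add, sq]
  have h2 : ∀ {K : Subgroup N} {x y : N}, IsComponent K → x ∈ K → x ∉ centralizer (K : Set N) →
      x * x ∈ centralizer (K : Set N) → y ∈ centralizer (K : Set N) → y * y ≠ x * x :=
    fun {K x y} hc hx hx1 hx2 hy e => hx1 (by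
      refine (mul_mem_cancel_right hy).1 (le_cent_comp hA hc (hI _ ?_))
      rw [mul_assoc, ← mul_assoc y, ← hy x hx, mul_assoc, e, ← mul_assoc, h1 hc hx hx2])
  have hns : ¬ Group.IsSolvable (K ⧸ center K) := fun hs => isComponent_not_isSolvable hc
    (isSolvable_of_normal_of_quotient _ isSolvable_of_isMulCommutative hs)
  obtain ⟨u, -, h5, h6⟩ := exists_invol_of_even (A := (⊤ : Subgroup (K ⧸ center K))) (by
    rw [card_top]; exact Nat.not_odd_iff_even.1 fun h => hns (FT.feit_thompson h))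
  obtain ⟨⟨x, hx⟩, rfl⟩ := QuotientGroup.mk_surjective u
  have hx1 : x ∉ centralizer (K : Set N) := fun h => h5 ((QuotientGroup.eq_one_iff _).2 (hZ.2 h))
  have hx2 : x * x ∈ centralizer (K : Set N) := hZ.1 ((QuotientGroup.eq_one_iff _).1 h6)
  have ha : x * x ∈ A := hI _ (h1 hc hx hx2)
  have ha1 : x * x ≠ 1 := fun e => hx1 (le_cent_comp hA hc (hI x e))
  have h7 : ∀ (g : N) {z : N}, z ∈ centralizer (K : Set N) →
      g * z * g⁻¹ ∈ centralizer ((K.map (MulAut.conj g).toMonoidHom : Subgroup N) : Set N) :=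
    fun g z hz => centralizer_map_conj g K ▸ mem_map_of_mem (MulAut.conj g).toMonoidHom hz
  have h8 : ∀ z ∈ K, z ∈ centralizer (K : Set N) → z * z = 1 := fun z hz hz1 => by_contra fun h => by
    obtain ⟨g, hg⟩ := htr _ (hI _ (h1 hc hz (mul_mem hz1 hz1))) _ ha h ha1
    refine h2 (y := g * z * g⁻¹) hc hx hx1 hx2 ?_ (by rw [← hg]; group)
    rcases isComponent_eq_or_commutator_eq_bot (isComponent_map_conj hc g) hc with e | e
    · exact e ▸ h7 g hz1
    · exact commutator_eq_bot_iff_le_centralizer.1 e (mem_map_of_mem _ hz)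
  have h9 : ∀ g : N, g * (x * x) * g⁻¹ ≠ x * x →
      K.map (MulAut.conj g).toMonoidHom ≠ K := fun g hg e => hg (by
    have := hc.2.2
    have h9 : g * x * g⁻¹ ∈ K := e ▸ mem_map_of_mem (MulAut.conj g).toMonoidHom hx
    obtain ⟨k, hk⟩ := ((hK.subgroup K).quot (center K)).oneCl hns
      (u := ((⟨x, hx⟩ : K) : K ⧸ center K)) (v := ((⟨_, h9⟩ : K) : K ⧸ center K))
      (orderOf_eq_prime (by rwa [sq]) h5) (orderOf_eq_prime (by
        rw [sq]
        refine (QuotientGroup.eq_one_iff _).2 (hZ.2 ?_)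
        have h10 := h7 g hx2
        rw [e] at h10
        simpa [mul_assoc] using h10) fun e' => hx1 (by
        have h10 := h7 g⁻¹ (z := g * x * g⁻¹) (hZ.1 ((QuotientGroup.eq_one_iff _).1 e'))
        rw [← e, map_conj_inv_map_conj] at h10
        simpa [mul_assoc] using h10))
    obtain ⟨k, rfl⟩ := QuotientGroup.mk_surjective k
    have h10 := hZ.1 (QuotientGroup.eq.1 hk)
    have h11 := h8 _ (SetLike.coe_mem _) h10
    have h12 := h10 _ (mul_mem (mul_mem k.2 hx) (inv_mem k.2))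
    push_cast at h11 h12
    generalize hz : ((k : N) * x * (k : N)⁻¹)⁻¹ * (g * x * g⁻¹) = z at h11 h12
    have h13 : g * x * g⁻¹ = k * x * (k : N)⁻¹ * z := by rw [← hz]; group
    calc g * (x * x) * g⁻¹ = g * x * g⁻¹ * (g * x * g⁻¹) := by group
      _ = k * x * (k : N)⁻¹ * (k * x * (k : N)⁻¹) * (z * z) := by
        rw [h13, mul_assoc, ← mul_assoc z, ← h12]; group
      _ = k * (x * x) * (k : N)⁻¹ := by rw [h11]; group
      _ = _ := by rw [hx2 k k.2, mul_inv_cancel_right])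
  obtain ⟨b, hb, hb1, hb2⟩ := exists_ne_ne h4 (x * x)
  have hAc := IsElementaryAbelian.le_centralizer hA
  have hbb : b * b = 1 := by rw [← sq, hA.2 b hb]
  obtain ⟨g, hg⟩ := htr _ ha b hb ha1 hb1
  obtain ⟨k, hk⟩ := htr _ ha _ (mul_mem ha hb) ha1 fun e => hb2
    (mul_right_cancel (hbb.trans e.symm))
  have h10 : ∀ g : N, g * (x * x) * g⁻¹ ≠ x * x → g * x * g⁻¹ ∈ centralizer (K : Set N) :=
    fun g hg => commutator_eq_bot_iff_le_centralizer.1
      ((isComponent_eq_or_commutator_eq_bot (isComponent_map_conj hc g) hc).resolve_left (h9 g hg))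
      (mem_map_of_mem _ hx)
  have h11 := h10 (g⁻¹ * k) (fun e => ha1 (by
    have : k * (x * x) * k⁻¹ = g * (x * x) * g⁻¹ := by rw [← e]; nth_rw 1 [e]; group
    rw [hk, hg] at this
    exact mul_eq_right.1 this)) x hx
  refine h2 hc hx hx1 hx2
    (mul_mem (h10 g (hg ▸ hb2)) (h10 k (hk ▸ fun e => hb1 (mul_eq_left.1 e)))) ?_
  calc g * x * g⁻¹ * (k * x * k⁻¹) * (g * x * g⁻¹ * (k * x * k⁻¹))
      = g * (x * (g⁻¹ * k * x * (g⁻¹ * k)⁻¹ * x)) * g⁻¹ * (k * x * k⁻¹) := by group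
    _ = g * (x * x) * g⁻¹ * (k * (x * x) * k⁻¹) := by rw [← h11]; group
    _ = _ := by rw [hg, hk, hAc hb _ ha, ← mul_assoc, hbb, one_mul]

end Comp

/-- All involutions lie in `A`. -/
theorem lemH (h3 : S3F N) (hK : KG N) (hO : pPrimeCore 2 N = ⊥) {A : Subgroup N} [A.Normal]
    (hA : IsElementaryAbelian 2 A) (h4 : 4 ≤ Nat.card A)
    (htr : ∀ a ∈ A, ∀ b ∈ A, a ≠ 1 → b ≠ 1 → ∃ g, g * a * g⁻¹ = b)
    (hI : ∀ u : N, u * u = 1 → u ∈ A) : Group.IsSolvable N := by
  obtain ⟨S, hS⟩ := IsSylowIn.exists_in (p := 2) (centralizer (A : Set N))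
  have hH := higman_of_tr h3 hK hA h4 htr hI hS
  have hF := fitting_eq_pCore_of_pPrimeCore_eq_bot hO
  have hL : layer N = ⊥ := layer_eq_bot_iff.2 fun K hc => hH.elim
    (false_of_comp_ab hA hI hS hc) fun h => false_of_comp hA hI hS hK hF h4 htr h.1 hc
  have hC : centralizer (pCore 2 N : Set N) ≤ pCore 2 N :=
    genFitting_eq_pCore_iff.1 (by rw [generalizedFittingSubgroup, hL, hF, bot_sup_eq])
  set D := centralizer (A : Set N) ⊓ (centralizer ((pCore 2 N).map (QuotientGroup.mk' A) :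
    Set (N ⧸ A))).comap (QuotientGroup.mk' A) with hD
  have : ((pCore 2 N).map (QuotientGroup.mk' A)).Normal :=
    Normal.map inferInstance _ (QuotientGroup.mk'_surjective A)
  have hm : ∀ g, g ∈ D ↔ g ∈ centralizer (A : Set N) ∧ ∀ x ∈ pCore 2 N, ⁅g, x⁆ ∈ A := fun g => by
    refine and_congr_right fun _ => ⟨fun h x hx => ?_, ?_⟩
    · rw [← QuotientGroup.ker_mk' A, MonoidHom.mem_ker, map_commutatorElement,
        commutatorElement_eq_one_iff_mul_comm]
      exact (h _ (mem_map_of_mem _ hx)).symm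
    · rintro h _ ⟨x, hx, rfl⟩
      rw [eq_comm, ← commutatorElement_eq_one_iff_mul_comm, ← map_commutatorElement]
      exact (QuotientGroup.eq_one_iff _).2 (h x hx)
  have h1 : IsPGroup 2 D := FT.isPGroup_of_forall_prime_dvd fun r hr hd => by_contra fun h1 => by
    have := Fact.mk hr
    obtain ⟨⟨g, hg⟩, hgo⟩ := exists_prime_orderOf_dvd_card' r hd
    rw [orderOf_mk] at hgo
    have h2 := hC (FrobNPC.mem_centralizer_of_stabilizes (IsElementaryAbelian.isPGroup hA)
      (hgo ▸ (Nat.coprime_primes hr Nat.prime_two).2 h1) hg.1 ((hm g).1 hg).2)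
    obtain ⟨k, hk⟩ := pCore_isPGroup (G := N) 2 ⟨g, h2⟩
    exact h1 ((Nat.prime_dvd_prime_iff_eq hr Nat.prime_two).1 (hr.dvd_of_dvd_pow
      (hgo ▸ orderOf_dvd_of_pow_eq_one (congrArg Subtype.val hk))))
  have h2 : S ≤ D := fun s hs => (hm s).2 ⟨hS.le hs, fun x hx => by
    have := hA.1
    have h5 := FT.le_sylow_of_norm' hS (pCore_isPGroup 2) (fun y hy a ha =>
      (mul_inv_eq_iff_eq_mul.1 (congrArg Subtype.val (le_of_odd_index (pCore_isPGroup 2)
        (Normal.isSubnormal inferInstance) (odd_index_of_tr (φ := MulAut.conjNormal)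
          (tr_of hA htr).sq (fun a b ha hb => ((tr_of hA htr).tr a b ha hb).elim fun y =>
            QuotientGroup.induction_on y fun y hy => ⟨y, hy⟩) ⟨a, ha⟩) hy))).symm)
      le_normalizer_of_normal hx
    refine hH.elim (fun h => ?_) fun h => h.2 s hs x h5
    rw [commutatorElement_eq_one_iff_mul_comm.2 (le_centralizer S h5 s hs)]
    exact one_mem _⟩
  exact isSolvable_of_normal_of_quotient _ (solvable_of_sylow_normal hS
    (hS.eq_of_le h1 h2 inf_le_left ▸ le_normalizer_of_normal)) (lemY_solv h3 hK hA htr)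

end CfsgLib.GO
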