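import Cfsg.Agent.Lib.GOB.ZS
import Cfsg.Agent.Lib.GOB.LemY
import Cfsg.Agent.Lib.Gol.Sz

/-!
# Product closed classes of involutions in known groups without odd core
-/

set_option autoImplicit false

namespace CfsgLib.GO

open Subgroup MulAction Cfsg CfsgLib.H1 CfsgLib.SE

universe u

variable {H : Type u} [Group H] [Finite H] {Z : Set H}

/-- Glauberman's `Z*`-theorem for product closed classes. -/
theorem ZC.cent_of_disj (hZ : ZC Z) (hO : pPrimeCore 2 H = ⊥) {N : Subgroup H}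
    (hN : N.IsSubnormal) {z : H} (hz : z ∈ Z) (hn : z ∈ normalizer (N : Set H))
    (h0 : ∀ w ∈ Z, w ∉ N) : z ∈ centralizer (N : Set H) := by
  have h1 : ∀ g ∈ N ⊔ zpowers z, g * z * g⁻¹ * z⁻¹ ∈ N := fun g hg => by
    obtain ⟨n, h1, _, ⟨k, rfl⟩, rfl⟩ := (mem_sup_iff_of_le_normalizer' (zpowers_le.2 hn)).1 hg
    rw [show n * z ^ k * z * (n * z ^ k)⁻¹ * z⁻¹ = n * (z * n⁻¹ * z⁻¹) by group]
    exact N.mul_mem h1 (conj_mem_of_mem_normalizer hn (inv_mem h1))
  have hz' : z ∈ N ⊔ zpowers z := mem_sup_right (mem_zpowers z)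
  have h2 := Blk.glauberman_zstar ↥(N ⊔ zpowers z) ⟨z, hz'⟩ (by
    rw [orderOf_mk, (hZ.inv z hz).orderOf]) fun g hg => Subtype.ext (by
      have h2 := h1 g g.2
      rw [(hZ.inv z hz).inv_eq] at h2
      exact (eq_inv_of_mul_eq_one_left ((hZ.mul_of_comm (hZ.conj z hz g) hz
        (congrArg Subtype.val hg.eq).symm).resolve_right fun e => h0 _ e h2)).trans
        (hZ.inv z hz).inv_eq)
  intro n hn1
  have h3 := (hO ▸ map_pPrimeCore_le_of_isSubnormal 2 hN) ⟨⟨_, h1 n (mem_sup_left hn1)⟩,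
    comap_pPrimeCore_le 2 (inclusion_injective (le_sup_left : N ≤ N ⊔ zpowers z))
      (h2 ⟨n, mem_sup_left hn1⟩), rfl⟩
  rwa [mem_bot, coe_subtype, mul_inv_eq_one, mul_inv_eq_iff_eq_mul] at h3

omit [Finite H] in
theorem mem_center_iff_cent {K : Subgroup H} {x : K} :
    x ∈ center K ↔ (x : H) ∈ centralizer (K : Set H) :=
  mem_center_iff.trans ⟨fun h g hg => congrArg Subtype.val (h ⟨g, hg⟩),
    fun h g => Subtype.ext (h g g.2)⟩

theorem center_comp_le (hO : pPrimeCore 2 H = ⊥) {K : Subgroup H} (hc : IsComponent K) :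
    (center K).map K.subtype ≤ pCore 2 H :=
  fitting_eq_pCore_of_pPrimeCore_eq_bot hO ▸ (map_mono center_le_fitting).trans
    (map_fitting_le_of_isSubnormal hc.1)

/-- The class lies in a normal component. -/
theorem ZC.exists_comp (hZ : ZC Z) (hO : pPrimeCore 2 H = ⊥)
    (h1 : ∀ z ∈ Z, ∀ w ∈ Z, ∃ g, g * z * g⁻¹ = w) (hn : ∀ z ∈ Z, z ∉ pCore 2 H) {a : H}
    (ha : a ∈ Z) : ∃ K : Subgroup H, IsComponent K ∧ K.Normal ∧
      ∀ z ∈ Z, z ∈ K ∧ z ∉ centralizer (K : Set H) := by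
  have hF := fitting_eq_pCore_of_pPrimeCore_eq_bot hO
  have h2 : a ∉ centralizer (layer H : Set H) := fun h => hn a ha (hF ▸
    centralizer_genFitting_le_fitting (le_centralizer_iff.1 (show generalizedFittingSubgroup H ≤
      centralizer (zpowers a : Set H) from sup_le (le_centralizer_iff.1 (zpowers_le.2 h))
        (hF ▸ le_centralizer_iff.1 (zpowers_le.2 (hZ.cent_of_disj hO
          (Normal.isSubnormal inferInstance) ha (le_normalizer_of_normal (mem_top a)) hn))))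
      (mem_zpowers a)))
  obtain ⟨K, hc, h3⟩ : ∃ K : Subgroup H, IsComponent K ∧ a ∉ centralizer (K : Set H) := by
    by_contra! h
    exact h2 (le_centralizer_iff.1 (layer_le_iff.2 fun K hc =>
      le_centralizer_iff.1 (zpowers_le.2 (h K hc))) (mem_zpowers a))
  obtain ⟨b, hb, h4⟩ : ∃ b ∈ Z, b ∈ K := by
    by_contra! h
    refine h3 (hZ.cent_of_disj hO hc.1 ha (layer_le_normalizer_component hc ?_) h)
    by_contra h5
    refine h2 (hZ.cent_of_disj hO (Normal.isSubnormal inferInstance) ha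
      (le_normalizer_of_normal (mem_top a)) fun w hw h6 => h5 ?_)
    obtain ⟨g, rfl⟩ := h1 w hw a ha
    exact Normal.conj_mem inferInstance w h6 g
  have h5 : ∀ {K : Subgroup H}, IsComponent K → ∀ z ∈ Z, z ∈ K → z ∉ centralizer (K : Set H) :=
    fun hc z hz h5 h6 => hn z hz (center_comp_le hO hc ⟨⟨z, h5⟩, mem_center_iff_cent.2 h6, rfl⟩)
  have h6 : ∀ {K L : Subgroup H} {x : H}, IsComponent K → IsComponent L → K ≠ L → x ∈ K →
      x ∈ centralizer (L : Set H) := fun hK hL hne hx => commutator_eq_bot_iff_le_centralizer.1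
    ((isComponent_eq_or_commutator_eq_bot hK hL).resolve_left hne) hx
  have h7 : ∀ g : H, K.map (MulAut.conj g).toMonoidHom = K := fun g => by_contra fun h7 => by
    have h8 : g * b * g⁻¹ ∈ K.map (MulAut.conj g).toMonoidHom := mem_map_of_mem _ h4
    have h9 := h6 (isComponent_map_conj hc g) hc h7 h8
    obtain ⟨k, hk⟩ := h1 b hb _ (hZ.mul_mem hb (hZ.conj b hb g) (h9 b h4)
      fun e => h5 hc b hb h4 (e ▸ h9))
    have h10 : b * (g * b * g⁻¹) ∈ K.map (MulAut.conj k).toMonoidHom := hk ▸ mem_map_of_mem _ h4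
    by_cases h11 : K.map (MulAut.conj k).toMonoidHom = K
    · exact h5 hc _ (hZ.conj b hb g) ((mul_mem_cancel_left h4).1 (h11 ▸ h10)) h9
    · exact h5 hc b hb h4
        ((mul_mem_cancel_right h9).1 (h6 (isComponent_map_conj hc k) hc h11 h10))
  have h8 : K.Normal := ⟨fun n hn g => h7 g ▸ mem_map_of_mem (MulAut.conj g).toMonoidHom hn⟩
  have h9 : ∀ z ∈ Z, z ∈ K := fun z hz => by
    obtain ⟨g, rfl⟩ := h1 b hb z hz
    exact h8.conj_mem b h4 g
  exact ⟨K, hc, h8, fun z hz => ⟨h9 z hz, h5 hc z hz (h9 z hz)⟩⟩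

/-- If commuting is transitive on `Z`, then `H` acts on the conjugates of `zs Z S`. -/
theorem ZC.zs_of_ti (hZ : ZC Z) (h4 : F4 Z ⊤) {S : Subgroup H} (hS : IsSylowIn 2 S ⊤)
    (hne : normalizer (zs Z S : Set H) ≠ ⊤) (hti : ∀ z ∈ Z, ∀ v ∈ Z, ∀ w ∈ Z, z * v = v * z →
      z * w = w * z → v * w = w * v) : ZS H (H ⧸ normalizer (zs Z S : Set H)) Z := by
  have h1 : ∀ z ∈ Z, z ∈ normalizer (zs Z S : Set H) → z ∈ zs Z S := fun z hz =>
    hZ.mem_zs_of_norm hS.isPGroup hz (zs_le Z S) fun Q hQ h => (hZ.zs_eq hS hQ le_top h).le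
  have h2 : ∀ (z g : H), z • (g : H ⧸ normalizer (zs Z S : Set H)) = g →
      g⁻¹ * z * g ∈ normalizer (zs Z S : Set H) := fun z g h => by
    simpa [mul_assoc] using QuotientGroup.eq.1
      (show (g : H ⧸ normalizer (zs Z S : Set H)) = (z * g : H) from h.symm)
  refine ⟨hZ, exists_smul_eq H, ?_, fun z hz α β => ?_, ?_⟩
  · obtain ⟨g, hg⟩ := SetLike.exists_of_lt hne.lt_top
    exact ⟨(1 : H), g, fun e => hg.2 (by simpa using QuotientGroup.eq.1 e)⟩
  · refine QuotientGroup.induction_on α fun g hg => QuotientGroup.induction_on β fun k hk => ?_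
    have h3 := h1 _ (hZ.conj' hz g) (h2 z g hg)
    have h5 := h1 _ (hZ.conj' hz k) (h2 z k hk)
    refine QuotientGroup.eq.2 (mem_normalizer_fintype fun a ha => ?_)
    rcases (hZ.mem_zs hS.isPGroup).1 ha with rfl | ha'
    · simp
    refine h1 _ (hZ.conj a ha'.1 _) (centralizer_le_normalizer _ fun b hb => ?_)
    rcases (hZ.mem_zs hS.isPGroup).1 hb with rfl | hb'
    · simp
    refine hti _ (hZ.conj' hz g) b hb'.1 _ (hZ.conj a ha'.1 _) (hZ.zs_comm hS.isPGroup h3 hb) ?_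
    rw [show g⁻¹ * z * g = g⁻¹ * k * (k⁻¹ * z * k) * (g⁻¹ * k)⁻¹ by group, conj_mul, conj_mul,
      hZ.zs_comm hS.isPGroup h5 ha]
  · obtain ⟨a, ha, b, hb, -, -, h3, h5⟩ := h4
    obtain ⟨g, -, hg⟩ := hS.exists_conj_le (isPGroup_sup_of_le_normalizer
      (Invol.isPGroup_zpowers (hZ.sq ha)) (Invol.isPGroup_zpowers (hZ.sq hb))
      (zpowers_le.2 (centralizer_le_normalizer _ (by
        rw [SE.centralizer_zpowers]; exact mem_centralizer_singleton_iff.2 h5)))) le_top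
    refine ⟨(1 : H), _, hZ.conj a ha g, _, hZ.conj b hb g, ?_, ?_, fun e => h3 (by simpa using e),
      by rw [conj_mul, conj_mul, h5]⟩ <;> rw [stabilizer_quotient]
    · exact le_normalizer (mem_zs_of (hZ.conj a ha g) (hg ⟨a, mem_sup_left (mem_zpowers a), rfl⟩))
    · exact le_normalizer (mem_zs_of (hZ.conj b hb g) (hg ⟨b, mem_sup_right (mem_zpowers b), rfl⟩))

/-- A normal subgroup `L₂(3^n)` containing all involutions has odd index. -/
theorem odd_index_of_L3T (h3 : S3F H) {K : Subgroup H} [K.Normal] (h : L3T K)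
    (hI : ∀ u : H, IsInv u → u ∈ K) : Odd K.index := by
  have : Fact (Nat.Prime 3) := ⟨Nat.prime_three⟩
  obtain ⟨P, f, hP⟩ := h.exists_syl3
  have hS := hP.sylow.map K.subtype
  rw [← MonoidHom.range_eq_map, range_subtype] at hS
  refine Nat.not_even_iff_odd.1 fun he => ?_
  have h1 := (FT.relIndex_dvd_card_of_sup (N := K) (M := ⊤)
    (U := normalizer (P.map K.subtype : Set H)) le_normalizer_of_normal (eq_top_iff.2 fun g _ => by
      obtain ⟨k, hk, h1⟩ := hS.frattini_elem (g := g) (le_normalizer_of_normal (mem_top g))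
      exact (mul_mem_cancel_left (mem_sup_left hk)).1 (mem_sup_right h1))).2
  rw [relIndex_top_right] at h1
  obtain ⟨t, ht, h2, h4⟩ := Suz.exists_invol_of_even (even_iff_two_dvd.2 (he.two_dvd.trans h1))
  have h5 : (⟨t, hI t ⟨h4, h2⟩⟩ : K) * ⟨t, hI t ⟨h4, h2⟩⟩ = 1 := Subtype.ext h4
  obtain ⟨⟨y, hy⟩, hy1⟩ := ne_bot_iff_exists_ne_one.1 hP.ne_bot
  refine hy1 (Subtype.ext ((h3.subgroup K).eq_one (k := 1) (t := ⟨t, hI t ⟨h4, h2⟩⟩)
    (by simpa using hP.pow y hy) ?_))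
  rw [Invol.inv_eq h5]
  refine Suz.inv_of_fpf_invol (A := P) (hP.card ▸ Odd.pow (by decide)) h5 (fun a ha => ?_)
    (fun a ha e => by_contra fun h6 => h2 ?_) y hy
  · obtain ⟨b, hb, e⟩ := conj_mem_of_mem_normalizer ht (mem_map_of_mem K.subtype ha)
    rw [Invol.inv_eq h4] at e
    exact (congrArg (· ∈ P) (Subtype.ext e)).mp hb
  · have h7 : t ^ 3 = 1 := congrArg Subtype.val (hP.pow _ (hP.mem ha h6 e))
    rwa [pow_succ, sq, h4, one_mul] at h7

theorem comp_lemma {H : Type u} [Group H] [Finite H] (h3 : S3F H) (hK : KG H)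
    (hO : pPrimeCore 2 H = ⊥) {Z : Set H} (hZ : ZC Z)
    (h1 : ∀ z ∈ Z, ∀ w ∈ Z, ∃ g, g * z * g⁻¹ = w) (h4 : F4 Z ⊤) {S : Subgroup H}
    (hS : IsSylowIn 2 S ⊤) :
    (∀ z ∈ Z, z ∈ S) ∨ (∃ (Δ : Type u) (_ : MulAction H Δ), ZS H Δ Z) ∨
      (Nat.card (zs Z S) ≤ 4 ∧ ¬ Group.IsSolvable H ∧
        ((∀ u : H, IsInv u → u ∈ Z) → ¬ 8 ∣ Nat.card H)) := by
  refine or_iff_not_imp_left.2 fun h0 => ?_
  have h2 : ∀ N : Subgroup H, N.Normal → N ≤ S → ∀ z ∈ Z, z ∉ N := fun N hN h z hz h2 =>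
    h0 fun w hw => by
      obtain ⟨g, rfl⟩ := h1 z hz w hw
      exact h (hN.conj_mem z h2 g)
  obtain ⟨a, ha, -⟩ := id h4
  obtain ⟨K, hc, hN, h5⟩ := hZ.exists_comp hO h1 (h2 _ inferInstance (FT.le_sylow_of_norm' hS
    (pCore_isPGroup 2) le_top le_normalizer_of_normal)) ha
  have hp : IsPGroup 2 (center K) := ((pCore_isPGroup 2).to_le (center_comp_le hO hc)).of_equiv
    ((center K).equivMapOfInjective _ K.subtype_injective).symm
  have hne : ∀ z (hz : z ∈ Z), ((⟨z, (h5 z hz).1⟩ : K) : K ⧸ center K) ≠ 1 := fun z hz e =>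
    (h5 z hz).2 (mem_center_iff_cent.1 ((QuotientGroup.eq_one_iff _).1 e))
  have hns := isComponent_not_isSolvable hc
  rcases ((hK.subgroup K).quot (center K)) _ (involves_self _) hc.2.2 (fun _ => hns
    (isSolvable_of_normal_of_quotient (center K) isSolvable_of_isMulCommutative
      isSolvable_of_isMulCommutative)) with h | h
  · refine Or.inl ⟨_, _, hZ.zs_of_ti h4 hS (fun e => ?_) fun z hz v hv w hw e1 e2 => ?_⟩
    · obtain ⟨g, -, hg⟩ := hS.exists_conj_le (Invol.isPGroup_zpowers (hZ.sq ha)) le_top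
      exact h2 _ (normalizer_eq_top_iff.1 e) (zs_le Z S) _ (hZ.conj a ha g)
        (mem_zs_of (hZ.conj a ha g) (hg ⟨a, mem_zpowers a, rfl⟩))
    · obtain ⟨Q, h6, hQ⟩ := IsSylowIn.exists_ge (H := ⊤) (Invol.isPGroup_zpowers
        (show ((⟨z, (h5 z hz).1⟩ : K) : K ⧸ center K) * (⟨z, (h5 z hz).1⟩ : K) = 1 from
          congrArg QuotientGroup.mk (Subtype.ext (hZ.sq hz)))) le_top
      obtain ⟨L, t, T, -⟩ := h.exists_zt hQ
      have h7 : ∀ w (hw : w ∈ Z), z * w = w * z → ((⟨w, (h5 w hw).1⟩ : K) : K ⧸ center K) ∈ Q :=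
        fun w hw e => T.mem_Q_of_comm (h6 (mem_zpowers _)) (hne z hz)
          (congrArg QuotientGroup.mk (Subtype.ext e))
      have h8 := (hQ.isPGroup.comap_of_ker_isPGroup (QuotientGroup.mk' (center K))
        (by rwa [QuotientGroup.ker_mk'])).map K.subtype
      exact hZ.comm_of_two hv hw (isPGroup_zpowers_of_mem h8 (mul_mem
        ⟨⟨v, (h5 v hv).1⟩, h7 v hv e1, rfl⟩ ⟨⟨w, (h5 w hw).1⟩, h7 w hw e2, rfl⟩))
  · refine Or.inr ⟨?_, fun hs => hns inferInstance, fun hI h8 => ?_⟩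
    · have h6 : zs Z S ≤ K := (closure_le _).2 fun z hz => (h5 z hz.1).1
      have h7 := card_dvd_of_injective ((QuotientGroup.mk' (center K)).comp (inclusion h6))
        ((injective_iff_map_eq_one _).2 fun x hx => Subtype.ext (by_contra fun h7 =>
          hne x (hZ.mem_of_zs hS.isPGroup x.2 h7) hx))
      obtain ⟨n, hn⟩ := (hS.isPGroup.to_le (zs_le Z S)).exists_card_eq
      rw [hn] at h7 ⊢
      refine Nat.pow_le_pow_right (j := 2) two_pos (Nat.le_of_lt_succ (not_le.1 fun h9 => ?_))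
      exact h.not_eight_dvd ((pow_dvd_pow 2 h9).trans h7)
    · have h6 : center K = ⊥ := by_contra fun h6 => by
        obtain ⟨n, hn⟩ := hp.exists_card_eq
        obtain ⟨u, hu, h7, h9⟩ := Suz.exists_invol_of_even (A := center K) (hn ▸ Nat.even_pow.2
          ⟨even_two, fun e => h6 (card_eq_one.1 (by rw [hn, e, pow_zero]))⟩)
        exact (h5 u (hI u ⟨congrArg Subtype.val h9, fun e => h7 (Subtype.ext e)⟩)).2
          (mem_center_iff_cent.1 hu)
      have h7 : L3T K := by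
        obtain ⟨F, _, _, f, h7, h9, ⟨e⟩⟩ := h
        exact ⟨F, _, _, f, h7, h9, ⟨((QuotientGroup.quotientMulEquivOfEq h6).trans
          QuotientGroup.quotientBot).symm.trans e⟩⟩
      rw [← K.card_mul_index] at h8
      exact h7.not_eight_dvd (((Nat.coprime_two_left.2 (odd_index_of_L3T h3 h7
        fun u hu => (h5 u (hI u hu)).1)).pow_left 3).dvd_of_dvd_mul_right h8)

end CfsgLib.GO
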