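import Cfsg.Agent.Lib.GOB.NA
import Cfsg.Agent.Lib.H6Brauer

/-!
# The number of points
-/

set_option autoImplicit false
set_option linter.unusedSectionVars false

namespace CfsgLib.GO

open Subgroup MulAction Cfsg CfsgLib.H1 CfsgLib.SE CfsgLib.Suz CfsgLib.H6Br

universe u

theorem ncard_mul_le {α β : Type*} [Finite α] [Finite β] {s : Set α} {t : Set β}
    (r : α → β → Prop) {m k : ℕ} (h1 : ∀ a ∈ s, m ≤ {b | b ∈ t ∧ r a b}.ncard)
    (h2 : ∀ b ∈ t, {a | a ∈ s ∧ r a b}.ncard ≤ k) : s.ncard * m ≤ t.ncard * k := by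
  classical
  rw [Set.ncard_eq_toFinset_card s, Set.ncard_eq_toFinset_card t]
  refine Finset.card_mul_le_card_mul r (fun a ha => (h1 a (by simpa using ha)).trans_eq ?_)
    fun b hb => le_of_eq_of_le ?_ (h2 b (by simpa using hb))
  · rw [← Set.ncard_coe_finset, Finset.coe_bipartiteAbove]; simp
  · rw [← Set.ncard_coe_finset, Finset.coe_bipartiteBelow]; simp

theorem ncard_eq_mul {α β : Type*} [Finite α] [Finite β] {s : Set α} {t : Set β}
    (r : α → β → Prop) {k : ℕ} (h1 : ∀ a ∈ s, ∃! b, b ∈ t ∧ r a b)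
    (h2 : ∀ b ∈ t, {a | a ∈ s ∧ r a b}.ncard = k) : s.ncard = t.ncard * k := by
  have h3 : ∀ a ∈ s, {b | b ∈ t ∧ r a b}.ncard = 1 := fun a ha => by
    obtain ⟨b, hb, e⟩ := h1 a ha
    exact Set.ncard_eq_one.2 ⟨b, Set.eq_singleton_iff_unique_mem.2 ⟨hb, e⟩⟩
  have := ncard_mul_le r (fun a ha => (h3 a ha).ge) fun b hb => (h2 b hb).le
  have := ncard_mul_le (fun b a => r a b) (fun b hb => (h2 b hb).ge) fun a ha => (h3 a ha).le
  omega

theorem ncard_eq_of_conj {G : Type*} [Group G] {s t : Set G} (g : G)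
    (h : ∀ x, g * x * g⁻¹ ∈ t ↔ x ∈ s) : s.ncard = t.ncard := by
  rw [← Set.ncard_preimage_of_injective_subset_range (s := t) (MulAut.conj g).injective
    fun x _ => (MulAut.conj g).surjective x]
  exact congrArg _ (Set.ext fun x => (h x).symm)

theorem conj_smul_iff {G Ω : Type*} [Group G] [MulAction G Ω] {g x : G} {α : Ω} :
    (g * x * g⁻¹) • g • α = g • α ↔ x • α = α := by
  rw [mul_smul, inv_smul_smul, mul_smul, smul_left_cancel_iff]

theorem ncard_ne_one {G : Type*} [Group G] [Finite G] {A : Subgroup G} {m : ℕ}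
    (h : Nat.card A = m) : ((A : Set G) \ {1}).ncard = m - 1 := by
  rw [Set.ncard_diff_singleton_of_mem A.one_mem, ← h, ← Nat.card_coe_set_eq]
  rfl

/-- The number of elements of `Z` in `X` fixing `β`. -/
noncomputable def nz {G Ω : Type*} [Group G] [MulAction G Ω] (Z : Set G) (X : Subgroup G)
    (β : Ω) : ℕ := {z | z ∈ Z ∧ z ∈ X ∧ z • β = β}.ncard

namespace ZS

variable {G Ω : Type*} [Group G] [Finite G] [MulAction G Ω] {Z : Set G} (h : ZS G Ω Z)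
include h

theorem nz_smul {X : Subgroup G} {g : G} (hg : g ∈ X) (β : Ω) : nz Z X (g • β) = nz Z X β :=
  (ncard_eq_of_conj g fun x => and_congr h.conj_iff (and_congr
    ((mem_normalizer_iff.1 (le_normalizer hg) x).symm) conj_smul_iff)).symm

theorem cnt_pts {X : Subgroup G} {W : Set Ω} {k : ℕ} (h1 : ∀ β ∈ W, nz Z X β = k) :
    {z | z ∈ Z ∧ z ∈ X ∧ ∃ β ∈ W, z • β = β}.ncard = W.ncard * k := by
  have := h.finite
  refine ncard_eq_mul (fun z β => z • β = β) ?_ fun β hβ => ?_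
  · rintro z ⟨hz, -, β, h2, h3⟩
    exact ⟨β, ⟨h2, h3⟩, fun γ e => h.uniq z hz _ _ e.2 h3⟩
  · rw [← h1 β hβ, nz]
    exact congrArg _ (Set.ext fun z =>
      ⟨fun e => ⟨e.1.1, e.1.2.1, e.2⟩, fun e => ⟨⟨e.1, e.2.1, β, hβ, e.2.2⟩, e.2.2⟩⟩)

end ZS

namespace BC

variable {G Ω : Type u} [Group G] [Finite G] [MulAction G Ω] {Z : Set G} {n : ℕ}
  (h : BC G Ω Z n)
include h

theorem zs_eq_of_card {P Q : Subgroup G} (hP : Nat.card (zs Z P) = 2 ^ n) (hQ : IsPGroup 2 Q)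
    (h1 : zs Z P ≤ Q) : zs Z Q = zs Z P := by
  have : Fact (Nat.Prime 2) := ⟨Nat.prime_two⟩
  obtain ⟨S, hS⟩ := IsSylowIn.exists_in (p := 2) (⊤ : Subgroup G)
  refine (eq_of_le_of_card_ge ((closure_le _).2 fun z hz =>
    mem_zs_of hz.1 (h1 (mem_zs_of hz.1 hz.2))) ?_).symm
  exact (h.card_zs_le hS hQ le_top).trans_eq ((h.cA S hS).trans hP.symm)

theorem cnt_na {X T : Subgroup G} (hT : IsSylowIn 2 T X) {α : Ω} (hX : ¬ X ≤ stabilizer G α)
    (hc : Nat.card (zs Z T) = 2 ^ n) {a : G} (ha : a ∈ Z) (h1 : a ∈ T) (h2 : a • α = α) :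
    nz Z X α = (2 ^ n - 1) * (Xs (piCoreOf {2}ᶜ (stabilizer G α) ⊓ X) a).ncard := by
  have : Fact (Nat.Prime 2) := ⟨Nat.prime_two⟩
  have h3 := h.le_stab hT.isPGroup ha h1 h2
  obtain ⟨S, h4, hS⟩ := IsSylowIn.exists_ge hT.isPGroup h3
  have h5 := h.zs_eq_of_card hc hS.isPGroup ((zs_le Z T).trans h4)
  have hO := odd_piCoreOf (stabilizer G α)
  rw [← ncard_ne_one hc]
  refine ncard_eq_mul (fun z b => z * b ∈ piCoreOf {2}ᶜ (stabilizer G α)) ?_ fun b hb => ?_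
  · rintro z ⟨hz, -, h6⟩
    obtain ⟨b, hb, h7, h8⟩ := h.na hS z hz h6
    refine ⟨b, ⟨⟨h5.le (mem_zs_of hb h7), h.ne_one hb⟩, h8⟩, fun c hc => ?_⟩
    have := mul_mem (inv_mem h8) hc.2
    rw [mul_inv_rev, mul_assoc, inv_mul_cancel_left] at this
    exact (inv_mul_eq_one.1 (Invol.eq_one_of_odd_of_mem hS.isPGroup
      (mul_mem (inv_mem h7) (h4 (zs_le Z T hc.1.1))) (odd_orderOf_of_mem hO this))).symm
  have h6 := h.mem_of_zs hT.isPGroup hb.1 hb.2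
  have h7 := zs_le Z T hb.1
  obtain ⟨g, hg, rfl⟩ := h.trans_zs hT hX h3 (mem_zs_of ha h1) hb.1 (h.ne_one ha) hb.2
  have h8 := le_normalizer_inf (H := X ⊓ stabilizer G α)
    (inf_le_right.trans (le_normalizer_piCoreOf (π := {2}ᶜ) _)) (inf_le_left.trans le_normalizer)
    ⟨hg.1, h.norm_zs_le ha h1 h3 hg.2⟩
  rw [ncard_eq_of_conj (s := Xs _ a) (t := Xs (piCoreOf {2}ᶜ (stabilizer G α) ⊓ X) (g * a * g⁻¹)) g
    fun x => and_congr ?_ ?_]
  refine congrArg _ (Set.ext fun z => ⟨fun e => ⟨h.sq e.1.1, e.2, X.mul_mem e.1.2.1 (hT.le h7)⟩,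
    fun e => ⟨⟨?_, ?_, ?_⟩, e.2.1⟩⟩)
  · obtain ⟨c, -, -, rfl⟩ := exists_conj_of_mem_Xs hO (h.sq h6) ⟨e.1, e.2.1⟩
    exact h.conj _ h6 c
  · exact (X.mul_mem_cancel_right (hT.le h7)).1 e.2.2
  · exact ((stabilizer G α).mul_mem_cancel_right (h3 h7)).1 (piCoreOf_le _ e.2.1)
  · rw [conj_mul, conj_eq_one_iff]
  · rw [conj_mul]
    exact (mem_normalizer_iff.1 h8 _).symm

theorem t_uniq {u a t t' : G} (hu : u * u = 1) (ha : a ∈ Z) {γ : Ω} (h1 : a • γ = γ)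
    (h2 : u • γ ≠ γ) (ht : t ∈ Z) (ht' : t' ∈ Z) (c1 : t * u = u * t) (c2 : t' * u = u * t')
    (c3 : u * t * a = a * (u * t)) (c4 : u * t' * a = a * (u * t')) : t = t' := by
  obtain ⟨s, hs, h3, h4, h5⟩ := h.exists_t h.cen hu ha
  have key : ∀ t ∈ Z, t * u = u * t → u * t * a = a * (u * t) → s = t := fun t ht c1 c3 => by
    have e : s * t = u * s * (u * t) := by
      rw [← h4, mul_assoc, ← mul_assoc u, hu, one_mul]
    have h6 : a ∈ centralizer {s * t} := mem_cent.2 (by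
      rw [e, mul_assoc (u * s), c3, ← mul_assoc, ← mul_assoc, ← h5, mul_assoc, mul_assoc (u * s)])
    have h7 : u ∈ centralizer {s * t} := mem_cent.2 (by rw [mul_assoc, c1, ← mul_assoc s, h4, mul_assoc])
    have h8 := mem_cent.1 (h3 _ h6 h7)
    rw [mul_assoc, mul_left_cancel_iff] at h8
    by_contra h9
    have h10 := h.mul_mem hs ht h8 h9
    exact h2 (h.fix_of_comm h10 (h.fix_of_comm ha h1 (mem_cent.1 h6).symm) (mem_cent.1 h7))
  exact (key t ht c1 c3).symm.trans (key t' ht' c2 c4)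

theorem exists_flag {u : G} (hu : IsInv u) (hu' : u ∉ Z) : ∃ (T : Subgroup G) (α : Ω) (a : G),
    IsSylowIn 2 T (centralizer {u}) ∧ u • α = α ∧ T ≤ stabilizer G α ∧ a ∈ Z ∧ a ∈ T := by
  have : Fact (Nat.Prime 2) := ⟨Nat.prime_two⟩
  obtain ⟨T, hT⟩ := IsSylowIn.exists_in (p := 2) (centralizer ({u} : Set G))
  obtain ⟨α, h1, h2⟩ := (h.ln u hu hu').fix2 T hT.le hT.isPGroup
  obtain ⟨b, hb, -, h3⟩ := h.exists_cent' hu.1 h1
  obtain ⟨g, -, h4⟩ := h.exists_mem_sylow hT hb h3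
  exact ⟨T, α, _, hT, h1, h2, h.conj b hb g, h4⟩

theorem card_pts : Nat.card Ω = ((2 ^ n) ^ 2 + 1) * ((2 ^ n) ^ 2 * (2 ^ n - 1) + 1) := by
  have : Fact (Nat.Prime 2) := ⟨Nat.prime_two⟩
  have := h.finite
  obtain ⟨u, hu, hu'⟩ := h.ex
  obtain ⟨T, α, a, hT, h1, h2, ha, h3⟩ := h.exists_flag hu hu'
  have c1 := mem_cent.1 (hT.le h3)
  obtain ⟨hv, hv'⟩ := h.mul_not_mem hu hu' (Or.inr ha) c1
  have L := h.ln u hu hu'
  have L' := h.ln _ hv hv'
  have h4 : (u * a) • α = α := by rw [mul_smul, h2 h3, h1]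
  have e1 := h.cnt_pts (X := ⊤) (W := (fixedBy Ω u)ᶜ) (k := nz Z ⊤ α) fun β _ => by
    obtain ⟨g, rfl⟩ := h.trans α β
    exact h.nz_smul (mem_top g) α
  have e2 := h.cnt_pts (X := centralizer {u}) (W := fixedBy Ω u) (k := nz Z (centralizer {u}) α)
    fun β hβ => by
      obtain ⟨g, hg, rfl⟩ := L.tr α h1 β hβ
      exact h.nz_smul hg α
  have e3 := h.cnt_pts (X := centralizer {u * a}) (W := fixedBy Ω (u * a) \ {α})
    (k := nz Z (centralizer {u * a}) α) fun β hβ => by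
      obtain ⟨g, hg, rfl⟩ := L'.tr α h4 β hβ.1
      exact h.nz_smul hg α
  rw [Set.ncard_diff_singleton_of_mem (s := fixedBy Ω (u * a)) h4, L'.card,
    Nat.add_sub_cancel] at e3
  rw [L.card] at e2
  rw [ncard_eq_mul (t := {z | z ∈ Z ∧ z ∈ centralizer {u} ∧ ∃ β ∈ fixedBy Ω u, z • β = β})
    (k := (2 ^ n) ^ 2 * nz Z (centralizer {u * a}) α)
    (fun z t => u * t * z = z * (u * t)) ?_ ?_, e2] at e1
  rotate_left
  · rintro z ⟨hz, -, β, hβ, h5⟩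
    obtain ⟨t, ht, -, h6, h7⟩ := h.exists_t h.cen hu.1 hz
    obtain ⟨δ, h8⟩ := h.fix ht
    exact ⟨t, ⟨⟨ht, mem_cent.2 h6, δ, h.fix_of_comm ht h8 h6.symm, h8⟩, h7⟩, fun s hs =>
      h.t_uniq hu.1 hz h5 hβ hs.1.1 ht (mem_cent.1 hs.1.2.1) h6 hs.2 h7⟩
  · rintro t ⟨ht, h5, -⟩
    obtain ⟨g, hg, rfl⟩ := h.exists_conj_in (h.cent_not_le (h.bad hu hu') α) ha (hT.le h3) (h2 h3)
      ht h5
    have e : u * (g * a * g⁻¹) = g * (u * a) * g⁻¹ := by
      rw [← mul_assoc, ← mul_assoc, ← mem_cent.1 hg, mul_assoc g]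
    rw [← e3]
    refine (ncard_eq_of_conj g fun z => ?_).symm
    simp only [Set.mem_setOf_eq, e, conj_mul, mul_left_inj, mul_right_inj, h.conj_iff, mem_top,
      true_and, mem_cent, and_assoc]
    refine and_congr_right fun hz => ⟨fun ⟨⟨β, h6, h7⟩, h8⟩ => ?_, fun ⟨h6, β, h7, h8⟩ => ?_⟩
    · obtain ⟨β, rfl⟩ := MulAction.surjective g β
      rw [conj_smul_iff] at h7
      refine ⟨h8.symm, β, ⟨h.fix_of_comm hz h7 h8, fun e => h6 ?_⟩, h7⟩
      rw [show β = α from e]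
      exact L.mem g hg α h1
    · refine ⟨⟨g • β, fun e => h7.2 (h.uniq a ha _ _ ?_ (h2 h3)), conj_smul_eq h8⟩, h6.symm⟩
      have h9 : u • β = β := by simpa using L.mem _ (inv_mem hg) _ e
      have h10 : (u * a) • β = β := h7.1
      rwa [← c1, mul_smul, h9] at h10
  obtain ⟨S, h5, hS⟩ := IsSylowIn.exists_ge hT.isPGroup le_top
  obtain ⟨T', h6, hT'⟩ := IsSylowIn.exists_ge hT.isPGroup (H := centralizer {u * a})
    fun x hx => mem_cent.2 (by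
      rw [← mul_assoc, mem_cent.1 (hT.le hx), mul_assoc, h.cen T hT.isPGroup a ha h3 x hx,
        mul_assoc])
  have n1 : ∀ x ∈ stabilizer G α, x * x = 1 → ∀ y ∈ piCoreOf {2}ᶜ (stabilizer G α),
      x * y * x ∈ piCoreOf {2}ᶜ (stabilizer G α) := fun x hx e y hy => by
    have := conj_mem_of_mem_normalizer (le_normalizer_piCoreOf _ hx) hy
    rwa [Invol.inv_eq e] at this
  have e4 := ncard_Xs_mul (odd_piCoreOf (stabilizer G α)) (h.sq ha) hu.1 c1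
    (n1 a (h2 h3) (h.sq ha)) (n1 u h1 hu.1)
  have h7 : 0 < (Xs (piCoreOf {2}ᶜ (stabilizer G α)) a).ncard :=
    (Set.ncard_pos (Set.toFinite _)).2 ⟨a, h.sq ha, by rw [h.sq ha]; exact one_mem _⟩
  rw [h.cnt_na hS (fun e => h.stab_ne_top α (top_le_iff.1 e)) (h.cA S hS) ha (h5 h3) (h2 h3),
    h.cnt_na hT (h.cent_not_le (h.bad hu hu') α) (L.cA T hT) ha h3 (h2 h3),
    h.cnt_na hT' (h.cent_not_le (h.bad hv hv') α) (L'.cA T' hT') ha (h6 h3) (h2 h3), inf_top_eq,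
    ← c1] at e1
  have h8 := Set.ncard_add_ncard_compl (fixedBy Ω u)
  have h9 := h.eight
  rw [L.card] at h8
  have e5 : (fixedBy Ω u)ᶜ.ncard = ((2 ^ n) ^ 2 + 1) * ((2 ^ n) ^ 2 * (2 ^ n - 1)) := by
    refine Nat.eq_of_mul_eq_mul_right (Nat.mul_pos (show 0 < 2 ^ n - 1 by omega) h7) ?_
    rw [← e1, e4]
    ring
  rw [← h8, e5]
  ring

end BC

end CfsgLib.GO
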