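import Cfsg.Agent.Lib.GOB.Ln
import Cfsg.Agent.Lib.GOB.LemY

/-!
# The inductive context, bad involutions
-/

set_option autoImplicit false
set_option linter.unusedSectionVars false

namespace CfsgLib.GO

open Subgroup MulAction Cfsg CfsgLib.H1 CfsgLib.SE CfsgLib.Suz

universe u

section
variable {G : Type*} [Group G]

theorem mem_cent {a x : G} : x ∈ centralizer ({a} : Set G) ↔ x * a = a * x :=
  mem_centralizer_singleton_iff

theorem exists_two_ne_one [Finite G] {B : Subgroup G} (h : 2 < Nat.card B) :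
    ∃ a ∈ B, ∃ b ∈ B, a ≠ 1 ∧ b ≠ 1 ∧ a ≠ b := by
  have := Fintype.ofFinite B
  rw [Nat.card_eq_fintype_card] at h
  obtain ⟨x, y, z, h1, h2, h3⟩ := Fintype.two_lt_card_iff.1 h
  have e : ∀ {s t : B}, s ≠ t → ((s⁻¹ * t : B) : G) ≠ 1 := fun h e =>
    h (inv_mul_eq_one.1 (Subtype.ext e))
  exact ⟨_, (x⁻¹ * y).2, _, (x⁻¹ * z).2, e h1, e h2,
    fun e => h3 (mul_left_cancel (Subtype.ext e : x⁻¹ * y = x⁻¹ * z))⟩

theorem exists_sq_mem {C : Subgroup G} {x : G} (hp : IsPGroup 2 (zpowers x)) (h : x ∉ C) :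
    ∃ y ∈ zpowers x, y ∉ C ∧ y * y ∈ C := by
  obtain ⟨k, hk⟩ := hp ⟨x, mem_zpowers x⟩
  have h1 : x ^ 2 ^ k ∈ C := by
    rw [show x ^ 2 ^ k = 1 from congrArg Subtype.val hk]; exact one_mem _
  clear hk
  induction k with
  | zero => exact absurd (by simpa using h1) h
  | succ k ih =>
    by_cases h2 : x ^ 2 ^ k ∈ C
    · exact ih h2
    · exact ⟨_, pow_mem (mem_zpowers x) _, h2, by rwa [← pow_add, ← two_mul, ← pow_succ']⟩

theorem ZC.f4_of_card [Finite G] {Z : Set G} (h : ZC Z) {P B : Subgroup G} (hP : IsPGroup 2 P)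
    (h1 : B ≤ zs Z P) (h2 : 2 < Nat.card B) : F4 Z B := by
  obtain ⟨a, ha, b, hb, h3, h4, h5⟩ := exists_two_ne_one h2
  exact ⟨a, h.mem_of_zs hP (h1 ha) h3, b, h.mem_of_zs hP (h1 hb) h4, ha, hb, h5,
    h.zs_comm hP (h1 ha) (h1 hb)⟩

theorem ZC.zs_inf {Z : Set G} (h : ZC Z) {P : Subgroup G} (hP : IsPGroup 2 P) (X : Subgroup G) :
    zs Z (P ⊓ X) = zs Z P ⊓ X := by
  ext x
  rw [mem_inf, h.mem_zs hP, h.mem_zs hP.to_inf_left, mem_inf]
  exact ⟨fun e => e.elim (fun e => ⟨Or.inl e, e ▸ one_mem _⟩) fun e => ⟨Or.inr ⟨e.1, e.2.1⟩, e.2.2⟩,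
    fun e => e.1.imp id fun e' => ⟨e'.1, e'.2, e.2⟩⟩

theorem ZC.mul_not_mem {Z : Set G} (h : ZC Z) {u t : G} (hu : IsInv u) (hu' : u ∉ Z)
    (ht : t = 1 ∨ t ∈ Z) (hc : t * u = u * t) : IsInv (u * t) ∧ u * t ∉ Z := by
  rcases ht with rfl | ht
  · rw [mul_one]; exact ⟨hu, hu'⟩
  refine ⟨isInv_mul hu (h.inv t ht) (fun e => hu' (e ▸ ht)) hc.symm, fun e => ?_⟩
  have := h.mul_of_comm e ht (by rw [← mul_assoc, hc])
  rw [mul_assoc, h.sq ht, mul_one] at this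
  exact this.elim hu.2 hu'

end

/-- The elements of `Z` are central in every `2`-subgroup containing them. -/
def Cen {G : Type*} [Group G] (Z : Set G) : Prop :=
  ∀ P : Subgroup G, IsPGroup 2 P → ∀ z ∈ Z, z ∈ P → ∀ x ∈ P, x * z = z * x

theorem Cen.zs_le {G : Type*} [Group G] {Z : Set G} (h : Cen Z) {P : Subgroup G}
    (hP : IsPGroup 2 P) {x : G} (hx : x ∈ P) : zs Z P ≤ centralizer {x} :=
  (closure_le _).2 fun z hz => mem_cent.2 (h P hP z hz.1 hz.2 x hx).symm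

theorem Cen.comm {G : Type*} [Group G] {Z : Set G} (h : Cen Z) {P : Subgroup G}
    (hP : IsPGroup 2 P) {x a : G} (hx : x ∈ P) (ha : a ∈ zs Z P) : a * x = x * a :=
  mem_cent.1 (h.zs_le hP hx ha)

/-- The inductive context. -/
structure Ctx (G Ω : Type u) [Group G] [MulAction G Ω] (Z : Set G) : Prop extends ZS G Ω Z where
  s3f : S3F G
  kg : ∀ H : Subgroup G, H ≠ ⊤ → KG H
  faith : ∀ g : G, (∀ ω : Ω, g • ω = ω) → g = 1
  ih : IHZ.{u} (Nat.card G)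

/-- An involution outside `Z` fixing two points. -/
def Bad {G : Type*} [Group G] (Ω : Type*) [MulAction G Ω] (Z : Set G) (u : G) : Prop :=
  IsInv u ∧ u ∉ Z ∧ ∃ α β : Ω, α ≠ β ∧ u • α = α ∧ u • β = β

namespace ZS

variable {G Ω : Type*} [Group G] [Finite G] [MulAction G Ω] {Z : Set G} (h : ZS G Ω Z)
include h

theorem exists_cent {P : Subgroup G} (hP : IsPGroup 2 P) {α : Ω} (h1 : P ≤ stabilizer G α) :
    ∃ b ∈ Z, b • α = α ∧ P ≤ centralizer {b} := by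
  have : Fact (Nat.Prime 2) := ⟨Nat.prime_two⟩
  obtain ⟨S, h2, hS⟩ := IsSylowIn.exists_ge hP h1
  obtain ⟨a, ha, h3⟩ := h.exists_fix α
  obtain ⟨g, -, h4⟩ := h.exists_mem_sylow hS ha h3
  obtain ⟨b, hb, h5, h6⟩ := h.exists_center hS.isPGroup (h.conj a ha g) h4
  exact ⟨b, hb, hS.le h5, h2.trans h6⟩

theorem exists_cent' {u : G} (hu : u * u = 1) {α : Ω} (h1 : u • α = α) :
    ∃ b ∈ Z, b • α = α ∧ b ∈ centralizer {u} := by
  obtain ⟨b, hb, h2, h3⟩ := h.exists_cent (Invol.isPGroup_zpowers hu) (zpowers_le.2 h1)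
  exact ⟨b, hb, h2, mem_cent.2 (mem_cent.1 (h3 (mem_zpowers u))).symm⟩

theorem orbit_cent {u : G} (hu : u * u = 1) {α : Ω} (h1 : u • α = α) :
    orbit (centralizer ({u} : Set G)) α = fixedBy Ω u := by
  ext β
  refine ⟨?_, fun h2 => ?_⟩
  · rintro ⟨g, rfl⟩
    exact smul_smul_of_comm (mem_cent.1 g.2) h1
  by_cases e : α = β
  · exact e ▸ mem_orbit_self α
  obtain ⟨a, ha, a1, a2⟩ := h.exists_cent' hu h1
  obtain ⟨b, hb, b1, b2⟩ := h.exists_cent' hu h2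
  obtain ⟨t, -, h3, -, h4, -⟩ := h.exists_swap' ha hb a1 b1 e a2 b2
  exact ⟨⟨t, h3⟩, h4⟩

theorem cent_not_le {u : G} (hu : Bad Ω Z u) (α : Ω) :
    ¬ centralizer {u} ≤ stabilizer G α := fun e => by
  obtain ⟨hu, -, β, γ, h1, h2, h3⟩ := hu
  obtain ⟨a, ha, a1, a2⟩ := h.exists_cent' hu.1 h2
  obtain ⟨b, hb, b1, b2⟩ := h.exists_cent' hu.1 h3
  exact h1 ((h.uniq a ha _ _ a1 (e a2)).trans (h.uniq b hb _ _ (e b2) b1))

theorem exists_stab {P : Subgroup G} (hP : IsPGroup 2 P) : ∃ α : Ω, P ≤ stabilizer G α := by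
  have : Fact (Nat.Prime 2) := ⟨Nat.prime_two⟩
  obtain ⟨S, h2, hS⟩ := IsSylowIn.exists_ge hP le_top
  obtain ⟨α, -⟩ := h.nontriv
  obtain ⟨a, ha, h3⟩ := h.exists_fix α
  obtain ⟨g, -, h4⟩ := h.sylow_le_stab hS ha (mem_top a) h3
  exact ⟨_, h2.trans h4⟩

theorem f4_top : F4 Z ⊤ :=
  let ⟨_, h⟩ := h.four
  h.mono le_top

theorem norm_zs_le' {S : Subgroup G} (hS : IsSylowIn 2 S ⊤) {α : Ω} (h1 : S ≤ stabilizer G α) :
    normalizer (zs Z S : Set G) ≤ stabilizer G α := by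
  obtain ⟨a, ha, -⟩ := h.f4_top
  obtain ⟨g, -, h2⟩ := h.exists_mem_sylow hS ha (mem_top a)
  exact h.norm_zs_le (h.conj a ha g) h2 h1

theorem bad_of {v : G} (hv : IsInv v) {α β : Ω} (hne : α ≠ β) (h1 : v • α = α)
    (h2 : v • β = β) : Bad Ω Z v :=
  ⟨hv, fun e => hne (h.uniq v e _ _ h1 h2), α, β, hne, h1, h2⟩

end ZS

namespace Ctx

variable {G Ω : Type u} [Group G] [Finite G] [MulAction G Ω] {Z : Set G} (h : Ctx G Ω Z)
include h

theorem ln {X : Subgroup G} (h0 : X ≠ ⊤) {α : Ω} (hX : ¬ X ≤ stabilizer G α)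
    (h4 : F4 Z (X ⊓ stabilizer G α)) : ∃ n, Ln Z X (orbit X α) n :=
  h.ih.ln h.toZS (card_lt_of_ne_top h0) (h.s3f.subgroup X) (h.kg X h0) hX h4

theorem exists_move {u : G} (hu : u ≠ 1) : ∃ γ : Ω, u • γ ≠ γ := by
  by_contra! e
  exact hu (h.faith u e)

theorem cent_ne_top {u : G} (hu : u ≠ 1) {α : Ω} (h1 : u • α = α) :
    centralizer ({u} : Set G) ≠ ⊤ := fun e => hu (h.faith u fun β => by
  obtain ⟨g, rfl⟩ := h.trans α β
  exact smul_smul_of_comm (mem_cent.1 (e.ge (mem_top g))) h1)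

theorem exists_bad {u : G} (hu : IsInv u) (hu' : u ∉ Z) : ∃ v, Bad Ω Z v := by
  obtain ⟨γ, hγ⟩ := h.exists_move hu.2
  obtain ⟨z, hz, h1⟩ := h.exists_fix γ
  have he : Even (orderOf (z * u)) := Nat.not_odd_iff_even.1 fun ho => by
    obtain ⟨s, -, rfl⟩ := Invol.exists_conj_of_odd (h.sq hz) hu.1 ho
    exact hu' (h.conj z hz s)
  obtain ⟨v, hv, h2, h3⟩ := Invol.exists_involution_mem_zpowers he
  have h4 := Invol.inverts_of_mem_zpowers (Invol.inverts_mul (h.sq hz) hu.1) hv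
  rw [Invol.inv_eq h3, mul_inv_eq_iff_eq_mul] at h4
  have h5 : v * (z * u) = z * u * v := by
    obtain ⟨k, rfl⟩ := hv
    exact ((Commute.refl _).zpow_left k).eq
  rw [← mul_assoc, ← h4, mul_assoc, mul_assoc, mul_left_cancel_iff] at h5
  have h6 := h.fix_of_comm hz h1 h4.symm
  exact ⟨v, h.bad_of ⟨h3, h2⟩ hγ (smul_smul_of_comm h5.symm h6) h6⟩

theorem lemY {S : Subgroup G} (hS : IsSylowIn 2 S ⊤) {w : G}
    (hw : w ∈ normalizer (zs Z S : Set G)) (h1 : w * w ∈ centralizer (zs Z S : Set G))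
    (h2 : w ∉ centralizer (zs Z S : Set G)) :
    Nat.card (zs Z S) = Nat.card ↥(zs Z S ⊓ centralizer {w}) ^ 2 ∧
      3 ∣ Nat.card ↥(zs Z S ⊓ centralizer {w}) - 1 := by
  obtain ⟨α, hα⟩ := h.exists_stab hS.isPGroup
  have hN : normalizer (zs Z S : Set G) ≠ ⊤ :=
    ne_top_of_le_ne_top (h.stab_ne_top α) (h.norm_zs_le' hS hα)
  set A := zs Z S with hA
  have e : ∀ x : normalizer (A : Set G), x ∈ centralizer (A.subgroupOf (normalizer (A : Set G)) :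
      Set (normalizer (A : Set G))) ↔ (x : G) ∈ centralizer (A : Set G) := fun x => by
    rw [← mem_centralizer_map_subtype, map_subtype_subgroupOf le_normalizer]
  have := lemY_inv (h.s3f.subgroup _) (h.kg _ hN) (A := A.subgroupOf (normalizer (A : Set G)))
    (isElementaryAbelian_two_of_sq fun x hx => Subtype.ext
      (by rw [pow_two]; exact h.zs_sq hS.isPGroup hx))
    (fun a ha b hb a1 b1 => by
      obtain ⟨n, hn, h3⟩ := h.trans_zs hS (fun e => h.stab_ne_top α (top_le_iff.1 e)) hα ha hb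
        (fun e => a1 (Subtype.ext e)) fun e => b1 (Subtype.ext e)
      exact ⟨⟨n, hn.2⟩, Subtype.ext h3⟩) (w := ⟨w, hw⟩) ((e _).2 h1) (fun e' => h2 ((e _).1 e'))
  rwa [card_subgroupOf_of_le le_normalizer, show A.subgroupOf (normalizer (A : Set G)) ⊓
    centralizer {⟨w, hw⟩} = (A ⊓ centralizer {w}).subgroupOf _ from Subgroup.ext fun x => by
      rw [mem_inf, mem_subgroupOf, mem_subgroupOf, mem_inf, mem_cent, mem_cent, Subtype.ext_iff]
      rfl, card_subgroupOf_of_le (inf_le_left.trans le_normalizer)] at this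

theorem ln_bad {u : G} (hu : Bad Ω Z u) : ∃ n, Ln Z (centralizer {u}) (fixedBy Ω u) n := by
  have : Fact (Nat.Prime 2) := ⟨Nat.prime_two⟩
  have h0 := h.cent_not_le hu
  obtain ⟨hu, -, α, -, -, h1, -⟩ := hu
  rw [← h.orbit_cent hu.1 h1]
  refine h.ln (h.cent_ne_top hu.2 h1) (h0 α) ?_
  obtain ⟨S, h2, hS⟩ := IsSylowIn.exists_ge (Invol.isPGroup_zpowers hu.1)
    (zpowers_le.2 (show u ∈ stabilizer G α from h1))
  have h3 := h.four_le hS (h.f4 α)
  refine (h.f4_of_card hS.isPGroup (B := zs Z S ⊓ centralizer {u}) inf_le_left ?_).mono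
    (le_inf inf_le_right (inf_le_left.trans ((zs_le Z S).trans hS.le)))
  by_cases h4 : u ∈ centralizer (zs Z S : Set G)
  · rw [inf_eq_left.2 fun x hx => mem_cent.2 (h4 x hx)]
    omega
  obtain ⟨h5, h6⟩ := h.lemY (h.sylow_top hS) (h.norm_zs S (le_normalizer (h2 (mem_zpowers u))))
    (by rw [hu.1]; exact one_mem _) h4
  rw [h5] at h3
  generalize Nat.card ↥(zs Z S ⊓ centralizer {u}) = m at h3 h6
  by_contra! h7
  interval_cases m <;> omega

end Ctx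

/-- The context with an involution outside `Z`. -/
structure BC (G Ω : Type u) [Group G] [MulAction G Ω] (Z : Set G) (n : ℕ) : Prop
    extends Ctx G Ω Z where
  ex : ∃ u, IsInv u ∧ u ∉ Z
  cA : ∀ S, IsSylowIn 2 S ⊤ → Nat.card (zs Z S) = 2 ^ n
  cen : Cen Z
  ln : ∀ u, IsInv u → u ∉ Z → Ln Z (centralizer {u}) (fixedBy Ω u) n

section
variable {G : Type*} [Group G] [Finite G] {Z : Set G}

theorem ZC.exists_t (h : ZC Z)
    (cen : Cen Z) {u a : G}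
    (hu : u * u = 1) (ha : a ∈ Z) : ∃ t ∈ Z, (∀ L : Subgroup G, a ∈ L → u ∈ L → t ∈ L) ∧
      t * u = u * t ∧ u * t * a = a * (u * t) := by
  obtain ⟨j, hj⟩ := exists_odd_pow (a * u)
  have i1 := Invol.inverts_mul (h.sq ha) hu
  have i2 := Invol.inverts_of_mem_zpowers i1 (pow_mem (mem_zpowers _) (2 * j + 1))
  have i3 := Invol.inverts_of_mem_zpowers i1 (pow_mem (mem_zpowers _) j)
  have c1 := cen _ (isPGroup_sup_of_le_normalizer (Invol.isPGroup_zpowers (h.sq ha)) hj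
    (zpowers_le.2 (mem_normalizer_fintype fun x hx => by
      rw [Invol.inverts_of_mem_zpowers i2 hx]; exact inv_mem hx))) a ha
    (mem_sup_left (mem_zpowers a)) _ (mem_sup_right (mem_zpowers _))
  have c2 : (a * u) ^ (2 * j + 1) * (a * u) = a * u * (a * u) ^ (2 * j + 1) :=
    ((Commute.refl _).pow_left _).eq
  rw [← mul_assoc, c1, mul_assoc, mul_assoc a u, mul_left_cancel_iff] at c2
  refine ⟨u * (a * u) ^ (2 * j + 1), ?_, fun L h1 h2 => L.mul_mem h2 (L.pow_mem (L.mul_mem h1 h2) _),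
    by rw [mul_assoc, c2], by rw [← mul_assoc u u, hu, one_mul, c1]⟩
  have := h.conj a ha (u * (a * u) ^ j)
  rw [mul_inv_rev, Invol.inv_eq hu, ← i3, Invol.inv_eq (h.sq ha)] at this
  rw [pow_succ, two_mul, pow_add]
  simpa only [mul_assoc, (h.inv a ha).mul_mul] using this

end

namespace Ctx

variable {G Ω : Type u} [Group G] [Finite G] [MulAction G Ω] {Z : Set G} (h : Ctx G Ω Z)
include h

theorem bad_mul (cen : Cen Z) {u t : G}
    (hu : Bad Ω Z u) (ht : t ∈ Z) (hc : t * u = u * t) : Bad Ω Z (u * t) := by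
  obtain ⟨γ, hγ⟩ := h.exists_move hu.1.2
  obtain ⟨a, ha, h1⟩ := h.exists_fix γ
  obtain ⟨s, hs, -, h2, h3⟩ := h.exists_t cen hu.1.1 ha
  obtain ⟨δ, h4⟩ := h.fix hs
  obtain ⟨g, hg, rfl⟩ := h.exists_conj_in (h.cent_not_le hu δ) hs (mem_cent.2 h2) h4 ht
    (mem_cent.2 hc)
  have h5 := h.fix_of_comm hs h4 h2.symm
  have e : u * (g * s * g⁻¹) = g * (u * s) * g⁻¹ := by
    rw [← mul_assoc, ← mul_assoc, ← mem_cent.1 hg, mul_assoc g]
  rw [e]
  exact h.bad_of ((h.mul_not_mem hu.1 hu.2.1 (Or.inr hs) h2).1.conj g) (α := g • γ) (β := g • δ)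
    (fun e => hγ (by rw [smul_left_cancel g e, h5])) (conj_smul_eq (h.fix_of_comm ha h1 h3))
    (conj_smul_eq (by rw [mul_smul, h4, h5]))

theorem bad_all (cen : Cen Z) {u : G}
    (hu : IsInv u) (hu' : u ∉ Z) : Bad Ω Z u := by
  obtain ⟨γ, hγ⟩ := h.exists_move hu.2
  obtain ⟨a, ha, h1⟩ := h.exists_fix γ
  obtain ⟨s, hs, -, h2, h3⟩ := h.exists_t cen hu.1 ha
  have h4 := h.fix_of_comm ha h1 h3
  have := h.bad_mul cen (h.bad_of (h.mul_not_mem hu hu' (Or.inr hs) h2).1 hγ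
    (smul_smul_of_comm (by rw [mul_assoc, h2]) h4) h4) hs (by rw [← mul_assoc, h2])
  rwa [mul_assoc, h.sq hs, mul_one] at this

theorem bc {u : G} (hu : IsInv u) (hu' : u ∉ Z) : ∃ n, BC G Ω Z n := by
  have : Fact (Nat.Prime 2) := ⟨Nat.prime_two⟩
  have key : ∀ v n, IsInv v → Ln Z (centralizer {v}) (fixedBy Ω v) n → ∃ S, IsSylowIn 2 S ⊤ ∧
      v ∈ S ∧ Nat.card ↥(zs Z S ⊓ centralizer {v}) = 2 ^ n := fun v n hv L => by
    obtain ⟨T, h1, hT⟩ := IsSylowIn.exists_ge (Invol.isPGroup_zpowers hv.1)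
      (zpowers_le.2 (mem_cent.2 rfl))
    obtain ⟨S, h2, hS⟩ := IsSylowIn.exists_ge hT.isPGroup le_top
    refine ⟨S, hS, h2 (h1 (mem_zpowers v)), ?_⟩
    rw [← h.zs_inf hS.isPGroup, hT.eq_of_le hS.isPGroup.to_inf_left (le_inf h2 hT.le)
      inf_le_right, L.cA T hT]
  obtain ⟨v, hv⟩ := h.exists_bad hu hu'
  obtain ⟨n, L⟩ := h.ln_bad hv
  obtain ⟨S, hS, h1, h2⟩ := key v n hv.1 L
  have h3 : v ∈ centralizer (zs Z S : Set G) := by_contra fun h3 => by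
    have := (h.lemY hS (h.norm_zs S (le_normalizer h1)) (by rw [hv.1.1]; exact one_mem _) h3).2
    obtain ⟨k, hk⟩ := L.odd
    rw [h2, hk, pow_succ, pow_mul] at this
    have h4 : (2 ^ 2) ^ k % 3 = 1 := by rw [Nat.pow_mod]; simp
    omega
  rw [inf_eq_left.2 fun x hx => mem_cent.2 (h3 x hx)] at h2
  have cA : ∀ S, IsSylowIn 2 S ⊤ → Nat.card (zs Z S) = 2 ^ n := fun S' hS' =>
    h2 ▸ le_antisymm (h.card_zs_le hS hS'.isPGroup le_top) (h.card_zs_le hS' hS.isPGroup le_top)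
  have cen : Cen Z := by
    intro P hP z hz h4 x hx
    obtain ⟨S, h5, hS⟩ := IsSylowIn.exists_ge hP le_top
    refine ((show x ∈ centralizer (zs Z S : Set G) from by_contra fun h6 => ?_) z
      (mem_zs_of hz (h5 h4))).symm
    obtain ⟨y, hy, h7, h8⟩ := exists_sq_mem (isPGroup_zpowers_of_mem hP hx) h6
    have := (h.lemY hS (h.norm_zs S (le_normalizer (h5 (zpowers_le.2 hx hy)))) h8 h7).1
    obtain ⟨i, hi⟩ := ((hS.isPGroup.to_le (zs_le Z S)).to_inf_left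
      (K := centralizer {y})).exists_card_eq
    rw [cA S hS, hi, ← pow_mul, Nat.pow_right_inj one_lt_two] at this
    obtain ⟨k, hk⟩ := L.odd
    omega
  refine ⟨n, h, ⟨u, hu, hu'⟩, cA, cen, fun w hw hw' => ?_⟩
  obtain ⟨m, L'⟩ := h.ln_bad (h.bad_all cen hw hw')
  obtain ⟨S, hS, h1, h2⟩ := key w m hw L'
  rw [inf_eq_left.2 (cen.zs_le hS.isPGroup h1), cA S hS, Nat.pow_right_inj one_lt_two] at h2
  exact h2 ▸ L'

end Ctx

end CfsgLib.GO
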