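import Cfsg.Agent.Lib.GO.Main

/-!
# Simple `S₃`-free groups: definitions for step B
-/

set_option autoImplicit false

namespace CfsgLib.GO

open Subgroup Cfsg CfsgLib.H1

universe u

/-- A (hypothetical) minimal unknown simple `S₃`-free group: all proper subgroups are known. -/
structure MC (G : Type u) [Group G] : Prop where
  simple : IsSimpleGroup G
  nonab : ¬ IsMulCommutative G
  s3f : S3F G
  kg : ∀ H : Subgroup G, H ≠ ⊤ → KG H

/-- `A` is a nontrivial elementary abelian subgroup of the Sylow `2`-subgroup `S`, strongly closed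
in `S` with respect to `G`, and `N_G(A)` controls strong fusion in `S`. -/
structure SCA {G : Type*} [Group G] (S A : Subgroup G) : Prop where
  syl : IsSylowIn 2 S ⊤
  le : A ≤ S
  ea : IsElementaryAbelian 2 A
  ne : A ≠ ⊥
  sc : ∀ g : G, ∀ a ∈ A, g * a * g⁻¹ ∈ S → g * a * g⁻¹ ∈ A
  ctl : Ctl ⊤ S (normalizer (A : Set G))

/-- The product disconnected configuration. -/
structure ZD {G : Type*} [Group G] (A M : Subgroup G) : Prop where
  ne : M ≠ ⊤
  norm : normalizer (A : Set G) ≤ M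
  cent : ∀ a ∈ A, a ≠ 1 → centralizer {a} ≤ M

theorem MC.lkg {G : Type u} [Group G] [Finite G] (h : MC G) : LKG G := fun D hD h0 =>
  h.kg _ fun e => by
    have := h.simple
    rcases (normalizer_eq_top_iff.1 e).eq_bot_or_eq_top with h1 | rfl
    · exact h0 h1
    · have := (hD.of_equiv topEquiv).isNilpotent
      exact h.nonab (IsSimpleGroup.comm_iff_isSolvable.2 inferInstance |> fun h =>
        ⟨⟨h⟩⟩)

/-- The large choice `A = Ω₁ Z(R)`: it contains `Ω₁ Z(S)`. -/
theorem MC.exists_sca {G : Type u} [Group G] [Finite G] (h : MC G) (S : Sylow 2 G)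
    (h0 : (S : Subgroup G) ≠ ⊥) : ∃ A, SCA (S : Subgroup G) A ∧
      ∀ z ∈ (S : Subgroup G), z ∈ centralizer (S : Set G) → z * z = 1 → z ∈ A := by
  obtain ⟨A, h1, h2, h3, h4, h5⟩ := exists_strongly_closed h.s3f h.lkg S
  refine ⟨A, ⟨IsSylowIn.sylow_top S, h1, h2, fun e => ?_, h4, h5⟩, h3⟩
  have h6 := inf_centralizer_ne_bot_of_isNilpotent S.isPGroup'.isNilpotent le_rfl le_normalizer h0
  obtain ⟨z, hz, h7, h8⟩ := Suz.exists_invol_of_even (A := (S : Subgroup G) ⊓ centralizer S) (by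
    obtain ⟨k, hk⟩ := (S.isPGroup'.to_inf_left (K := centralizer (S : Set G))).exists_card_eq
    rcases k with _ | k
    · exact absurd (card_eq_one.1 hk) h6
    · rw [hk]; exact Nat.even_pow.2 ⟨even_two, k.succ_ne_zero⟩)
  exact h7 (e.le (h3 z hz.1 hz.2 h8))

theorem SCA.of_le {G : Type*} [Group G] {S A B : Subgroup G} (h : SCA S A) (h1 : B ≤ A)
    (h0 : B ≠ ⊥) (hn : normalizer (A : Set G) ≤ normalizer (B : Set G)) : SCA S B :=
  ⟨h.syl, h1.trans h.le, isElementaryAbelian_two_of_sq fun x hx => h.ea.2 x (h1 hx), h0,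
    fun g _ ha => (h.ctl.mono hn).conj_mem (h1.trans h.le) (mem_top g) ha, h.ctl.mono hn⟩

/-- The small choice: `N_G(A)` acts irreducibly on `A`. -/
theorem SCA.exists_irr {G : Type*} [Group G] [Finite G] {S A : Subgroup G} (h : SCA S A) :
    ∃ B ≤ A, SCA S B ∧ ∀ C ≤ B, normalizer (B : Set G) ≤ normalizer (C : Set G) →
      C = ⊥ ∨ C = B := by
  obtain ⟨B, h1, h2⟩ := exists_minimal_le_of_wellFoundedLT (SCA S) A h
  exact ⟨B, h1, h2.1, fun C hC hn => or_iff_not_imp_left.2 fun h0 =>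
    le_antisymm hC (h2.2 (h2.1.of_le hC h0 hn) hC)⟩

end CfsgLib.GO
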