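import Cfsg.Agent.Lib.GOB.Defs
import Cfsg.Agent.Lib.Wal.H5BAut
import Cfsg.Agent.Lib.GW.CountD
import Cfsg.Agent.Lib.BSW.SelfNorm
import Cfsg.Agent.Lib.Extraspecial

/-!
# The `3`-local structure of `L₂(3^(2f+1))` and of its perfect central extensions
-/

set_option autoImplicit false
set_option linter.unusedSectionVars false

namespace CfsgLib.GO

open Subgroup Cfsg CfsgLib.H1 CfsgLib.Cop
open scoped commutatorElement

section
open Matrix MatrixGroups CfsgLib.H5 CfsgLib.GW.PA CfsgLib.BSW CfsgLib.H5.JB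

/-- The `3`-local facts on `L₂(3^(2f+1))`. -/
theorem L3T.exists_syl {K : Type*} [Group K] (h : L3T K) : ∃ (P : Subgroup K) (f : ℕ), 1 ≤ f ∧
    Nat.card P = 3 ^ (2 * f + 1) ∧ (∀ x ∈ P, x ^ 3 = 1) ∧
    (∀ x ∈ P, x ≠ 1 → centralizer {x} = P) ∧
    ∀ x ∈ P, ∀ y ∈ P, x ≠ 1 → y ≠ 1 →
      ∃ g ∈ normalizer (P : Set K), g * x * g⁻¹ = y ∨ g * x * g⁻¹ = y⁻¹ := by
  classical
  obtain ⟨F, _, _, f, h1, hF, ⟨e⟩⟩ := h
  have : Finite K := Finite.of_equiv _ e.symm.toEquiv
  have h8 : Fintype.card F % 8 = 3 := by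
    rw [hF, pow_succ, pow_mul, Nat.mul_mod, Nat.pow_mod]; simp
  have h2 : (2 : F) ≠ 0 := two_ne_zero_of_card (Or.inl h8)
  have : Fact (Nat.Prime 3) := ⟨Nat.prime_three⟩
  have : CharP F 3 := charP_of_card_eq_prime_pow hF
  have hm : ∀ {x : K}, x ∈ (Rv (1 : F) 0).comap e.toMonoidHom ↔ ∃ c, up c = e x := mem_Rv
  have hinv : ∀ c : F, (up c)⁻¹ = up (-c) := fun c =>
    inv_eq_of_mul_eq_one_right (by rw [← up_add, add_neg_cancel, up_zero])
  refine ⟨(Rv (1 : F) 0).comap e.toMonoidHom, f, h1, ?_, fun x hx => ?_, fun x hx hx1 => ?_,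
    fun x hx y hy hx1 hy1 => ?_⟩
  · rw [← hF, ← Nat.card_eq_fintype_card]
    refine (Nat.card_congr (Equiv.ofBijective
      (fun c : F => (⟨e.symm (up c), hm.2 ⟨c, by simp⟩⟩ : (Rv (1 : F) 0).comap e.toMonoidHom))
      ⟨fun a b h => up_inj h2 (e.symm.injective (congrArg Subtype.val h)), fun x => ?_⟩)).symm
    obtain ⟨c, hc⟩ := hm.1 x.2
    exact ⟨c, Subtype.ext (by simp [hc])⟩
  · obtain ⟨c, hc⟩ := hm.1 hx
    refine e.injective ?_
    rw [map_pow, ← hc, up_pow, CharP.cast_eq_zero, zero_mul, up_zero, map_one]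
  · ext g
    rw [mem_comap, ← cent_eq_Rv h2 (g := e x) hx (by simpa using hx1),
      mem_centralizer_singleton_iff, mem_centralizer_singleton_iff]
    change _ ↔ e g * e x = e x * e g
    rw [← map_mul, ← map_mul, e.injective.eq_iff]
  · obtain ⟨a, ha⟩ := hm.1 hx
    obtain ⟨b, hb⟩ := hm.1 hy
    have ha0 : a ≠ 0 := by
      rintro rfl
      exact hx1 (e.injective (by rw [← ha, up_zero, map_one]))
    have hb0 : b ≠ 0 := by
      rintro rfl
      exact hy1 (e.injective (by rw [← hb, up_zero, map_one]))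
    have key : ∀ r : F, ∀ hr : r ≠ 0, e.symm (piP F (dg r hr)) ∈
        normalizer (((Rv (1 : F) 0).comap e.toMonoidHom : Subgroup K) : Set K) := fun r hr =>
      mem_normalizer_of_conj_mem fun z hz => by
        obtain ⟨c, hc⟩ := hm.1 hz
        exact hm.2 ⟨r * r * c, by rw [← dg_up hr, hc]; simp⟩
    have hc : ∀ (r : F) (hr : r ≠ 0), e.symm (piP F (dg r hr)) * x * (e.symm (piP F (dg r hr)))⁻¹ =
        e.symm (up (r * r * a)) := fun r hr => by
      rw [← dg_up hr, ha]; simp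
    by_cases hs : IsSquare (b / a)
    · obtain ⟨r, hr⟩ := hs
      have hr0 : r ≠ 0 := by rintro rfl; simp [ha0, hb0] at hr
      refine ⟨_, key r hr0, Or.inl ?_⟩
      rw [hc, ← hr, div_mul_cancel₀ _ ha0, hb, e.symm_apply_apply]
    · have h3 : ¬ IsSquare (-1 : F) := by
        rw [FiniteField.isSquare_neg_one_iff]; omega
      have h4 : IsSquare (-1 * (b / a)) := by
        have h5 := (quadraticChar_neg_one_iff_not_isSquare (F := F)).2 hs
        have h6 := (quadraticChar_neg_one_iff_not_isSquare (F := F)).2 h3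
        exact (quadraticChar_one_iff_isSquare (by simp [ha0, hb0])).1 (by rw [map_mul, h5, h6]; simp)
      obtain ⟨r, hr⟩ := h4
      have hr0 : r ≠ 0 := by rintro rfl; simp [ha0, hb0] at hr
      refine ⟨_, key r hr0, Or.inr ?_⟩
      rw [hc, ← hr, mul_assoc, div_mul_cancel₀ _ ha0, neg_one_mul, ← hinv, hb, map_inv,
        e.symm_apply_apply]

end

/-- The data of `L3T.exists_syl`. -/
structure Syl3 {K : Type*} [Group K] (P : Subgroup K) (f : ℕ) : Prop where
  pos : 1 ≤ f
  card : Nat.card P = 3 ^ (2 * f + 1)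
  pow : ∀ x ∈ P, x ^ 3 = 1
  cent : ∀ x ∈ P, x ≠ 1 → centralizer {x} = P
  tr : ∀ x ∈ P, ∀ y ∈ P, x ≠ 1 → y ≠ 1 →
    ∃ g ∈ normalizer (P : Set K), g * x * g⁻¹ = y ∨ g * x * g⁻¹ = y⁻¹

theorem L3T.exists_syl3 {K : Type*} [Group K] (h : L3T K) : ∃ (P : Subgroup K) (f : ℕ), Syl3 P f :=
  let ⟨P, f, h1, h2, h3, h4, h5⟩ := h.exists_syl
  ⟨P, f, h1, h2, h3, h4, h5⟩

namespace Syl3

variable {K : Type*} [Group K] [Finite K] {P : Subgroup K} {f : ℕ} (h : Syl3 P f)
include h

theorem isPGroup : IsPGroup 3 P := IsPGroup.of_card h.card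

theorem comm {x y : K} (hx : x ∈ P) (hy : y ∈ P) : x * y = y * x := by
  by_cases h1 : y = 1
  · simp [h1]
  · exact mem_centralizer_singleton_iff.1 ((h.cent y hy h1).ge hx)

theorem mem {x y : K} (hx : x ∈ P) (h1 : x ≠ 1) (e : y * x = x * y) : y ∈ P :=
  (h.cent x hx h1).le (mem_centralizer_singleton_iff.2 e)

theorem sylow_inf {J : Subgroup K} (h0 : P ⊓ J ≠ ⊥) : IsSylowIn 3 (P ⊓ J) J := by
  have : Fact (Nat.Prime 3) := ⟨Nat.prime_three⟩
  refine IsSylowIn.of_maximal inf_le_right h.isPGroup.to_inf_left fun T h1 h2 h3 => ?_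
  obtain ⟨⟨y, hy⟩, hy1⟩ := ne_bot_iff_exists_ne_one.1 h0
  obtain ⟨⟨z, hz⟩, hz1⟩ := ne_bot_iff_exists_ne_one.1 (inf_centralizer_ne_bot_of_isNilpotent
    h1.isNilpotent le_rfl le_normalizer fun e => h0 (eq_bot_iff.2 (e ▸ h2)))
  have h4 : z ∈ P := h.mem hy.1 (fun e => hy1 (Subtype.ext e)) (hz.2 y (h2 hy)).symm
  exact fun t ht => ⟨h.mem h4 (fun e => hz1 (Subtype.ext e)) (hz.2 t ht), h3 ht⟩

theorem ne_bot : P ≠ ⊥ := fun e => by
  have := h.card
  rw [e, card_bot] at this
  exact absurd this.symm (Nat.one_lt_pow (by omega) (by omega)).ne'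

theorem sylow : IsSylowIn 3 P ⊤ := by
  simpa using h.sylow_inf (J := ⊤) (by simpa using h.ne_bot)

/-- A subgroup of even order containing a hyperplane of `P` contains `P`. -/
theorem le_of_even (h3 : S3F K) {J Q : Subgroup K} {x : K} (hx : x ∈ P) (hQ : Q ≤ P ⊓ J)
    (hs : P ≤ Q ⊔ zpowers x) (hJ : 2 ∣ Nat.card J) : P ≤ J := by
  have : Fact (Nat.Prime 3) := ⟨Nat.prime_three⟩
  by_contra hn
  set R := P ⊓ J with hR
  have hPR : P ≤ centralizer (R : Set K) := fun a ha b hb => h.comm hb.1 ha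
  have h1 : R.relIndex P = 3 := by
    have h1 := (FT.relIndex_dvd_card_of_sup (N := R) (U := zpowers x) (M := P)
      (((zpowers_le_of_mem hx).trans hPR).trans (centralizer_le_normalizer _))
      (le_antisymm (sup_le inf_le_left (zpowers_le_of_mem hx))
        (hs.trans (sup_le_sup_right hQ _)))).2
    rw [Nat.card_zpowers] at h1
    refine ((Nat.dvd_prime Nat.prime_three).1
      (h1.trans (orderOf_dvd_of_pow_eq_one (h.pow x hx)))).resolve_left fun e => hn ?_
    exact (relIndex_eq_one.1 e).trans inf_le_right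
  have h2 : Nat.card R * 3 = 3 ^ (2 * f + 1) := by
    rw [← h.card, ← card_mul_relIndex (inf_le_left : R ≤ P), h1]
  have h4 : 9 ≤ Nat.card R := by
    have := Nat.pow_le_pow_right (n := 3) (by omega) (show 3 ≤ 2 * f + 1 by have := h.pos; omega)
    omega
  have h0 : R ≠ ⊥ := fun e => by rw [e, card_bot] at h4; omega
  have hS := h.sylow_inf h0
  obtain ⟨⟨y, hy⟩, hy1⟩ := ne_bot_iff_exists_ne_one.1 h0
  have hC : centralizer (R : Set K) = P := le_antisymm
    (fun g hg => h.mem hy.1 (fun e => hy1 (Subtype.ext e)) (hg y hy).symm) hPR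
  have h5 : IsPGroup 3 ↥(J ⊓ normalizer (R : Set K)) := by
    refine FT.isPGroup_of_forall_prime_dvd fun r hr hd => by_contra fun hr3 => ?_
    have : Fact r.Prime := ⟨hr⟩
    obtain ⟨⟨g, hg⟩, hgo⟩ := exists_prime_orderOf_dvd_card' r hd
    rw [orderOf_mk] at hgo
    have h6 : g ∈ normalizer (P : Set K) := hC ▸ normalizer_le_normalizer_centralizer R hg.2
    have h7 : ∀ k ∈ P, g * k = k * g → k = 1 := fun k hk e => by_contra fun h7 =>
      hr3 ((Nat.prime_dvd_prime_iff_eq hr Nat.prime_three).1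
        (hgo ▸ orderOf_dvd_of_pow_eq_one (h.pow g (h.mem hk h7 e))))
    have h8 : ∀ U ≤ P, g ∈ normalizer (U : Set K) → Nat.card U ≡ 1 [MOD r] := fun U h8 h9 => by
      have := card_modEq_card_inf_centralizer_elem (p := r) (U := U) (a := g)
        (IsPGroup.of_card (n := 1) (by rw [Nat.card_zpowers, hgo, pow_one])) h9
      rwa [show U ⊓ centralizer {g} = ⊥ from eq_bot_iff.2 fun k hk => mem_bot.2 (h7 k (h8 hk.1)
        (mem_centralizer_singleton_iff.1 hk.2).symm), card_bot] at this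
    have h9 := h8 P le_rfl h6
    rw [h.card, ← h2] at h9
    have h10 := ((h8 R inf_le_left hg.2).mul_right 3).symm.trans h9
    have h11 : r = 2 := (Nat.prime_dvd_prime_iff_eq hr Nat.prime_two).1
      ((Nat.modEq_iff_dvd' (by omega)).1 h10.symm)
    subst h11
    have h12 : g * g = 1 := by rw [← sq, ← hgo, pow_orderOf_eq_one]
    have h13 : g⁻¹ = g := inv_eq_of_mul_eq_one_right h12
    refine hy1 (Subtype.ext (h3.eq_one (k := 1) (t := g) (by simpa using h.pow y hy.1) ?_))
    rw [h13]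
    exact Suz.inv_of_fpf_invol (A := P) (h.card ▸ Odd.pow (by decide)) h12
      (fun a ha => by simpa [h13] using conj_mem_of_mem_normalizer h6 ha) h7 y hy.1
  have h6 := hS.eq_of_le h5 (le_inf inf_le_right le_normalizer) inf_le_left
  obtain ⟨h7, -⟩ := GW.burnside_amb hS (h6.le.trans (inf_le_left.trans hPR))
  have h8 := FT.coprime_of_isPGroup_of_isPi hS.isPGroup (FT.piCoreOf_isPi {3}ᶜ J) (by simp)
  have h9 : piCoreOf {3}ᶜ J ≤ ⊥ := by
    refine le_of_centralizer_le_of_not_isCyclic (A := R)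
      ⟨⟨fun a b => Subtype.ext (h.comm a.2.1 b.2.1)⟩⟩ (fun hc => ?_)
      (inf_le_right.trans (FT.le_norm_piCoreOf _ _)) h8 fun a ha ha1 w hw => ?_
    · obtain ⟨g, hg⟩ := hc.exists_ofOrder_eq_natCard
      have := Nat.le_of_dvd (by omega) (orderOf_dvd_of_pow_eq_one
        (show g ^ 3 = 1 from Subtype.ext (h.pow g g.2.1)))
      omega
    · rw [h.cent a ha.1 ha1] at hw
      exact (disjoint_of_coprime_natCard h8).le_bot ⟨⟨hw.2, FT.piCoreOf_le _ _ hw.1⟩, hw.1⟩
  obtain ⟨u, hu, hu1, hu2⟩ := Suz.exists_invol_of_even (even_iff_two_dvd.2 hJ)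
  exact hu1 (h9 (h7 u hu (by rw [orderOf_eq_prime (p := 2) (by rwa [sq]) hu1]; decide)))

end Syl3

theorem comm_congr {L K : Type*} [Group L] [Group K] {π : L →* K} (hZ : π.ker ≤ center L)
    {a a' b b' : L} (h1 : π a = π a') (h2 : π b = π b') : ⁅a, b⁆ = ⁅a', b'⁆ := by
  have key : ∀ {a a' : L} (b : L), π a = π a' → ⁅a, b⁆ = ⁅a', b⁆ := fun {a a'} b h => by
    have h3 := mem_center_iff.1 (hZ (show a⁻¹ * a' ∈ π.ker by simp [MonoidHom.mem_ker, h])) b
    calc ⁅a, b⁆ = a * (b * (a⁻¹ * a')) * a'⁻¹ * b⁻¹ := by rw [commutatorElement_def]; group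
      _ = _ := by rw [h3, commutatorElement_def]; group
  rw [key b h1, ← commutatorElement_inv, key a' h2, commutatorElement_inv]

/-- The Sylow `3`-subgroup of a perfect central extension of `L₂(3^(2f+1))`. -/
theorem Syl3.exists_lift {L K : Type*} [Group L] [Finite L] [Group K] [Finite K]
    {P : Subgroup K} {f : ℕ} (h : Syl3 P f) {π : L →* K} (hπ : Function.Surjective π)
    (hZ : π.ker ≤ center L) (hp : _root_.commutator L = ⊤) :
    ∃ Q : Subgroup L, IsPGroup 3 Q ∧ IsMulCommutative Q ∧ Q.map π = P ∧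
      ¬ 3 ∣ Nat.card π.ker := by
  have : Fact (Nat.Prime 3) := ⟨Nat.prime_three⟩
  obtain ⟨Q⟩ := (inferInstance : Nonempty (Sylow 3 L))
  have h1 := (IsSylowIn.sylow_top Q).map π
  rw [map_top_of_surjective π hπ] at h1
  obtain ⟨k, -, hk⟩ := h.sylow.exists_conj_eq h1
  obtain ⟨k, rfl⟩ := hπ k
  have h2 : ((k • Q : Sylow 3 L) : Subgroup L).map π = P := by
    rw [sylow_coe_smul_eq_map, ← hk, Subgroup.map_map, Subgroup.map_map]
    congr 1
    ext x
    simp
  generalize k • Q = S at h2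
  clear hk h1 Q k
  have hm : ∀ {x : L}, x ∈ (S : Subgroup L) → π x ∈ P := fun hx => h2 ▸ mem_map_of_mem π hx
  have hk : ∀ a b : L, π a ∈ P → π b ∈ P → ⁅a, b⁆ ∈ π.ker := fun a b ha hb => by
    rw [MonoidHom.mem_ker, map_commutatorElement, commutatorElement_eq_one_iff_mul_comm]
    exact h.comm ha hb
  have h3 : IsMulCommutative (S : Subgroup L) := by
    by_contra hn
    obtain ⟨n, hn'⟩ := (S.isPGroup'.to_subgroup (_root_.commutator S)).exists_card_eq
    obtain ⟨n, rfl⟩ := Nat.exists_eq_succ_of_ne_zero (n := n) fun e => hn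
      ⟨⟨fun a b => commutatorElement_eq_one_iff_mul_comm.1 (mem_bot.1
        ((card_eq_one.1 (by rw [hn', e, pow_zero]) : _root_.commutator S = ⊥) ▸
          commutator_mem_commutator (mem_top a) (mem_top b)))⟩⟩
    obtain ⟨M, hM⟩ := Sylow.exists_subgroup_card_pow_prime (G := _root_.commutator S) 3 (n := n)
      (hn' ▸ pow_dvd_pow 3 n.le_succ)
    have h4 : _root_.commutator S ≤ π.ker.subgroupOf S := commutator_le.2 fun a _ b _ =>
      hk a b (hm a.2) (hm b.2)
    have h5 : π.ker.subgroupOf (S : Subgroup L) ≤ center S := fun z hz =>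
      mem_center_iff.2 fun g => Subtype.ext (mem_center_iff.1 (hZ hz) g)
    set N := M.map (_root_.commutator S).subtype with hN
    have h6 : N ≤ _root_.commutator S := map_subtype_le M
    have : N.Normal := ⟨fun z hz g => by
      rwa [mem_center_iff.1 (h5 (h4 (h6 hz))) g, mul_inv_cancel_right]⟩
    have h7 : _root_.commutator (S ⧸ N) = (_root_.commutator S).map (QuotientGroup.mk' N) := by
      rw [_root_.commutator, _root_.commutator, map_commutator,
        map_top_of_surjective _ (QuotientGroup.mk'_surjective N)]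
    obtain ⟨m, hm0, hm1⟩ := PGrp.exists_index_center_eq_of_card_commutator (G := S ⧸ N) (p := 3)
      (by
        have h8 := card_mul_relIndex h6
        rw [hN, card_map_of_injective (subtype_injective _), hM, hn', pow_succ, ← hN] at h8
        rw [h7, ← relIndex_ker, QuotientGroup.ker_mk']
        exact Nat.eq_of_mul_eq_mul_left (by positivity) h8)
      (by
        rw [h7]
        rintro _ ⟨z, hz, rfl⟩
        refine mem_center_iff.2 fun g => ?_
        obtain ⟨g, rfl⟩ := QuotientGroup.mk'_surjective N g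
        rw [← map_mul, mem_center_iff.1 (h5 (h4 hz)) g, map_mul])
    rw [← index_comap_of_surjective _ (QuotientGroup.mk'_surjective N)] at hm1
    set W := (center (S ⧸ N)).comap (QuotientGroup.mk' N) with hW
    have h8 : ∀ x : S, x ∈ W ↔ ∀ z : S, ⁅x, z⁆ ∈ N := fun x => by
      rw [hW, mem_comap, mem_center_iff]
      refine ⟨fun hx z => ?_, fun hx z => ?_⟩
      · rw [← QuotientGroup.ker_mk' N, MonoidHom.mem_ker, map_commutatorElement,
          commutatorElement_eq_one_iff_mul_comm, hx]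
      · obtain ⟨z, rfl⟩ := QuotientGroup.mk'_surjective N z
        rw [eq_comm, ← commutatorElement_eq_one_iff_mul_comm, ← map_commutatorElement]
        exact (QuotientGroup.eq_one_iff _).2 (hx z)
    have h9 : π.ker.subgroupOf (S : Subgroup L) ≤ W := fun x hx => (h8 x).2 fun z => by
      rw [commutatorElement_eq_one_iff_mul_comm.2 (mem_center_iff.1 (h5 hx) z).symm]
      exact one_mem _
    rcases h9.eq_or_lt with e | e
    · rw [← e, ← relIndex, relIndex_ker, h2, h.card] at hm1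
      have := Nat.pow_right_injective (a := 3) (by omega) hm1
      omega
    · obtain ⟨x, hx, hx1⟩ := SetLike.exists_of_lt e
      have h10 : W = ⊤ := eq_top_iff.2 fun y _ => by
        by_cases hy : π y = 1
        · exact h9 hy
        obtain ⟨g, hg, h10⟩ := h.tr _ (hm x.2) _ (hm y.2) hx1 hy
        obtain ⟨g, rfl⟩ := hπ g
        have key : ∀ y : S, π g * π x * (π g)⁻¹ = π y → y ∈ W := fun y hy => (h8 y).2 fun z => by
          obtain ⟨z', hz', e⟩ := h2.ge (conj_mem_of_mem_normalizer (inv_mem hg) (hm z.2))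
          have h11 : ⁅(y : L), (z : L)⁆ = ⁅(x : L), z'⁆ := by
            rw [comm_congr hZ (a' := g * x * g⁻¹) (b' := g * z' * g⁻¹) (by simp [hy])
              (by simp [e, mul_assoc]), ← conjugate_commutatorElement,
              mem_center_iff.1 (hZ (hk x z' (hm x.2) (hm hz'))) g, mul_inv_cancel_right]
          have h12 : ⁅y, z⁆ = ⁅x, ⟨z', hz'⟩⁆ := Subtype.ext h11
          exact h12 ▸ (h8 x).1 hx _
        rcases h10 with h10 | h10
        · exact key y h10
        · exact inv_mem_iff.1 (key y⁻¹ (by simpa using h10))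
      rw [h10, index_top] at hm1
      exact absurd hm1.symm (Nat.one_lt_pow (by omega) (by omega)).ne'
  refine ⟨S, S.isPGroup', h3, h2, fun hd => ?_⟩
  obtain ⟨⟨z, hz⟩, hzo⟩ := exists_prime_orderOf_dvd_card' 3 hd
  rw [orderOf_mk] at hzo
  have h4 : z ∈ (S : Subgroup L) := by
    have : (zpowers z).Normal := ⟨fun a ha g => by
      rwa [mem_center_iff.1 (zpowers_le_of_mem (hZ hz) ha) g, mul_inv_cancel_right]⟩
    exact IsPGroup.le_sylow_of_normal (IsPGroup.of_card (n := 1) (by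
      rw [Nat.card_zpowers, hzo, pow_one])) S (mem_zpowers z)
  rw [BSW.eq_one_of_mem_commutator_of_abelian_sylow S h3 h4
    (fun n _ => mem_center_iff.1 (hZ hz) n) (hp ▸ mem_top z), orderOf_one] at hzo
  omega

end CfsgLib.GO
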