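import Cfsg.Agent.Lib.GOB.LemY1
import Cfsg.Agent.Lib.H8Misc
import Cfsg.Agent.Lib.FT.Main

/-!
# Transitive linear groups in characteristic `2` with known `S₃`-free sections
-/

set_option autoImplicit false
set_option linter.unusedSectionVars false

namespace CfsgLib.GO

open Subgroup Cfsg CfsgLib.H1 CfsgLib.Cop CfsgLib.Suz CfsgLib.CopAut SemidirectProduct
open scoped commutatorElement

universe u

theorem mem_of_map_mem {L K : Type*} [Group L] [Finite L] [Group K] {π : L →* K}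
    (hZ : π.ker ≤ center L) {J : Subgroup L} {q : L} (h : π q ∈ J.map π)
    (hc : (Nat.card π.ker).Coprime (orderOf q)) : q ∈ J := by
  obtain ⟨j, hj, e⟩ := h
  have h1 : j⁻¹ * q ∈ π.ker := by simp [MonoidHom.mem_ker, e]
  have h2 : q ^ Nat.card π.ker = j ^ Nat.card π.ker := by
    have h3 : Commute j (j⁻¹ * q) := mem_center_iff.1 (hZ h1) j
    have h4 := h3.mul_pow (Nat.card π.ker)
    rwa [mul_inv_cancel_left, pow_card_of_mem h1, mul_one] at h4
  exact zpowers_le_of_mem (h2 ▸ pow_mem hj _) (mem_zpowers_pow_iff.2 hc)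

theorem le_of_odd_index {Y : Type*} [Group Y] [Finite Y] {O H : Subgroup Y} (hO : IsPGroup 2 O)
    (hn : O.IsSubnormal) (hH : Odd H.index) : O ≤ H := by
  obtain ⟨k, hk⟩ := exists_relIndex_eq_pow hO H
  have h1 := hH.of_dvd_nat (H8.relIndex_dvd_index_of_isSubnormal hn H)
  rcases k with _ | k
  · exact relIndex_eq_one.1 hk
  · exact absurd h1 (Nat.not_odd_iff_even.2 (hk ▸ Nat.even_pow.2 ⟨even_two, k.succ_ne_zero⟩))

theorem SzT.exists_four {K : Type*} [Group K] [Finite K] (h : SzT K) :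
    ∃ x : K, x ^ 4 = 1 ∧ x ^ 2 ≠ 1 ∧ ∀ J : Subgroup K, Odd J.index → x ^ 2 ∈ J →
      zpowers x ≤ J := by
  obtain ⟨H, Q, t, Z, h2, -, -, h3, -⟩ := h.data
  obtain ⟨s, r, hs⟩ := Z.toRO.exists_dist
  have h4 : r ^ 2 = s := by rw [sq, h3 s r hs]
  refine ⟨r, by rw [show 4 = 2 * 2 from rfl, pow_mul, h4, sq, hs.ss], h4 ▸ hs.s_ne,
    fun J hJ hr => zpowers_le_of_mem ?_⟩
  rw [h4] at hr
  obtain ⟨T, h5, hT⟩ := IsSylowIn.exists_ge (H := J) (h2.to_le (zpowers_le_of_mem hs.s_mem))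
    (zpowers_le_of_mem hr)
  obtain ⟨⟨z, hz⟩, hz1⟩ := ne_bot_iff_exists_ne_one.1 (inf_centralizer_ne_bot_of_isNilpotent
    hT.isPGroup.isNilpotent le_rfl le_normalizer fun e => hs.s_ne (e.le (h5 (mem_zpowers s))))
  have h6 : z ∈ Q := Z.mem_Q_of_comm hs.s_mem hs.s_ne (hz.2 s (h5 (mem_zpowers s)))
  have h7 : T ≤ Q := fun g hg =>
    Z.mem_Q_of_comm h6 (fun e => hz1 (Subtype.ext e)) (hz.2 g hg).symm
  have h8 : IsSylowIn 2 T ⊤ := ⟨le_top, hT.isPGroup, by
    rw [relIndex_top_right, ← relIndex_mul_index hT.le]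
    exact fun hd => ((Nat.Prime.dvd_mul Nat.prime_two).1 hd).elim hT.not_dvd
      fun hd => (Nat.not_even_iff_odd.2 hJ) (even_iff_two_dvd.2 hd)⟩
  exact hT.le ((h8.eq_of_le h2 h7 le_top).le hs.r_mem)

section Act

variable {Y V : Type*} [Group Y] [Finite Y] [CommGroup V] [Finite V] {φ : Y →* MulAut V}

theorem eq_one_of_act (hφ : Function.Injective φ) {g : Y} (h : ∀ v, φ g v = v) : g = 1 :=
  hφ ((MulEquiv.ext h).trans (map_one φ).symm)

theorem eq_bot_of_odd_stab (hφ : Function.Injective φ) (h : ∀ v, Odd (stab φ v).index)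
    {O : Subgroup Y} (hO : IsPGroup 2 O) (hn : O.IsSubnormal) : O = ⊥ :=
  eq_bot_iff.2 fun _ hg => eq_one_of_act hφ fun v => le_of_odd_index hO hn (h v) hg

theorem fix_of_cocyclic {Q : Subgroup Y} (hQ : IsMulCommutative Q)
    (hc : (Nat.card Q).Coprime (Nat.card V))
    (h : ∀ B ≤ Q, ∀ a ∈ Q, Q ≤ B ⊔ zpowers a → ∀ v, B ≤ stab φ v → Q ≤ stab φ v) (v : V) :
    Q ≤ stab φ v := by
  have := finite_semidirect (φ := φ)
  refine inl_mem_centralizer_R_iff.1 (le_of_cocyclic_centralizer_le (A := R φ Q) (G := L φ ⊤)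
    (K := centralizer (R φ Q : Set (V ⋊[φ] Y))) (map_isMulCommutative _ _)
    (R_le_normalizer_iff.2 fun _ _ _ _ => mem_top _) (by rwa [card_R, card_L_top]) ?_
    (mem_map_of_mem _ (mem_top v)))
  rintro B hB ⟨_, ⟨a, ha, rfl⟩, e⟩ _ ⟨⟨w, -, rfl⟩, hw⟩
  have h1 : R φ (B.comap inr) = B := map_comap_eq_self (hB.trans (map_le_range _ _))
  rw [← h1] at hB hw e
  refine inl_mem_centralizer_R_iff.2 (h _ ((map_le_map_iff_of_injective inr_injective).1 hB) a ha
    ((map_le_map_iff_of_injective (f := (inr : Y →* V ⋊[φ] Y)) inr_injective).1 ?_) w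
    (inl_mem_centralizer_R_iff.1 hw))
  rw [Subgroup.map_sup, MonoidHom.map_zpowers]
  exact e.ge

theorem false_of_quasisimple {Y : Type u} [Group Y] [Finite Y] {φ : Y →* MulAut V}
    (hφ : Function.Injective φ) (hV : ∀ v : V, v ^ 2 = 1) (h : ∀ v, Odd (stab φ v).index)
    (h3 : S3F Y) (hK : KG Y) (hq : IsQuasisimple Y) : False := by
  set π := QuotientGroup.mk' (center Y) with hπ
  have h1 := QuotientGroup.mk'_surjective (center Y)
  have hZ : π.ker = center Y := QuotientGroup.ker_mk' _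
  have hns : ¬ Group.IsSolvable (Y ⧸ center Y) := fun hs => isQuasisimple_not_isSolvable hq
    (isSolvable_of_normal_of_quotient _ isSolvable_of_isMulCommutative hs)
  have ho : Odd (Nat.card π.ker) := Nat.not_even_iff_odd.1 fun he => by
    obtain ⟨u, hu, hu1, hu2⟩ := exists_invol_of_even he
    have : (zpowers u).Normal := ⟨fun a ha g => by
      rwa [mem_center_iff.1 (zpowers_le_of_mem (hZ.le hu) ha) g, mul_inv_cancel_right]⟩
    exact hu1 ((eq_bot_of_odd_stab hφ h (isPGroup_zpowers_of_pow (k := 1) (by simpa [sq]))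
      this.isSubnormal).le (mem_zpowers u))
  have hJ : ∀ v, Odd ((stab φ v).map π).index := fun v =>
    (h v).of_dvd_nat (index_map_dvd _ h1)
  rcases hK _ (involves_of_surjective π h1) hq.2 fun hc => hns isSolvable_of_isMulCommutative with hS | hL
  · obtain ⟨x, hx1, hx2, hx3⟩ := hS.exists_four
    obtain ⟨x, rfl⟩ := h1 x
    set y := x ^ Nat.card π.ker with hy
    have h4 : y ^ 4 = 1 := by
      rw [hy, pow_right_comm]
      exact pow_card_of_mem (by rwa [MonoidHom.mem_ker, map_pow])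
    have h5 : π (y ^ 2) = π x ^ 2 := by
      rw [hy, pow_right_comm, map_pow, map_pow]
      obtain ⟨j, hj⟩ := ho
      rw [hj, pow_succ, ← pow_mul, ← mul_assoc, pow_mul, show π x ^ (2 * 2) = 1 from hx1, one_pow,
        one_mul]
    have h6 : ∀ v, dOp φ y (dOp φ y v) = dOp φ (y ^ 2) v := fun v => by
      have h6 : ∀ w : V, w⁻¹ = w := fun w => inv_eq_of_mul_eq_one_right (by rw [← sq, hV])
      simp only [dOp_apply, h6, map_mul, sq, MulAut.mul_apply]
      rw [mul_assoc, ← mul_assoc (φ y v), ← sq, hV, one_mul]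
    have h7 : ∀ v, dOp φ y (dOp φ y v) = 1 → dOp φ y v = 1 := fun v hv => by
      rw [h6, dOp_eq_one_iff] at hv
      refine dOp_eq_one_iff.2 (mem_of_map_mem hZ.le (J := stab φ v) (q := y)
        (hx3 _ (hJ v) (h5 ▸ mem_map_of_mem π hv) ?_) ?_)
      · rw [hy, map_pow]
        exact pow_mem (mem_zpowers _) _
      · exact ((Nat.coprime_two_right.2 ho).pow_right 2).coprime_dvd_right
          (orderOf_dvd_of_pow_eq_one h4)
    refine hx2 (h5 ▸ (eq_one_of_act hφ (g := y ^ 2) fun v => ?_) ▸ map_one π)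
    rw [← dOp_eq_one_iff, ← h6]
    refine h7 _ (h7 _ ?_)
    have h8 : ∀ w : V, w⁻¹ = w := fun w => inv_eq_of_mul_eq_one_right (by rw [← sq, hV])
    rw [h6, h6, dOp_eq_one_iff, dOp_apply, map_mul, ← act_mul, ← pow_add, h4, h8, mul_comm,
      map_one, MulAut.one_apply]
  · obtain ⟨P, f, hP⟩ := hL.exists_syl3
    obtain ⟨Q, hQ1, hQ2, hQ3, hQ4⟩ := hP.exists_lift h1 hZ.le hq.1.commutator_eq_top
    have : Fact (Nat.Prime 3) := ⟨Nat.prime_three⟩
    obtain ⟨k, hk⟩ := hQ1.exists_card_eq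
    obtain ⟨n, hn⟩ := IsPGroup.exists_card_eq (G := V) (p := 2) fun v => ⟨1, by simpa using hV v⟩
    have h4 := fix_of_cocyclic (φ := φ) hQ2 (by
      rw [hk, hn]; exact Nat.Coprime.pow _ _ (by decide)) fun B hB a ha hs v hv q hq => by
      refine mem_of_map_mem hZ.le (hP.le_of_even (h3.of_surjective π h1) (Q := B.map π)
        (x := π a) (hQ3 ▸ mem_map_of_mem π ha) (le_inf (hQ3 ▸ map_mono hB) (map_mono hv)) ?_ ?_
        (hQ3 ▸ mem_map_of_mem π hq)) ?_
      · rw [← hQ3, ← MonoidHom.map_zpowers, ← Subgroup.map_sup]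
        exact map_mono hs
      · refine ((Nat.Prime.dvd_mul Nat.prime_two).1 (((stab φ v).map π).card_mul_index ▸
          even_iff_two_dvd.1 (Nat.not_odd_iff_even.1 fun ho => hns (FT.feit_thompson ho)))).resolve_right
          fun hd => (Nat.not_even_iff_odd.2 (hJ v)) (even_iff_two_dvd.2 hd)
      · exact (((Nat.Prime.coprime_iff_not_dvd Nat.prime_three).2 hQ4).symm.pow_right
          k).coprime_dvd_right (hk ▸ Q.orderOf_dvd_natCard hq)
    refine hP.ne_bot ?_
    rw [← hQ3, show Q = ⊥ from eq_bot_iff.2 fun q hq => eq_one_of_act hφ fun v => h4 v hq,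
      Subgroup.map_bot]

theorem index_stab_of_tr (h : ∀ a b : V, a ≠ 1 → b ≠ 1 → ∃ y, φ y a = b) {v : V} (hv : v ≠ 1) :
    (stab φ v).index + 1 = Nat.card V := by
  let _ := MulAction.compHom V φ
  have h1 : stab φ v = MulAction.stabilizer Y v := rfl
  have h2 : MulAction.orbit Y v = {1}ᶜ := Set.ext fun w =>
    ⟨by rintro ⟨g, rfl⟩; exact act_ne_one φ g hv, fun hw => h v w hv hw⟩
  rw [h1, MulAction.index_stabilizer, h2, ← Set.ncard_singleton (1 : V), add_comm,
    Set.ncard_add_ncard_compl]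

theorem odd_index_of_tr (hV : ∀ v : V, v ^ 2 = 1)
    (h : ∀ a b : V, a ≠ 1 → b ≠ 1 → ∃ y, φ y a = b) (v : V) : Odd (stab φ v).index := by
  by_cases hv : v = 1
  · rw [show stab φ v = ⊤ from eq_top_iff.2 fun g _ => by rw [mem_stab, hv, map_one], index_top]
    exact odd_one
  · have h1 := index_stab_of_tr h hv
    have h2 : 2 ∣ Nat.card V := orderOf_eq_prime (hV v) hv ▸ orderOf_dvd_natCard v
    rw [Nat.odd_iff]
    omega

end Act

/-- A faithful action on an elementary abelian `2`-group, transitive on the involutions. -/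
structure TR {Y V : Type*} [Group Y] [CommGroup V] (φ : Y →* MulAut V) : Prop where
  inj : Function.Injective φ
  sq : ∀ v : V, v ^ 2 = 1
  tr : ∀ a b : V, a ≠ 1 → b ≠ 1 → ∃ y, φ y a = b

namespace TR

variable {Y : Type u} {V : Type*} [Group Y] [Finite Y] [CommGroup V] [Finite V]
  {φ : Y →* MulAut V} (h : TR φ)
include h

theorem index_stab {v : V} (hv : v ≠ 1) : (stab φ v).index + 1 = Nat.card V :=
  index_stab_of_tr h.tr hv

theorem card_eq : ∃ n, Nat.card V = 2 ^ n :=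
  IsPGroup.exists_card_eq (G := V) (p := 2) fun v => ⟨1, by simpa using h.sq v⟩

theorem odd_index (v : V) : Odd (stab φ v).index := odd_index_of_tr h.sq h.tr v

theorem odd_fitting : Odd (Nat.card (fittingSubgroup Y)) := Nat.not_even_iff_odd.1 fun he => by
  obtain ⟨u, hu, hu1, hu2⟩ := exists_invol_of_even he
  exact hu1 ((eq_bot_of_odd_stab h.inj h.odd_index
    (isPGroup_zpowers_of_pow (k := 1) (by simpa [_root_.sq]))
    (isSubnormal_of_le_fitting (zpowers_le_of_mem hu))).le (mem_zpowers u))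

theorem fpf : ∀ g ∈ fittingSubgroup Y, g ≠ 1 → ∀ v, φ g v = v → v = 1 := by
  intro g hg hg1 v hv
  obtain ⟨p, hp, hpd⟩ := Nat.exists_prime_and_dvd (fun h => hg1 (orderOf_eq_one_iff.1 h))
  have : Fact p.Prime := ⟨hp⟩
  have ho := orderOf_pow_orderOf_div (orderOf_pos g).ne' hpd
  have hp2 : p ≠ 2 := by
    rintro rfl
    exact Nat.not_even_iff_odd.2 h.odd_fitting
      (even_iff_two_dvd.2 (hpd.trans (orderOf_dvd_natCard _ hg)))
  have hle : zpowers (g ^ (orderOf g / p)) ≤ pCore p Y :=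
    le_pCore_of_le_fitting (zpowers_le.2 (pow_mem hg _)) (IsPGroup.of_card (n := 1)
      (by rw [Nat.card_zpowers, ho, pow_one]))
  refine pgroup_fpf (φ := φ.comp (pCore p Y).subtype) (h.inj.comp Subtype.val_injective)
    (pCore_isPGroup p) hp2 h.sq hp2 (fun a b ha hb => ?_) ⟨_, hle (mem_zpowers _)⟩
    (fun e => ?_) v (pow_mem (show g ∈ stab φ v from hv) _)
  · obtain ⟨y, hy⟩ := h.tr a b ha hb
    exact card_stab_comp_eq hy
  · rw [show g ^ (orderOf g / p) = 1 from congrArg Subtype.val e, orderOf_one] at ho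
    exact hp.one_lt.ne ho

theorem isCyclic : IsCyclic (fittingSubgroup Y) := by
  obtain ⟨n, hn⟩ := h.card_eq
  have := fitting_isNilpotent (G := Y)
  have : IsZGroup (fittingSubgroup Y) := by
    refine ⟨fun p hp P => ?_⟩
    have : Fact p.Prime := ⟨hp⟩
    have ho := h.odd_fitting.of_dvd_nat (card_subgroup_dvd_card (P : Subgroup _))
    by_cases hp2 : p = 2
    · subst hp2
      obtain ⟨k, hk⟩ := P.isPGroup'.exists_card_eq
      have : Subsingleton P := (Nat.card_eq_one_iff_unique.1 ((Nat.coprime_self _).1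
        (by nth_rw 2 [hk]; exact (Nat.coprime_two_right.2 ho).pow_right k))).1
      infer_instance
    · exact isCyclic_of_fpf (φ := φ.comp ((fittingSubgroup Y).subtype.comp
        (P : Subgroup (fittingSubgroup Y)).subtype))
        (fun a b e => Subtype.ext (Subtype.ext (h.inj e))) P.isPGroup' hp2
        (hn ▸ (Nat.coprime_two_right.2 ho).pow_right n)
        fun g hg v hv => h.fpf g.1.1 g.1.2 (fun e => hg (Subtype.ext (Subtype.ext e))) v hv
  infer_instance

variable (h3 : S3F Y) (hK : KG Y)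
include h3 hK

theorem cent_le : centralizer (fittingSubgroup Y : Set Y) ≤ fittingSubgroup Y := by
  have h1 : layer Y = ⊥ := layer_eq_bot_iff.2 fun K hc =>
    false_of_quasisimple (φ := φ.comp K.subtype) (h.inj.comp Subtype.val_injective) h.sq
      (fun v => (h.odd_index v).of_dvd_nat (H8.relIndex_dvd_index_of_isSubnormal hc.1 (stab φ v)))
      (h3.subgroup K) (hK.subgroup K) hc.2
  refine le_trans (centralizer_le ?_) centralizer_genFitting_le_fitting
  exact sup_le (h1.le.trans bot_le) le_rfl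

theorem commutator_le : _root_.commutator Y ≤ fittingSubgroup Y := by
  have := h.isCyclic
  exact (Frob.commutator_le_centralizer_of_isCyclic le_normalizer_of_normal
    le_normalizer_of_normal).trans (h.cent_le h3 hK)

theorem solvable : Group.IsSolvable Y := by
  have := fitting_isNilpotent (G := Y)
  have : IsMulCommutative (Y ⧸ fittingSubgroup Y) :=
    Subgroup.Normal.quotient_commutative_iff_commutator_le.2 (h.commutator_le h3 hK)
  exact isSolvable_of_normal_of_quotient (fittingSubgroup Y) inferInstance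
    isSolvable_of_isMulCommutative

theorem inv {w : Y} (h1 : w * w = 1) (h2 : w ≠ 1) :
    Nat.card V = Nat.card (fixEl φ w) ^ 2 ∧ 3 ∣ Nat.card (fixEl φ w) - 1 := by
  have : Fact (Nat.Prime 3) := ⟨Nat.prime_three⟩
  have := finite_semidirect (φ := φ)
  have := h.isCyclic
  have hw : w⁻¹ = w := inv_eq_of_mul_eq_one_right h1
  have hc : ∀ a ∈ fittingSubgroup Y, ∀ b ∈ fittingSubgroup Y, a * b = b * a := fun a ha b hb =>
    le_centralizer (fittingSubgroup Y) hb a ha
  have hn : ∀ g : Y, ∀ a ∈ fittingSubgroup Y, g * a * g⁻¹ ∈ fittingSubgroup Y := fun g a ha =>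
    fittingSubgroup_normal.conj_mem a ha g
  let I : Subgroup Y :=
    { carrier := {e | e ∈ fittingSubgroup Y ∧ w * e * w⁻¹ = e⁻¹}
      one_mem' := ⟨one_mem _, by simp⟩
      mul_mem' := fun {a b} ha hb => ⟨mul_mem ha.1 hb.1, by
        rw [hc a ha.1 b hb.1, mul_inv_rev, ← ha.2, ← hb.2, hc b hb.1 a ha.1]; group⟩
      inv_mem' := fun {a} ha => ⟨inv_mem ha.1, by rw [← conj_inv, ha.2]⟩ }
  have hI : ∀ g, ⁅g, w⁆ ∈ I := fun g =>
    ⟨h.commutator_le h3 hK (commutator_mem_commutator (mem_top _) (mem_top _)), by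
      rw [commutatorElement_inv, commutatorElement_def, commutatorElement_def, hw, mul_assoc w,
        mul_assoc _ w w, h1]
      group⟩
  have hIn : I.Normal := ⟨fun e he g => ⟨hn g e he.1, by
    have h4 := hc _ (hI g⁻¹).1 _ (hn w e he.1)
    rw [he.2, commutatorElement_def] at h4
    calc w * (g * e * g⁻¹) * w⁻¹
        = g * ((g⁻¹ * w * g⁻¹⁻¹ * w⁻¹) * (w * e * w⁻¹) * (g⁻¹ * w * g⁻¹⁻¹ * w⁻¹)⁻¹) * g⁻¹ := by
          group
      _ = _ := by rw [he.2, h4]; group⟩⟩
  have hsup : I ⊔ centralizer {w} = ⊤ := eq_top_iff.2 fun g _ => by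
    obtain ⟨j, hj⟩ := exists_sq_eq_of_odd h.odd_fitting (pow_card_of_mem (hI g).1)
    have h4 := pow_mem (hI g) j
    rw [← mul_inv_cancel_left (⁅g, w⁆ ^ j) g]
    refine mul_mem_sup h4 (mem_centralizer_singleton_iff.2 ?_)
    generalize ⁅g, w⁆ ^ j = s at hj h4
    have h5 : g * w = s * s * w * g := by rw [hj, commutatorElement_def]; group
    rw [mul_assoc, h5]
    calc s⁻¹ * (s * s * w * g) = s⁻¹⁻¹ * w * g := by group
      _ = _ := by rw [← (inv_mem h4).2]; group
  have hR : ¬ 3 ∣ (centralizer ({w} : Set Y)).index := fun hd => by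
    have h4 := (FT.relIndex_dvd_card_of_sup le_normalizer_of_normal hsup).1
    rw [relIndex_top_right] at h4
    obtain ⟨⟨e, he⟩, heo⟩ := exists_prime_orderOf_dvd_card' 3 (hd.trans h4)
    exact h3.not_three_dvd he.2 (by rw [← heo, orderOf_mk])
  have hU : L φ ⊤ ⊓ (MulAut.conj (inr w : V ⋊[φ] Y)).toMonoidHom.eqLocus (MonoidHom.id _) =
      L φ (fixEl φ w) := by
    refine le_antisymm ?_ ?_
    · rintro _ ⟨⟨v, -, rfl⟩, hv⟩
      exact inl_mem_L.2 (inl_injective ((inr_conj_inl w v).symm.trans hv))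
    · rintro _ ⟨v, hv, rfl⟩
      exact ⟨mem_map_of_mem _ (mem_top v), (inr_conj_inl w v).trans (congrArg inl hv)⟩
  obtain ⟨e, he, he1⟩ : ∃ e ∈ I, e ≠ 1 := by
    by_contra! h4
    refine h2 (eq_one_of_odd_card h.odd_fitting (h.cent_le h3 hK fun g _ => ?_) h1)
    exact commutatorElement_eq_one_iff_mul_comm.1 (h4 _ (hI g))
  have h4 : Nat.card V = Nat.card (fixEl φ w) ^ 2 := by
    rw [← card_L (φ := φ), ← hU, ← card_L_top (φ := φ)]
    refine card_eq_sq_of_inv (e := inr e) ?_ _ (fun x => ?_) ?_ ?_ ?_ ?_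
    · rintro _ ⟨v, -, rfl⟩
      rw [← map_mul, ← _root_.sq, h.sq, map_one]
    · change inr w * (inr w * x * (inr w)⁻¹) * (inr w)⁻¹ = x
      rw [← map_inv, hw, ← mul_assoc, ← mul_assoc, ← map_mul, mul_assoc, ← map_mul, h1, map_one,
        one_mul, mul_one]
    · rintro _ ⟨v, -, rfl⟩
      exact ⟨_, mem_top _, (inr_conj_inl w v).symm⟩
    · rintro _ ⟨v, -, rfl⟩
      exact ⟨_, mem_top _, (inr_conj_inl e v).symm⟩
    · change inr w * inr e * (inr w)⁻¹ = _
      rw [← map_inv, ← map_mul, ← map_mul, he.2, map_inv]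
    · rintro _ ⟨v, -, rfl⟩ hv
      rw [← map_mul, ← mul_inv_eq_iff_eq_mul, inr_conj_inl] at hv
      rw [h.fpf _ (mul_mem he.1 he.1) (fun e2 => he1 (eq_one_of_odd_card h.odd_fitting he.1 e2)) v
        (inl_injective hv), map_one]
  refine ⟨h4, ?_⟩
  obtain ⟨T, hT⟩ := IsSylowIn.exists_in (p := 3) (centralizer ({w} : Set Y))
  have h5 := card_modEq_card_inf_centralizer (A := R φ T) (U := L φ (fixEl φ w))
    (hT.isPGroup.map _) (R_le_normalizer_iff.2 fun b hb v hv => by
      rw [mem_fixEl, ← act_mul, ← mem_centralizer_singleton_iff.1 (hT.le hb), act_mul, hv])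
  rw [show L φ (fixEl φ w) ⊓ centralizer (R φ T : Set (V ⋊[φ] Y)) = ⊥ from eq_bot_iff.2 ?_,
    card_bot, card_L] at h5
  · exact (Nat.modEq_iff_dvd' Nat.card_pos).1 h5.symm
  rintro _ ⟨⟨v, -, rfl⟩, hv⟩
  by_contra hv1
  have h6 := h.index_stab (v := v) fun e => hv1 (by rw [e, map_one]; exact one_mem _)
  have h7 := index_dvd_of_le (show T ≤ stab φ v from inl_mem_centralizer_R_iff.1 hv)
  rw [← relIndex_mul_index hT.le] at h7
  refine ((Nat.Prime.dvd_mul Nat.prime_three).1 (Dvd.dvd.trans ?_ h7)).elim hT.not_dvd hR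
  obtain ⟨n, hn⟩ := IsPGroup.exists_card_eq (G := fixEl φ w) (p := 2) fun v =>
    ⟨1, Subtype.ext (by simpa using h.sq v)⟩
  have h8 : 4 ^ n % 3 = 1 := by rw [Nat.pow_mod]; simp
  rw [h4, hn, ← pow_mul, mul_comm, pow_mul] at h6
  norm_num at h6
  omega

end TR

end CfsgLib.GO
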