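import Cfsg.Agent.Lib.GOB.SzQ

/-!
# Lines
-/

set_option autoImplicit false
set_option linter.unusedSectionVars false

namespace CfsgLib.GO

open Subgroup MulAction Cfsg CfsgLib.H1 CfsgLib.SE CfsgLib.Suz

universe u

variable {G Ω : Type*} [Group G] [MulAction G Ω]

/-- The pointwise stabilizer. -/
abbrev Nf (G : Type*) [Group G] [MulAction G Ω] (Φ : Set Ω) : Subgroup G := fixingSubgroup G Φ

theorem mem_Nf {Φ : Set Ω} {g : G} : g ∈ Nf G Φ ↔ ∀ y ∈ Φ, g • y = y := mem_fixingSubgroup_iff G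

/-- What is used of the action of `X` on its orbit `Φ` as a Suzuki group. -/
structure Ln (Z : Set G) (X : Subgroup G) (Φ : Set Ω) (n : ℕ) : Prop where
  mem : ∀ x ∈ X, ∀ β ∈ Φ, x • β ∈ Φ
  tr : ∀ β ∈ Φ, ∀ γ ∈ Φ, ∃ x ∈ X, x • β = γ
  odd : Odd n
  three : 3 ≤ n
  card : Φ.ncard = (2 ^ n) ^ 2 + 1
  two : ∀ x ∈ X, IsPGroup 2 (zpowers x) → ∀ β ∈ Φ, ∀ γ ∈ Φ, β ≠ γ → x • β = β → x • γ = γ →
    x ∈ Nf G Φ
  fix2 : ∀ P ≤ X, IsPGroup 2 P → ∃ β ∈ Φ, P ≤ stabilizer G β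
  cA : ∀ T, IsSylowIn 2 T X → Nat.card (zs Z T) = 2 ^ n
  cT : ∀ T, IsSylowIn 2 T X → Nat.card T = (2 ^ n) ^ 2 * Nat.card ↥(T ⊓ Nf G Φ)
  sq : ∀ x ∈ X, IsPGroup 2 (zpowers x) → x * x * (x * x) ∈ Nf G Φ
  lift : ∀ T, IsSylowIn 2 T X → ∀ x ∈ T, x * x ∈ Nf G Φ → ∃ a ∈ zs Z T, x * a ∈ Nf G Φ
  inj : ∀ P ≤ X, IsPGroup 2 P → ∀ x ∈ P, ∀ y ∈ P, (x * x)⁻¹ * (y * y) ∈ Nf G Φ →
    x⁻¹ * y * (x⁻¹ * y) ∈ Nf G Φ
  comm : ∀ P ≤ X, IsPGroup 2 P → ∀ x ∈ P, ∀ y ∈ P, (x * y)⁻¹ * (y * x) ∈ Nf G Φ →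
    x * x ∈ Nf G Φ ∨ y * y ∈ Nf G Φ ∨ (x * x)⁻¹ * (y * y) ∈ Nf G Φ
  zz : ∀ z ∈ Z, ∀ w ∈ Z, z ∈ X → w ∈ X → ∀ β ∈ Φ, z • β = β → w • β = β →
    z * w * (z * w) ∈ Nf G Φ
  oddc : ∀ T, IsSylowIn 2 T X → ∀ x ∈ X, Odd (orderOf x) →
    (∀ a ∈ zs Z T, x * a * x⁻¹ * a ∈ Nf G Φ) → x ∈ Nf G Φ
  real : ∀ z ∈ Z, ∀ w ∈ Z, z ∈ X → w ∈ X → z * w * (z * w) ∉ Nf G Φ → ∀ c ∈ X,
    IsPGroup 2 (zpowers c) → c * (z * w) = z * w * c → c ∈ Nf G Φ
  cyc : ∀ T, IsSylowIn 2 T X → ∃ y ∈ X ⊓ normalizer (T : Set G), ∀ a ∈ zs Z T, ∀ b ∈ zs Z T,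
    a ≠ 1 → b ≠ 1 → ∃ i : ℕ, y ^ i * a * (y ^ i)⁻¹ = b
  c3 : ∀ E ≤ X, Odd (Nat.card E) → ¬ ∀ z ∈ Z, ∀ w ∈ Z, z ∈ X → w ∈ X → ∃ e ∈ E, e * z * e⁻¹ = w

theorem exists_invol_of_two [Finite G] {x : G} (hp : IsPGroup 2 (zpowers x)) (h1 : x ≠ 1) :
    ∃ j : ℕ, IsInv (x ^ j) := by
  obtain ⟨j, h2, h3⟩ := exists_invol_pow (g := x) (Nat.not_odd_iff_even.1 fun ho =>
    h1 (eq_one_of_odd_pow hp ho (pow_orderOf_eq_one x)))
  exact ⟨j, h3, h2⟩

theorem pow_smul_eq {x : G} {α : Ω} (h : x • α = α) (j : ℕ) : x ^ j • α = α :=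
  (stabilizer G α).pow_mem h j

theorem isPGroup_zpowers_map {G' : Type*} [Group G'] {X : Subgroup G} (f : X →* G') {x : X}
    (h : IsPGroup 2 (zpowers (x : G))) : IsPGroup 2 (zpowers (f x)) := by
  rw [← MonoidHom.map_zpowers]
  refine IsPGroup.map ?_ f
  refine h.comap_subtype.to_le (zpowers_le.2 ?_)
  exact mem_zpowers (x : G)

theorem mem_Q_of_two {K : Type*} [Group K] {H Q : Subgroup K} {t x : K} (R : RO H Q t) (hx : x ∈ H)
    (h : IsPGroup 2 (zpowers x)) : x ∈ Q := by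
  obtain ⟨k, hk⟩ := h ⟨x, mem_zpowers x⟩
  exact R.mem_Q_of_two_pow hx (j := k) (congrArg Subtype.val hk)

theorem normalCore_stab (hf : ∀ g : G, (∀ ω : Ω, g • ω = ω) → g = 1)
    (ht : ∀ α β : Ω, ∃ g : G, g • α = β) (α : Ω) : (stabilizer G α).normalCore = ⊥ :=
  eq_bot_iff.2 fun g hg => hf g fun ω => by
    obtain ⟨x, rfl⟩ := ht α ω
    have : (x⁻¹ * g * x⁻¹⁻¹) • α = α := hg x⁻¹
    rwa [inv_inv, mul_smul, mul_smul, inv_smul_eq_iff] at this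

namespace ZS

variable [Finite G] {Z : Set G} (h : ZS G Ω Z)
include h

section
variable {α : Ω} {Q : Subgroup G} {t : G} (R : RO (stabilizer G α) Q t)
include R

theorem mem_of_RO {u : G} (hu : IsInv u) : u ∈ Z := by
  obtain ⟨a, ha, -⟩ := h.exists_fix α
  obtain ⟨g, rfl⟩ := R.invol_conj_t hu.2 hu.1
  obtain ⟨k, rfl⟩ := R.invol_conj_t (h.ne_one ha) (h.sq ha)
  have := h.conj' (h.conj _ ha k) g
  rwa [show k * (k⁻¹ * t * k) * k⁻¹ = t by group] at this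

end

theorem sea (hZ : ∀ u, IsInv u → u ∈ Z) : SEA G Ω where
  trans := h.trans
  nontriv := h.nontriv
  fix := fun u hu => h.fix (hZ u hu)
  uniq := fun u hu => h.uniq u (hZ u hu)
  even := by
    obtain ⟨_, a, ha, -⟩ := h.four
    exact ⟨a, h.inv a ha⟩

theorem rk2 : Rk2 (⊤ : Subgroup G) := by
  obtain ⟨_, a, ha, b, hb, -, -, h1, h2⟩ := h.four
  exact ⟨a, mem_top _, b, mem_top _, h.inv a ha, h.inv b hb, h1, h2⟩

theorem card_eq {α : Ω} : Nat.card Ω = (stabilizer G α).index := by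
  rw [index_stabilizer, show orbit G α = Set.univ from
    Set.eq_univ_of_forall fun β => h.trans α β, Set.ncard_univ]

variable {X : Subgroup G} {α : Ω} {G' Δ : Type*} [Group G'] [MulAction G' Δ]
  {f : X →* G'} {j : Δ → Ω} (R : Red X α f j) (hX : ¬ X ≤ stabilizer G α)
  (h4 : F4 Z (X ⊓ stabilizer G α))
include R

omit h [Finite G] in
theorem mem_orbit_iff' {β : Ω} : β ∈ orbit X α ↔ ∃ δ, j δ = β := by
  constructor
  · rintro ⟨m, rfl⟩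
    exact R.exists_pt m.2
  · rintro ⟨δ, rfl⟩
    obtain ⟨m, hm, e⟩ := R.orb δ
    exact ⟨⟨m, hm⟩, e.symm⟩

omit h [Finite G] in
theorem ker_iff (x : X) : (x : G) ∈ Nf G (orbit X α) ↔ f x = 1 := by
  rw [mem_Nf]
  refine ⟨fun e => R.faith _ fun δ => R.smul_iff.2 (e _ ((mem_orbit_iff' R).2 ⟨δ, rfl⟩)),
    fun e y hy => ?_⟩
  obtain ⟨δ, rfl⟩ := (mem_orbit_iff' R).1 hy
  rw [← R.smul_iff, e, one_smul]

include hX h4

theorem ln (h3 : S3F X) (hR : ∀ δ : Δ, ∃ Q t, RO (stabilizer G' δ) Q t ∧ Rank2 Q) :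
    ∃ n, Ln Z X (orbit X α) n := by
  have : Fact (Nat.Prime 2) := ⟨Nat.prime_two⟩
  have := R.finite
  have S := h.red R hX h4
  have h3' := h3.of_surjective f R.surj
  have ker := ker_iff R
  have ker2 : ∀ x y : X, (x : G)⁻¹ * y ∈ Nf G (orbit X α) ↔ f x = f y := fun x y => by
    rw [← inv_mul_eq_one, ← map_inv, ← map_mul]; exact ker (x⁻¹ * y)
  obtain ⟨δ₀, e₀⟩ := R.base
  obtain ⟨a₀, ha₀, -, -, ha₀X, -⟩ := id h4
  obtain ⟨n, hn, key⟩ : ∃ n, Nat.card Δ = (2 ^ n) ^ 2 + 1 ∧ ∀ δ : Δ, ∃ Q t,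
      RO (stabilizer G' δ) Q t ∧ Rank2 Q ∧ SzQ (stabilizer G' δ) Q n := by
    obtain ⟨Q, t, R₀, r₀⟩ := hR δ₀
    obtain ⟨n, hn⟩ := exists_szQ h3' R₀ r₀
    have e := S.card_eq (α := δ₀)
    rw [R₀.index_H, hn.c1] at e
    refine ⟨n, e, fun δ => ?_⟩
    obtain ⟨Q, t, R₁, r₁⟩ := hR δ
    obtain ⟨m, hm⟩ := exists_szQ h3' R₁ r₁
    have e' := S.card_eq (α := δ)
    rw [R₁.index_H, hm.c1, e, Nat.add_right_cancel_iff, Nat.pow_left_inj two_ne_zero,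
      Nat.pow_right_inj one_lt_two] at e'
    exact ⟨Q, t, R₁, r₁, e' ▸ hm⟩
  obtain ⟨Q₀, t₀, R₀, r₀, S₀⟩ := key δ₀
  have hZ : ∀ u, IsInv u → u ∈ f '' {x : X | (x : G) ∈ Z} := fun u => S.mem_of_RO R₀
  have fix2 : ∀ P ≤ X, IsPGroup 2 P → ∃ δ, P ≤ stabilizer G (j δ) := fun P h1 h2 => by
    obtain ⟨T, h5, hT⟩ := IsSylowIn.exists_ge h2 h1
    obtain ⟨g, hg, h6⟩ := h.sylow_le_stab hT ha₀ ha₀X.1 ha₀X.2
    obtain ⟨δ, e⟩ := R.exists_pt hg
    exact ⟨δ, e ▸ h5.trans h6⟩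
  have inQ : ∀ P ≤ X, IsPGroup 2 P → ∃ δ Q t, RO (stabilizer G' δ) Q t ∧ Rank2 Q ∧
      SzQ (stabilizer G' δ) Q n ∧ ∀ x : X, (x : G) ∈ P → f x ∈ Q := fun P h1 h2 => by
    obtain ⟨δ, h5⟩ := fix2 P h1 h2
    obtain ⟨Q, t, a, b, c⟩ := key δ
    exact ⟨δ, Q, t, a, b, c, fun x hx => mem_Q_of_two a (R.smul_iff.2 (h5 hx))
      (isPGroup_zpowers_map f (isPGroup_zpowers_of_mem h2 hx))⟩
  have syl : ∀ T, IsSylowIn 2 T X → ∃ δ Q t, RO (stabilizer G' δ) Q t ∧ Rank2 Q ∧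
      SzQ (stabilizer G' δ) Q n ∧ (T.subgroupOf X).map f = Q ∧
      ((zs Z T).subgroupOf X).map f = Q0g Q := fun T hT => by
    obtain ⟨δ, Q, t, a, b, c, d⟩ := inQ T hT.le hT.isPGroup
    have h5 := (hT.subgroupOf le_rfl).map f
    rw [subgroupOf_self, ← MonoidHom.range_eq_map, MonoidHom.range_eq_top.2 R.surj] at h5
    have h6 : (T.subgroupOf X).map f = Q :=
      (h5.eq_of_le c.p2 (by rintro _ ⟨x, hx, rfl⟩; exact d x hx) le_top).symm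
    refine ⟨δ, Q, t, a, b, c, h6, le_antisymm ?_ fun u hu => ?_⟩
    · rintro _ ⟨x, hx, rfl⟩
      refine mem_Q0g_of (d x (zs_le Z T hx)) ?_
      rw [← map_mul, show x * x = 1 from Subtype.ext (h.zs_sq hT.isPGroup hx), map_one]
    by_cases h0 : u = 1
    · exact h0 ▸ one_mem _
    obtain ⟨z, hz, rfl⟩ := hZ u ⟨((a.mem_Q0 b).1 hu).2, h0⟩
    obtain ⟨x, hx, h7⟩ := ((hT.subgroupOf le_rfl).mono (K := Q.comap f)
      (h6 ▸ le_comap_map _ _) (by rw [subgroupOf_self]; exact le_top)).exists_conj_le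
      (Invol.isPGroup_zpowers (a := z) (Subtype.ext (h.sq hz))) (zpowers_le.2 (mem_comap.2 (Q0g_le (Q := Q) hu)))
    refine ⟨x * z * x⁻¹, mem_zs_of (h.conj z hz x) (h7 (mem_map_of_mem _ (mem_zpowers z))), ?_⟩
    rw [map_mul, map_mul, ← a.Q0_central b hu hx, map_inv, mul_inv_cancel_right]
  have two' : ∀ x : G', IsPGroup 2 (zpowers x) → ∀ δ ε : Δ, δ ≠ ε → x • δ = δ → x • ε = ε →
      x = 1 := fun x hx δ ε hne a b => by
    by_contra h1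
    obtain ⟨i, hi⟩ := exists_invol_of_two hx h1
    exact hne (S.uniq _ (hZ _ hi) _ _ (pow_smul_eq a i) (pow_smul_eq b i))
  have injA : ∀ T, IsSylowIn 2 T X → ∀ x ∈ (zs Z T).subgroupOf X, f x = 1 → x = 1 :=
    fun T hT x hx e => by_contra fun h0 =>
      h.map_ne_one R hX x (h.mem_of_zs hT.isPGroup hx fun e => h0 (Subtype.ext e)) e
  refine ⟨n, ?_, ?_, S₀.odd, S₀.three, ?_, ?_, ?_, ?_, ?_, ?_, ?_, ?_, ?_, ?_, ?_, ?_, ?_, ?_⟩
  · rintro x hx _ ⟨y, rfl⟩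
    exact ⟨⟨x, hx⟩ * y, mul_smul (⟨x, hx⟩ : X) y α⟩
  · rintro _ ⟨x, rfl⟩ _ ⟨y, rfl⟩
    exact ⟨y * x⁻¹, (y * x⁻¹).2, by
      change ((y : G) * (x : G)⁻¹) • (x : G) • α = (y : G) • α
      rw [mul_smul, inv_smul_smul]⟩
  · rw [← hn, show orbit X α = Set.range j from Set.ext fun β => mem_orbit_iff' R,
      ← Set.image_univ, Set.ncard_image_of_injective _ R.inj, Set.ncard_univ]
  · intro x hx hp β hβ γ hγ hne a b
    obtain ⟨δ, rfl⟩ := (mem_orbit_iff' R).1 hβ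
    obtain ⟨ε, rfl⟩ := (mem_orbit_iff' R).1 hγ
    exact (ker ⟨x, hx⟩).2 (two' _ (isPGroup_zpowers_map f hp) δ ε (fun e => hne (e ▸ rfl))
      (R.smul_iff.2 a) (R.smul_iff.2 b))
  · intro P h1 h2
    obtain ⟨δ, h5⟩ := fix2 P h1 h2
    exact ⟨_, (mem_orbit_iff' R).2 ⟨δ, rfl⟩, h5⟩
  · intro T hT
    obtain ⟨δ, Q, t, a, b, c, d, e⟩ := syl T hT
    rw [← c.c0, ← e, card_map_of_injOn f (injA T hT),
      card_subgroupOf_of_le ((zs_le Z T).trans hT.le)]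
  · intro T hT
    obtain ⟨δ, Q, t, a, b, c, d, e⟩ := syl T hT
    have h5 : (f.comp (inclusion hT.le)).range = Q := by
      rw [MonoidHom.range_comp, inclusion_range, d]
    have h6 : (f.comp (inclusion hT.le)).ker = (Nf G (orbit X α)).subgroupOf T :=
      Subgroup.ext fun x => (ker (inclusion hT.le x)).symm
    rw [← c.c1, ← h5, ← index_ker, h6, inf_comm, ← card_subgroupOf_eq, index_mul_card]
  · intro x hx hp
    obtain ⟨δ, Q, t, a, b, c, d⟩ := inQ _ (zpowers_le.2 hx) hp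
    lift x to X using hx
    refine (ker (x * x * (x * x))).2 ?_
    simpa only [map_mul] using c.sq _ (d x (mem_zpowers _))
  · intro T hT x hx h1
    obtain ⟨δ, Q, t, a, b, c, d, e⟩ := syl T hT
    lift x to X using hT.le hx
    have h5 : f x * f x = 1 := by rw [← map_mul]; exact (ker _).1 h1
    obtain ⟨y, hy, h6⟩ := e.ge (mem_Q0g_of (d.le (mem_map_of_mem f hx)) h5)
    exact ⟨y, hy, (ker (x * y)).2 (by rw [map_mul, h6, h5])⟩
  · intro P h1 h2 x hx y hy h5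
    obtain ⟨δ, Q, t, a, b, c, d⟩ := inQ P h1 h2
    lift x to X using h1 hx
    lift y to X using h1 hy
    refine (ker (x⁻¹ * y * (x⁻¹ * y))).2 ?_
    simpa only [map_mul, map_inv] using c.inj _ (d x hx) _ (d y hy)
      (by simpa only [map_mul] using (ker2 (x * x) (y * y)).1 h5)
  · intro P h1 h2 x hx y hy h5
    obtain ⟨δ, Q, t, a, b, c, d⟩ := inQ P h1 h2
    lift x to X using h1 hx
    lift y to X using h1 hy
    refine (c.comm _ (d x hx) _ (d y hy)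
      (by simpa only [map_mul] using (ker2 (x * y) (y * x)).1 h5)).imp
      (fun e => (ker (x * x)).2 (by rwa [map_mul])) (Or.imp
      (fun e => (ker (y * y)).2 (by rwa [map_mul]))
      fun e => (ker2 (x * x) (y * y)).2 (by rwa [map_mul, map_mul]))
  · intro z hz w hw h1 h2 β hβ a b
    obtain ⟨δ, rfl⟩ := (mem_orbit_iff' R).1 hβ
    obtain ⟨Q, t, c, d, -⟩ := key δ
    lift z to X using h1
    lift w to X using h2
    have h5 := S.sq ⟨z, hz, rfl⟩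
    have h6 := S.sq ⟨w, hw, rfl⟩
    refine (ker (z * w * (z * w))).2 ?_
    simpa only [map_mul] using sq_of_comm h5 h6 (c.invol_central d
      (c.mem_Q_of_invol (R.smul_iff.2 a) h5) h5 (c.mem_Q_of_invol (R.smul_iff.2 b) h6))
  · intro T hT x hx ho h1
    obtain ⟨δ, Q, t, a, b, c, d, e⟩ := syl T hT
    lift x to X using hx
    have h5 : ∀ u ∈ Q, u * u = 1 → f x * u = u * f x := fun u hu h6 => by
      obtain ⟨y, hy, rfl⟩ := e.ge (mem_Q0g_of hu h6)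
      have h7 := (ker (x * y * x⁻¹ * y)).1 (h1 y hy)
      rw [map_mul, map_mul, map_mul, map_inv, mul_eq_one_iff_eq_inv, Invol.inv_eq h6] at h7
      exact mul_inv_eq_iff_eq_mul.1 h7
    obtain ⟨u, hu, -, -, h6, -, -, h7, -⟩ := b
    refine (ker x).2 (c.eq_one a (normalCore_stab R.faith S.trans δ)
      (a.mem_H_of_comm hu h6 (h5 u hu h7).symm) (ho.of_dvd_nat ?_) h5)
    rw [Subgroup.orderOf_coe]
    exact orderOf_map_dvd f x
  · intro z hz w hw h1 h2 h5 c hc hp h6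
    lift z to X using h1
    lift w to X using h2
    lift c to X using hc
    refine (ker c).2 (by_contra fun h7 => ?_)
    obtain ⟨i, hi⟩ := exists_invol_of_two (isPGroup_zpowers_map f hp) h7
    have h8 := S.sq ⟨z, hz, rfl⟩
    have h9 := Invol.inverts_mul h8 (S.sq ⟨w, hw, rfl⟩)
    rw [Invol.inv_eq h8] at h9
    refine hi.2 (R₀.eq_one_of_comm_strongly_real r₀ h8 h9 (fun e => h5 ?_) hi.1 ?_)
    · exact (ker (z * w * (z * w))).2 (by simpa only [map_mul] using e)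
    · have : Commute (f c) (f z * f w) := by
        rw [← map_mul]; exact (show Commute c (z * w) from Subtype.ext h6).map f
      exact (this.pow_left i).eq
  · intro T hT
    obtain ⟨δ, Q, t, a, b, c, d, e⟩ := syl T hT
    obtain ⟨k, hk, h5⟩ := c.cyc
    obtain ⟨k, rfl⟩ := R.surj k
    obtain ⟨x, hx, h7⟩ := ((hT.subgroupOf le_rfl).mono (K := Q.comap f)
      (d ▸ le_comap_map _ _) (by rw [subgroupOf_self]; exact le_top)).frattini_elem (g := k)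
      (mem_normalizer_fintype fun y hy => by simpa using a.norm' hk hy)
    have h8 : ((x * k : X) : G) ∈ normalizer (T : Set G) := mem_normalizer_fintype fun y hy =>
      conj_mem_of_mem_normalizer h7 (x := ⟨y, hT.le hy⟩) hy
    refine ⟨_, ⟨(x * k).2, h8⟩, fun y hy z hz h1 h2 => ?_⟩
    lift y to X using hT.le (zs_le Z T hy)
    lift z to X using hT.le (zs_le Z T hz)
    have q0 : ∀ y : X, (y : G) ∈ zs Z T → f y ∈ Q0g Q := fun y hy => e.le (mem_map_of_mem f hy)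
    obtain ⟨i, hi⟩ := h5 _ (Q0g_le (q0 y hy)) _ (Q0g_le (q0 z hz))
      (S.inv _ ⟨y, h.mem_of_zs hT.isPGroup hy h1, rfl⟩)
      (S.inv _ ⟨z, h.mem_of_zs hT.isPGroup hz h2, rfl⟩)
    have h9 : ∀ i : ℕ, f ((x * k) ^ i * y * ((x * k) ^ i)⁻¹) = f k ^ i * f y * (f k ^ i)⁻¹ := by
      intro i
      induction i with
      | zero => simp
      | succ i ih =>
        have := a.Q0_central b (conj_mem_of_mem_normalizer (a.le_normalizer_Q0 b
          (pow_mem hk (i + 1))) (q0 y hy)) hx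
        rw [show (x * k) ^ (i + 1) * y * ((x * k) ^ (i + 1))⁻¹ =
          x * (k * ((x * k) ^ i * y * ((x * k) ^ i)⁻¹) * k⁻¹) * x⁻¹ by
            simp only [pow_succ', mul_inv_rev, mul_assoc],
          map_mul, map_mul, map_mul, map_mul, ih, map_inv, map_inv, mul_inv_eq_iff_eq_mul, this,
          pow_succ']
        group
    refine ⟨i, congrArg Subtype.val (mul_inv_eq_one.1
      (injA T hT ((x * k) ^ i * y * ((x * k) ^ i)⁻¹ * z⁻¹) (mul_mem ?_ (inv_mem hz)) ?_))⟩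
    · exact conj_mem_of_mem_normalizer (H := zs Z T) (g := ((x * k : X) : G) ^ i) (x := (y : G))
        (h.norm_zs T (pow_mem h8 i)) hy
    · rw [map_mul, h9, hi, map_inv, mul_inv_cancel]
  · intro E hE ho ht
    refine ((S.sea hZ).conc_of_RO (fun u v δ hu hv a b => ?_) S.rk2 R₀ r₀).c3
      ((E.subgroupOf X).map f) le_top
      (ho.of_dvd_nat ((card_map_dvd _ f).trans (card_subgroupOf_of_le hE).dvd))
      fun a _ b _ ha hb => ?_
    · obtain ⟨Q, t, c, d, -⟩ := key δ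
      exact c.invol_central d (c.mem_Q_of_invol a hu.1) hu.1 (c.mem_Q_of_invol b hv.1)
    obtain ⟨u, hu, rfl⟩ := hZ a ha
    obtain ⟨v, hv, rfl⟩ := hZ b hb
    obtain ⟨e, he, h1⟩ := ht u hu v hv u.2 v.2
    refine ⟨f ⟨e, hE he⟩, mem_map_of_mem f he, ?_⟩
    rw [← map_inv, ← map_mul, ← map_mul]
    exact congrArg f (Subtype.ext h1)

end ZS

/-- The induction hypothesis. -/
def IHZ (m : ℕ) : Prop :=
  ∀ (H Δ : Type u) [Group H] [Finite H] [MulAction H Δ] (Z : Set H), Nat.card H < m → S3F H →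
    KG H → ZS H Δ Z → (∀ g : H, (∀ δ : Δ, g • δ = δ) → g = 1) →
    ∀ δ : Δ, ∃ Q t, RO (stabilizer H δ) Q t ∧ Rank2 Q

theorem IHZ.ln {m : ℕ} (ih : IHZ.{u} m) {G Ω : Type u} [Group G] [Finite G] [MulAction G Ω]
    {Z : Set G} (h : ZS G Ω Z) {X : Subgroup G} (hm : Nat.card X < m) (h3 : S3F X) (hK : KG X)
    {α : Ω} (hX : ¬ X ≤ stabilizer G α) (h4 : F4 Z (X ⊓ stabilizer G α)) :
    ∃ n, Ln Z X (orbit X α) n := by
  have R := red_orbit X α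
  have := R.finite
  exact h.ln R hX h4 h3 (ih _ _ _ (R.card_le.trans_lt hm) (h3.of_surjective _ R.surj)
    (hK.of_surjective _ R.surj) (h.red R hX h4) R.faith)

end CfsgLib.GO
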