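import Cfsg.Agent.Lib.GOB.Ctx
import Cfsg.Agent.Lib.GOB.Comp
import Cfsg.Agent.Lib.SEG.Main

/-!
# The point stabilizer modulo its odd core
-/

set_option autoImplicit false
set_option linter.unusedSectionVars false

namespace CfsgLib.GO

open Subgroup MulAction Cfsg CfsgLib.H1 CfsgLib.SE CfsgLib.Suz

universe u

theorem exists_conj_ker {M G' : Type*} [Group M] [Finite M] [Group G'] (f : M →* G')
    {T : Subgroup M} (hT : IsSylowIn 2 T ⊤) {z : M} (hz : IsPGroup 2 (zpowers z))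
    (h : f z ∈ T.map f) : ∃ k, f k = 1 ∧ k * z * k⁻¹ ∈ T := by
  have : Fact (Nat.Prime 2) := ⟨Nat.prime_two⟩
  obtain ⟨x, ⟨t, ht, e⟩, h1⟩ := (hT.mono (K := (T.map f).comap f) (le_comap_map _ _)
    le_top).exists_conj_le hz (zpowers_le.2 h)
  refine ⟨t⁻¹ * x, by rw [map_mul, map_inv, e, inv_mul_cancel], ?_⟩
  have := T.mul_mem (T.mul_mem (T.inv_mem ht) (h1 (mem_map_of_mem _ (mem_zpowers z)))) ht
  simpa [mul_assoc] using this

theorem odd_of_map {M G' : Type*} [Group M] [Finite M] [Group G'] {f : M →* G'}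
    (hf : Odd (Nat.card f.ker)) {x : M} (h : Odd (orderOf (f x))) : Odd (orderOf x) := by
  have h1 := odd_orderOf_of_mem hf (x := x ^ orderOf (f x))
    (by rw [MonoidHom.mem_ker, map_pow, pow_orderOf_eq_one])
  refine (h.mul h1).of_dvd_nat (orderOf_dvd_of_pow_eq_one ?_)
  rw [pow_mul, pow_orderOf_eq_one]

theorem S3F.h3 {G : Type*} [Group G] [Finite G] (h : S3F G) : H3 G :=
  Or.inr fun y _ h1 h2 => h.not_three_dvd h2 (h1 ▸ dvd_rfl)

/-- The map onto the quotient by the odd core. -/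
abbrev oq (M : Type*) [Group M] : M →* M ⧸ pPrimeCore 2 M := QuotientGroup.mk' _

theorem odd_ker_oq (M : Type*) [Group M] [Finite M] : Odd (Nat.card (oq M).ker) := by
  have : Fact (Nat.Prime 2) := ⟨Nat.prime_two⟩
  rw [QuotientGroup.ker_mk']
  exact Nat.coprime_two_right.1 (pPrimeCore_coprime 2)

theorem oq_eq_one {G : Type*} [Group G] {M : Subgroup G} {x : M} :
    oq M x = 1 ↔ (x : G) ∈ piCoreOf {2}ᶜ M := by
  have : Fact (Nat.Prime 2) := ⟨Nat.prime_two⟩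
  rw [← map_pPrimeCore_eq_piCoreOf, QuotientGroup.mk'_apply, QuotientGroup.eq_one_iff]
  exact ⟨fun h => mem_map_of_mem _ h, fun ⟨y, hy, e⟩ => (Subtype.ext e : y = x) ▸ hy⟩

/-- The image of `Z` in the stabilizer modulo its odd core. -/
abbrev Zoq {G : Type*} [Group G] (Z : Set G) (M : Subgroup G) : Set (M ⧸ pPrimeCore 2 M) :=
  oq M '' {x : M | (x : G) ∈ Z}

namespace Ctx

variable {G Ω : Type u} [Group G] [Finite G] [MulAction G Ω] {Z : Set G} (h : Ctx G Ω Z)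
include h

theorem oq_ne_one {M : Subgroup G} (x : M) (hx : (x : G) ∈ Z) : oq M x ≠ 1 := fun e =>
  (h.inv _ hx).not_odd (oq_eq_one.1 e) (odd_piCoreOf M)

theorem zq (M : Subgroup G) : ZC (Zoq Z M) :=
  h.map (QuotientGroup.mk'_surjective _) h.oq_ne_one

theorem mem_zs_oq {M S : Subgroup G} (hS : IsSylowIn 2 S M) {z : M} (hz : (z : G) ∈ Z)
    (h1 : oq M z ∈ (S.subgroupOf M).map (oq M)) :
    ∃ a : M, (a : G) ∈ Z ∧ (a : G) ∈ S ∧ oq M a = oq M z := by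
  obtain ⟨k, h2, h3⟩ := exists_conj_ker (oq M) (subgroupOf_self M ▸ hS.subgroupOf le_rfl)
    (Invol.isPGroup_zpowers (a := z) (Subtype.ext (h.sq hz))) h1
  exact ⟨k * z * k⁻¹, h.conj _ hz k, h3, by rw [map_mul, map_mul, map_inv, h2, inv_one, mul_one, one_mul]⟩

theorem na_or {α : Ω} {S : Subgroup G} (hS : IsSylowIn 2 S (stabilizer G α)) :
    (∀ z ∈ Z, z • α = α → ∃ a ∈ Z, a ∈ S ∧ z * a ∈ piCoreOf {2}ᶜ (stabilizer G α)) ∨
    (∃ (Δ : Type u) (_ : MulAction (stabilizer G α ⧸ pPrimeCore 2 (stabilizer G α)) Δ) (n : ℕ),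
      ZS _ Δ (Zoq Z (stabilizer G α)) ∧ Ln (Zoq Z (stabilizer G α)) ⊤ (Set.univ : Set Δ) n) ∨
    (Nat.card (zs Z S) ≤ 4 ∧ ¬ Group.IsSolvable (stabilizer G α) ∧
      ((∀ u : G, IsInv u → u ∈ Z) → ¬ 8 ∣ Nat.card S)) := by
  have : Fact (Nat.Prime 2) := ⟨Nat.prime_two⟩
  set M := stabilizer G α with hM
  have sj : Function.Surjective (oq M) := QuotientGroup.mk'_surjective _
  have h3 := (h.s3f.subgroup M).of_surjective _ sj
  have hK := (h.kg M (h.stab_ne_top α)).of_surjective _ sj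
  have hT := (hS.subgroupOf le_rfl).map (oq M)
  rw [subgroupOf_self, map_top_of_surjective _ sj] at hT
  have inj : ∀ x ∈ S.subgroupOf M, oq M x = 1 → x = 1 := fun x hx e =>
    Subtype.ext (Invol.eq_one_of_odd_of_mem hS.isPGroup hx
      (odd_orderOf_of_mem (odd_piCoreOf M) (oq_eq_one.1 e)))
  refine (comp_lemma h3 hK (pPrimeCore_quotient_pPrimeCore 2) (h.zq M) ?_ ?_ hT).imp
    (fun e z hz h1 => ?_) (Or.imp ?_ ?_)
  · rintro _ ⟨z, hz, rfl⟩ _ ⟨w, hw, rfl⟩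
    obtain ⟨β, hβ⟩ := h.exists_ne α
    obtain ⟨d, hd, e⟩ := h.exists_conj_st2 hβ.symm hz hw z.2 w.2
    refine ⟨oq M ⟨d, hd.1⟩, ?_⟩
    rw [← map_inv, ← map_mul, ← map_mul]
    exact congrArg _ (Subtype.ext e)
  · obtain ⟨a, ha, b, hb, h1, h2, h4, h5⟩ := h.f4 α
    lift a to M using h1
    lift b to M using h2
    refine ⟨_, ⟨a, ha, rfl⟩, _, ⟨b, hb, rfl⟩, mem_top _, mem_top _, fun e => ?_, ?_⟩
    · refine h.oq_ne_one (a * b) (h.mul_mem ha hb h5 h4) ?_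
      rw [map_mul, e, (h.zq M).sq ⟨b, hb, rfl⟩]
    · rw [← map_mul, ← map_mul]; exact congrArg _ (Subtype.ext h5)
  · lift z to M using h1
    obtain ⟨a, h2, h4, h5⟩ := h.mem_zs_oq hS hz (e _ ⟨z, hz, rfl⟩)
    exact ⟨a, h2, h4, (oq_eq_one (x := z * a)).1
      (by rw [map_mul, h5, (h.zq M).sq ⟨z, hz, rfl⟩])⟩
  · rintro ⟨Δ, _, R⟩
    obtain ⟨δ, -⟩ := R.nontriv
    obtain ⟨n, L⟩ := h.ih.ln R (X := ⊤) (α := δ)
      (card_top.trans_lt ((Nat.card_le_card_of_surjective _ sj).trans_lt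
        (card_lt_of_ne_top (h.stab_ne_top α)))) (h3.subgroup ⊤) (hK.subgroup ⊤)
      (fun e => R.stab_ne_top δ (top_le_iff.1 e)) (by rw [top_inf_eq]; exact R.f4 δ)
    refine ⟨Δ, inferInstance, n, R, ?_⟩
    rwa [show orbit (⊤ : Subgroup (M ⧸ pPrimeCore 2 M)) δ = Set.univ from
      Set.eq_univ_of_forall fun ε => let ⟨g, e⟩ := R.trans δ ε; ⟨⟨g, mem_top g⟩, e⟩] at L
  · rintro ⟨h1, h2, h4⟩
    refine ⟨le_trans ?_ h1, fun e => h2 (Group.isSolvable_of_surjective sj), fun hZ e => h4 ?_ ?_⟩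
    · rw [← card_subgroupOf_of_le ((zs_le Z S).trans hS.le),
        ← card_map_of_injOn (oq M) fun x hx => inj x (zs_le Z S hx)]
      refine card_le_of_le ?_
      rintro _ ⟨x, hx, rfl⟩
      rcases (h.mem_zs hS.isPGroup).1 hx with e | e
      · rw [show x = 1 from Subtype.ext e, map_one]; exact one_mem _
      · exact mem_zs_of ⟨x, e.1, rfl⟩ (mem_map_of_mem _ e.2)
    · intro u hu
      obtain ⟨x, rfl⟩ := sj u
      obtain ⟨v, hv, e⟩ := lift_inv (odd_ker_oq M) hu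
      exact ⟨v, hZ v ⟨congrArg Subtype.val hv.1, fun e => hv.2 (Subtype.ext e)⟩, e⟩
    · rw [← card_subgroupOf_of_le hS.le, ← card_map_of_injOn (oq M) inj] at e
      exact e.trans (card_subgroup_dvd_card _)

/-- The strongly embedded case. -/
theorem ro_of_sea (hZ : ∀ u, IsInv u → u ∈ Z) (α : Ω) :
    ∃ Q t, RO (stabilizer G α) Q t ∧ Rank2 Q := by
  have : Fact (Nat.Prime 2) := ⟨Nat.prime_two⟩
  have E := h.sea hZ
  have hs : ∀ α : Ω, Group.IsSolvable (stabilizer G α) := fun α => by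
    obtain ⟨S, hS⟩ := IsSylowIn.exists_in (p := 2) (stabilizer G α)
    set M := stabilizer G α with hM
    have sj : Function.Surjective (oq M) := QuotientGroup.mk'_surjective _
    obtain ⟨β, hβ⟩ := h.exists_ne α
    have tr : ∀ z ∈ Zoq Z M, ∀ w ∈ Zoq Z M,
        ∃ e ∈ ((st2 G α β).subgroupOf M).map (oq M), e * z * e⁻¹ = w := by
      rintro _ ⟨z, hz, rfl⟩ _ ⟨w, hw, rfl⟩
      obtain ⟨d, hd, e⟩ := h.exists_conj_st2 hβ.symm hz hw z.2 w.2
      refine ⟨oq M ⟨d, hd.1⟩, mem_map_of_mem _ hd, ?_⟩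
      rw [← map_inv, ← map_mul, ← map_mul]
      exact congrArg _ (Subtype.ext e)
    rcases h.na_or hS with h1 | ⟨Δ, _, n, R, L⟩ | ⟨-, h1, h2⟩
    · have hT := (hS.subgroupOf le_rfl).map (oq M)
      rw [subgroupOf_self, map_top_of_surjective _ sj] at hT
      have C := h.zq M
      have h2 : ∀ z ∈ Zoq Z M, z ∈ zs (Zoq Z M) ((S.subgroupOf M).map (oq M)) := by
        rintro _ ⟨z, hz, rfl⟩
        obtain ⟨a, ha, h3, h4⟩ := h1 z hz z.2
        lift a to M using hS.le h3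
        have := (oq_eq_one (x := z * a)).2 h4
        rw [map_mul, mul_eq_one_iff_eq_inv, (C.inv _ ⟨a, ha, rfl⟩).inv_eq] at this
        exact mem_zs_of ⟨z, hz, rfl⟩ (this ▸ mem_map_of_mem _ h3)
      have : (zs (Zoq Z M) ((S.subgroupOf M).map (oq M))).Normal := ⟨fun x hx g => by
        rcases (C.mem_zs hT.isPGroup).1 hx with rfl | e
        · simp
        · exact h2 _ (C.conj x e.1 g)⟩
      have := lemH ((h.s3f.subgroup M).of_surjective _ sj)
        ((h.kg M (h.stab_ne_top α)).of_surjective _ sj) (pPrimeCore_quotient_pPrimeCore 2)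
        (C.zs_ea hT.isPGroup) ?_ (fun a ha b hb a1 b1 => (tr a (C.mem_of_zs hT.isPGroup ha a1) b
          (C.mem_of_zs hT.isPGroup hb b1)).imp fun _ e => e.2) fun u hu => ?_
      · have := FT.feit_thompson (odd_ker_oq M)
        exact solvable_of_ker_le_range (oq M).ker.subtype (oq M) (by rw [range_subtype])
      · obtain ⟨a, ha, b, hb, h3, h4, h5, h6⟩ := h.f4 α
        lift a to M using h3
        lift b to M using h4
        refine C.four_le ⟨a, ha, rfl⟩ ⟨b, hb, rfl⟩ (zs_le _ _ (h2 _ ⟨a, ha, rfl⟩))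
          (zs_le _ _ (h2 _ ⟨b, hb, rfl⟩)) fun e => h.oq_ne_one (a * b) (h.mul_mem ha hb h6 h5) ?_
        rw [map_mul, e, C.sq ⟨b, hb, rfl⟩]
      · by_cases h0 : u = 1
        · exact h0 ▸ one_mem _
        obtain ⟨x, rfl⟩ := sj u
        obtain ⟨v, hv, e⟩ := lift_inv (odd_ker_oq M) ⟨hu, h0⟩
        exact h2 _ ⟨v, hZ v ⟨congrArg Subtype.val hv.1, fun e => hv.2 (Subtype.ext e)⟩, e⟩
    · refine absurd (fun z hz w hw _ _ => tr z hz w hw) (L.c3 _ le_top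
        ((E.odd_st2 hβ.symm).of_dvd_nat ((card_map_dvd _ _).trans
          (card_subgroupOf_of_le inf_le_left).dvd)))
    obtain ⟨a, ha, h3⟩ := h.exists_fix α
    refine SEG.isSolvable_of_abTwo (isStronglyEmbedded_of (h.stab_ne_top α) (h.inv a ha) h3
      fun u g hu a b => E.fix_of_conj hu a b) (normalCore_stab h.faith h.trans α) h.rk2
      fun Q hQ => ?_
    obtain ⟨k, hk⟩ := hQ.exists_card_eq
    obtain ⟨l, hl⟩ := hS.isPGroup.exists_card_eq
    have h4 := (h.sylow_top hS).card_dvd hQ le_top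
    have h5 := h2 hZ
    rw [hl] at h4 h5
    rw [hk, Nat.pow_dvd_pow_iff_le_right one_lt_two] at h4
    rw [show 8 = 2 ^ 3 from rfl, Nat.pow_dvd_pow_iff_le_right one_lt_two] at h5
    rcases (by omega : k = 2 ∨ k = 1 ∨ k = 0) with rfl | rfl | rfl
    · exact IsPGroup.isMulCommutative_of_card_eq_prime_sq hk
    · have := isCyclic_of_prime_card (p := 2) hk
      infer_instance
    · rw [card_eq_one.1 hk]
      infer_instance
  exact exists_RO_of_tc G Ω E (tc_of_h3 G Ω E h.rk2 h.faith hs h.s3f.h3) h.rk2 h.faith hs α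

end Ctx

namespace BC

variable {G Ω : Type u} [Group G] [Finite G] [MulAction G Ω] {Z : Set G} {n : ℕ}
  (h : BC G Ω Z n)
include h

theorem three : 3 ≤ n :=
  let ⟨u, h1, h2⟩ := h.ex
  (h.ln u h1 h2).three

theorem eight : 8 ≤ 2 ^ n := Nat.pow_le_pow_right (n := 2) (i := 3) two_pos h.three

theorem bad {u : G} (hu : IsInv u) (hu' : u ∉ Z) : Bad Ω Z u := h.bad_all h.cen hu hu'

theorem not_mem_Nf {u z : G} (hu : IsInv u) (hu' : u ∉ Z) (hz : z ∈ Z) :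
    z ∉ Nf G (fixedBy Ω u) := fun e => by
  obtain ⟨-, -, α, β, h1, h2, h3⟩ := h.bad hu hu'
  exact h1 (h.uniq z hz _ _ (mem_Nf.1 e α h2) (mem_Nf.1 e β h3))

theorem exists_pair {S : Subgroup G} (hS : IsSylowIn 2 S ⊤) :
    ∃ a ∈ Z, ∃ b ∈ Z, a ∈ S ∧ b ∈ S ∧ a ≠ b := by
  obtain ⟨a, ha, b, hb, h1, h2, h3, -⟩ := h.f4_of_card hS.isPGroup le_rfl
    (by rw [h.cA S hS]; exact lt_of_lt_of_le (by norm_num) h.eight)
  exact ⟨a, ha, b, hb, zs_le _ _ h1, zs_le _ _ h2, h3⟩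

theorem na {α : Ω} {S : Subgroup G} (hS : IsSylowIn 2 S (stabilizer G α)) :
    ∀ z ∈ Z, z • α = α → ∃ a ∈ Z, a ∈ S ∧ z * a ∈ piCoreOf {2}ᶜ (stabilizer G α) := by
  have : Fact (Nat.Prime 2) := ⟨Nat.prime_two⟩
  have hS' := h.sylow_top hS
  have h0 := h.na_or hS
  set M := stabilizer G α with hM
  rcases h0 with h1 | ⟨Δ, _, m, R, L⟩ | ⟨h1, -⟩
  · exact h1
  swap
  · have := h.eight
    rw [h.cA S hS'] at h1
    omega
  exfalso
  have sj : Function.Surjective (oq M) := QuotientGroup.mk'_surjective _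
  have hT := (hS.subgroupOf le_rfl).map (oq M)
  rw [subgroupOf_self, map_top_of_surjective _ sj] at hT
  obtain ⟨u, hu, hu', huS, h1⟩ : ∃ u : M, IsInv (u : G) ∧ (u : G) ∉ Z ∧ (u : G) ∈ S ∧
      oq M u ∈ Nf _ (Set.univ : Set Δ) := by
    obtain ⟨u, hu, hu'⟩ := h.ex
    obtain ⟨g, -, h1⟩ := hS'.exists_conj_le (Invol.isPGroup_zpowers hu.1) le_top
    have h2 : g * u * g⁻¹ ∈ S := h1 (mem_map_of_mem _ (mem_zpowers u))
    have h3 := hu.conj g
    have h4 := mt (h.conj_iff (g := g)).1 hu'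
    generalize g * u * g⁻¹ = v at h2 h3 h4
    lift v to M using hS.le h2
    obtain ⟨a, ha, h5⟩ := L.lift _ hT (oq M v) (mem_map_of_mem _ h2)
      (by rw [← map_mul, show v * v = 1 from Subtype.ext h3.1, map_one]; exact one_mem _)
    rcases (R.mem_zs hT.isPGroup).1 ha with rfl | ⟨⟨z, hz, rfl⟩, h6⟩
    · exact ⟨v, h3, h4, h2, by rwa [mul_one] at h5⟩
    obtain ⟨b, hb, h7, h8⟩ := h.mem_zs_oq hS hz h6
    obtain ⟨h9, h10⟩ := h.mul_not_mem h3 h4 (Or.inr hb) (h.cen S hS.isPGroup _ hb h7 _ h2).symm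
    exact ⟨v * b, h9, h10, S.mul_mem h2 h7, by rwa [map_mul, h8]⟩
  obtain ⟨δ, -, h2⟩ := L.fix2 _ le_top hT.isPGroup
  obtain ⟨ε, hε⟩ := R.exists_ne δ
  obtain ⟨w, hw, h3, h4⟩ : ∃ w : M, (w : G) ∈ Z ∧ oq M w • ε = ε ∧ (w : G) * u = u * w := by
    obtain ⟨_, ⟨z, hz, rfl⟩, h3⟩ := R.exists_fix ε
    obtain ⟨P, h4, hP⟩ := IsSylowIn.exists_ge (Invol.isPGroup_zpowers hu.1)
      (H := ((stabilizer _ ε).comap (oq M)).map M.subtype)
      (zpowers_le.2 (mem_map_of_mem _ (mem_Nf.1 h1 ε trivial)))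
    obtain ⟨g, -, h5⟩ := h.exists_mem_sylow hP hz (mem_map_of_mem M.subtype h3)
    obtain ⟨w, h6, h7 : (w : G) = _⟩ := hP.le h5
    have h8 : (w : G) ∈ Z := h7 ▸ h.conj _ hz g
    exact ⟨w, h8, h6, (h.cen P hP.isPGroup _ h8 (h7 ▸ h5) _ (h4 (mem_zpowers _))).symm⟩
  have key : ∀ a ∈ Z, a ∈ S → a * w ∈ Nf G (fixedBy Ω (u : G)) := fun a ha h5 => by
    lift a to M using hS.le h5
    refine mem_of_sq_mem ?_ ((h.ln u hu hu').zz a ha w hw
      (mem_cent.2 (h.cen S hS.isPGroup _ ha h5 _ huS).symm) (mem_cent.2 h4) α u.2 a.2 w.2)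
    rw [← coe_mul, Subgroup.orderOf_coe]
    refine odd_of_map (odd_ker_oq M) ?_
    rw [map_mul]
    exact R.odd_mul ⟨a, ha, rfl⟩ ⟨w, hw, rfl⟩ (h2 (mem_map_of_mem _ h5))
      (R.smul_ne ⟨w, hw, rfl⟩ h3 hε.symm)
  obtain ⟨a, ha, b, hb, h5, h6, h7⟩ := h.exists_pair hS'
  refine h.not_mem_Nf hu hu' (h.mul_mem ha hb (h.cen S hS.isPGroup _ hb h6 _ h5) h7) ?_
  have := mul_mem (key a ha h5) (inv_mem (key b hb h6))
  rwa [mul_inv_rev, ← mul_assoc, mul_inv_cancel_right, (h.inv b hb).inv_eq] at this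

end BC

end CfsgLib.GO
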