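import Cfsg.Agent.Lib.GOB.Big
import Cfsg.Agent.Lib.GOB.Mod

/-!
# The case of two point stabilizers with Sylow `2`-subgroups of order `2`
-/

set_option autoImplicit false
set_option linter.unusedSectionVars false

namespace CfsgLib.GO

open Subgroup MulAction Cfsg CfsgLib.H1 CfsgLib.SE CfsgLib.Suz

universe u

theorem card_sup_zpowers_le {G : Type*} [Group G] [Finite G] {K : Subgroup G} {a : G}
    (h1 : a ∈ normalizer (K : Set G)) (h2 : a * a ∈ K) :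
    Nat.card ↥(K ⊔ zpowers a) ≤ 2 * Nat.card K := by
  have h3 := Set.ncard_le_ncard (s := (K ⊔ zpowers a : Subgroup G))
    (t := K ∪ (· * a⁻¹) '' K) fun x hx => (Sig.mem_sup_zpowers_of_sq_mem h1 h2 hx).imp id
      fun e => ⟨_, e, mul_inv_cancel_right x a⟩
  have h4 := Set.ncard_union_le (K : Set G) ((· * a⁻¹) '' K)
  rw [Set.ncard_image_of_injective _ (mul_left_injective _)] at h4
  rw [← SetLike.coe_sort_coe, ← SetLike.coe_sort_coe, Nat.card_coe_set_eq, Nat.card_coe_set_eq]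
  omega

theorem ncard_coset {G : Type*} [Group G] (A : Subgroup G) (w : G) :
    {y | y * w⁻¹ ∈ A}.ncard = Nat.card A := by
  rw [← SetLike.coe_sort_coe, Nat.card_coe_set_eq, ← Set.ncard_preimage_of_injective_subset_range
    (s := (A : Set G)) (mul_left_injective w⁻¹) fun x _ => mul_right_surjective _ x]
  rfl

theorem comm_mem_of_sq {G : Type*} [Group G] {S A : Subgroup G}
    (hn : S ≤ normalizer (A : Set G)) (hsq : ∀ s ∈ S, s * s ∈ A) {s b : G} (hs : s ∈ S)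
    (hb : b ∈ S) : s * b * s⁻¹ * b⁻¹ ∈ A := by
  have := mul_mem (mul_mem (hsq _ (S.mul_mem hs hb))
    (conj_mem_of_mem_normalizer' (hn hb) (inv_mem (hsq s hs)))) (inv_mem (hsq b hb))
  simpa [mul_assoc] using this

theorem le_norm_of_sq {G : Type*} [Group G] [Finite G] {S A B : Subgroup G}
    (hn : S ≤ normalizer (A : Set G)) (hsq : ∀ s ∈ S, s * s ∈ A) (h1 : A ≤ B) (h2 : B ≤ S) :
    S ≤ normalizer (B : Set G) := fun s hs => mem_normalizer_fintype fun b hb => by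
  simpa using B.mul_mem (h1 (comm_mem_of_sq hn hsq hs (h2 hb))) hb

namespace BC

variable {G Ω : Type u} [Group G] [Finite G] [MulAction G Ω] {Z : Set G} {n : ℕ}
  (h : BC G Ω Z n)
include h

theorem not_big {w : G} (hw : IsInv w) (hw' : w ∉ Z) : ¬ BigL Ω w := h.false_of_big hw hw'

theorem card_le_two {P : Subgroup G} (hP : IsPGroup 2 P) {α β : Ω} (hne : α ≠ β)
    (h1 : P ≤ stabilizer G α) (h2 : P ≤ stabilizer G β) : Nat.card P ≤ 2 := by
  by_contra! h0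
  obtain ⟨a, ha, b, hb, a1, b1, h3⟩ := exists_two_ne_one h0
  have sq : ∀ x ∈ P, x * x = 1 := fun x hx =>
    h.sq_of_two (isPGroup_zpowers_of_mem hP hx) hne (h1 hx) (h2 hx)
  obtain ⟨h4, h5, -⟩ := h.bad_of ⟨sq b hb, b1⟩ hne (h1 hb) (h2 hb)
  have h6 := comm_of_sq (sq a ha) (sq b hb) (sq _ (P.mul_mem ha hb))
  exact h.not_big h4 h5 ⟨a, ⟨sq a ha, a1⟩, h3, (h.ln b h4 h5).two a (mem_cent.2 h6)
    (isPGroup_zpowers_of_mem hP ha) α (h1 hb) β (h2 hb) hne (h1 ha) (h2 ha), h6⟩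

theorem card_syl_le {S : Subgroup G} (hS : IsPGroup 2 S) : Nat.card S ≤ 2 * (2 ^ n) ^ 3 := by
  have : Fact (Nat.Prime 2) := ⟨Nat.prime_two⟩
  have := h.finite
  obtain ⟨α, hα⟩ := h.exists_stab hS
  obtain ⟨k, hk⟩ := hS.exists_card_eq
  by_contra! h0
  rw [hk, ← pow_mul, ← pow_succ', Nat.pow_lt_pow_iff_right one_lt_two] at h0
  have h1 := Frob.dvd_ncard_of_dvd_index_stabilizer (A := S) (d := 2 ^ (n * 3 + 1)) {α}ᶜ
    (fun s β hβ => smul_ne_of_fix (hα s.2) hβ) fun β hβ => by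
      have h2 := card_mul_index (stabilizer S β)
      have h3 := h.card_le_two (P := (stabilizer S β).map S.subtype)
        ((hS.to_subgroup _).map _) hβ (by rintro _ ⟨x, hx, rfl⟩; exact hx)
        ((map_subtype_le _).trans hα)
      rw [card_map_subtype] at h3
      have h4 : 0 < Nat.card (stabilizer S β) := Nat.card_pos
      have h5 : 2 ^ (n * 3 + 1) * 2 ∣ 2 ^ k := pow_succ 2 _ ▸ Nat.pow_dvd_pow 2 h0
      rw [← hk, ← h2] at h5
      rcases (by omega : Nat.card (stabilizer S β) = 1 ∨ Nat.card (stabilizer S β) = 2) with e | e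
      · rw [e, one_mul] at h5
        exact (Dvd.intro _ rfl).trans h5
      · rw [e, mul_comm] at h5
        exact Nat.dvd_of_mul_dvd_mul_left two_pos h5
  have h2 := Set.ncard_add_ncard_compl ({α} : Set Ω)
  obtain ⟨q, hq⟩ : ∃ q, 2 ^ n = 2 * q + 2 := ⟨2 ^ (n - 1) - 1, by
    have := h.three
    have h3 : 0 < 2 ^ (n - 1) := by positivity
    rw [show n = n - 1 + 1 by omega, pow_succ, Nat.add_sub_cancel]
    omega⟩
  rw [Set.ncard_singleton, h.card_pts, hq, show 2 * q + 2 - 1 = 2 * q + 1 by omega,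
    show ((2 * q + 2) ^ 2 + 1) * ((2 * q + 2) ^ 2 * (2 * q + 1) + 1) =
      1 + (2 * q + 2) ^ 3 * (2 * (2 * q ^ 2 + 3 * q + 1) + 1) by ring, Nat.add_left_cancel_iff] at h2
  rw [h2, pow_succ, pow_mul, hq, Nat.mul_dvd_mul_iff_left (by positivity)] at h1
  omega

section
variable {w : G} (hw : IsInv w) (hw' : w ∉ Z) {T : Subgroup G}
  (hT : IsSylowIn 2 T (centralizer {w}))
include hw hw' hT

theorem eq_of_mem {x : G} (hx : x ∈ T) (h1 : x ∈ Nw Ω w) : x = 1 ∨ x = w := by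
  by_contra! h0
  exact h.not_big hw hw' ⟨x, ⟨h.sq_of_mem hw hw' hT hx h1, h0.1⟩, h0.2, h1, mem_cent.1 (hT.le hx)⟩

theorem card_T : Nat.card T = (2 ^ n) ^ 2 * 2 := by
  rw [(h.ln w hw hw').cT T hT, ← hw.card_zpowers]
  congr 3
  exact le_antisymm (fun x hx => (h.eq_of_mem hw hw' hT hx.1 hx.2).elim
    (fun e => e ▸ one_mem _) fun e => e ▸ mem_zpowers _)
    (zpowers_le.2 ⟨h.mem_T hw hw' hT, mem_Nw_self w⟩)

theorem mem_V {x : G} : x ∈ zs Z T ⊔ zpowers w ↔ x ∈ T ∧ x * x = 1 := by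
  have h0 := h.mem_T hw hw' hT
  refine ⟨fun hx => ⟨sup_le (zs_le Z T) (zpowers_le.2 h0) hx, ?_⟩, fun ⟨hx, h1⟩ => ?_⟩
  · rcases Sig.mem_sup_zpowers_of_sq_mem (h.norm_zs T (le_normalizer h0))
      (hw.1 ▸ one_mem _) hx with e | e
    · exact h.zs_sq hT.isPGroup e
    · have := sq_of_comm (h.zs_sq hT.isPGroup e) hw.1 (h.cen.comm hT.isPGroup h0 e)
      rwa [mul_assoc x, hw.1, mul_one] at this
  obtain ⟨b, hb, h2⟩ := (h.ln w hw hw').lift T hT x hx (h1 ▸ one_mem _)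
  refine (mul_mem_cancel_right (mem_sup_left hb)).1 ?_
  rcases h.eq_of_mem hw hw' hT (T.mul_mem hx (zs_le Z T hb)) h2 with e | e
  · exact e ▸ one_mem _
  · exact e ▸ mem_sup_right (mem_zpowers _)

theorem norm_V : normalizer (T : Set G) ≤ normalizer ((zs Z T ⊔ zpowers w : Subgroup G) : Set G) :=
  fun g hg => mem_normalizer_fintype fun x hx => by
    obtain ⟨h1, h2⟩ := (h.mem_V hw hw' hT).1 hx
    exact (h.mem_V hw hw' hT).2 ⟨conj_mem_of_mem_normalizer hg h1, Invol.conj_mul_self h2 g⟩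

omit hT in
theorem conj_mul_mem {P : Subgroup G} (hP : IsPGroup 2 P) (h1 : w ∈ normalizer (zs Z P : Set G))
    {g : G} (hg : g ∈ normalizer ((zs Z P ⊔ zpowers w : Subgroup G) : Set G)) :
    g * w * g⁻¹ * w⁻¹ ∈ zs Z P := by
  rw [hw.inv_eq]
  exact (Sig.mem_sup_zpowers_of_sq_mem h1 (hw.1 ▸ one_mem _) (conj_mem_of_mem_normalizer hg
    (mem_sup_right (mem_zpowers w)))).resolve_left fun e =>
      hw' (h.conj_iff.1 (h.mem_of_zs hP e (hw.conj g).2))

theorem conj_mul_mem' {g : G} (hg : g ∈ normalizer (T : Set G)) : g * w * g⁻¹ * w⁻¹ ∈ zs Z T :=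
  h.conj_mul_mem hw hw' hT.isPGroup (h.norm_zs T (le_normalizer (h.mem_T hw hw' hT)))
    (h.norm_V hw hw' hT hg)

theorem exists_S : ∃ S, IsSylowIn 2 S ⊤ ∧ T ≤ S ∧ S ≤ normalizer (T : Set G) ∧
    Nat.card S = 2 * (2 ^ n) ^ 3 := by
  have : Fact (Nat.Prime 2) := ⟨Nat.prime_two⟩
  obtain ⟨S, h1, hS⟩ := IsSylowIn.exists_ge hT.isPGroup le_normalizer
  have h2 := Frob.ncard_conj_subgroup (normalizer (T : Set G)) w
  rw [show {y | ∃ x ∈ normalizer (T : Set G), x * w * x⁻¹ = y} = {y | y * w⁻¹ ∈ zs Z T} from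
    Set.ext fun y => ⟨fun ⟨x, hx, e⟩ => e ▸ h.conj_mul_mem' hw hw' hT hx, fun e => by
      obtain ⟨-, g, hg, e'⟩ := h.exists_conj hw hw' hT e
      rw [← h.cen.comm hT.isPGroup (h.mem_T hw hw' hT) e, inv_mul_cancel_right] at e'
      exact ⟨g, hg, e'⟩⟩, ncard_coset, (h.ln w hw hw').cA T hT] at h2
  have h3 : 2 ^ n ∣ T.relIndex S * S.relIndex (normalizer (T : Set G)) := by
    rw [relIndex_mul_relIndex _ _ _ h1 hS.le, h2]
    exact relIndex_dvd_of_le_left _ hT.le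
  have h4 := Nat.le_of_dvd (Nat.pos_of_ne_zero index_ne_zero_of_finite)
    ((((Nat.prime_two.coprime_iff_not_dvd).2 hS.not_dvd).pow_left n).dvd_of_dvd_mul_right h3)
  have h5 : 2 * (2 ^ n) ^ 3 ≤ Nat.card S := by
    rw [← card_mul_relIndex h1, h.card_T hw hw' hT, show 2 * (2 ^ n) ^ 3 = (2 ^ n) ^ 2 * 2 * 2 ^ n by
      ring]
    exact Nat.mul_le_mul_left _ h4
  obtain ⟨S', hS'⟩ := IsSylowIn.exists_in (p := 2) (⊤ : Subgroup G)
  exact ⟨S, hS'.of_card_le hS.isPGroup le_top ((h.card_syl_le hS'.isPGroup).trans h5), h1, hS.le,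
    le_antisymm (h.card_syl_le hS.isPGroup) h5⟩

variable {S : Subgroup G} (hS : IsSylowIn 2 S ⊤) (h1 : T ≤ S) (h2 : S ≤ normalizer (T : Set G))
  (h3 : Nat.card S = 2 * (2 ^ n) ^ 3)
include hS h1 h2 h3

theorem zs_S : zs Z S = zs Z T :=
  h.zs_eq_of_card ((h.ln w hw hw').cA T hT) hS.isPGroup ((zs_le Z T).trans h1)

theorem comm_S {s a : G} (hs : s ∈ S) (ha : a ∈ zs Z T) : a * s = s * a :=
  h.cen.comm hS.isPGroup hs (zs_mono h1 ha)

theorem inf_eq : S ⊓ centralizer {w} = T :=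
  have : Fact (Nat.Prime 2) := ⟨Nat.prime_two⟩
  hT.eq_of_le hS.isPGroup.to_inf_left (le_inf h1 hT.le) inf_le_right

theorem exists_conj_S {a : G} (ha : a ∈ zs Z T) : ∃ s ∈ S, s * w * s⁻¹ = w * a := by
  have h4 := SE.card_inf_mul_relIndex (centralizer {w}) S
  rw [h.inf_eq hw hw' hT hS h1 h2 h3, h.card_T hw hw' hT, h3, ← Frob.ncard_conj_subgroup,
    show 2 * (2 ^ n) ^ 3 = (2 ^ n) ^ 2 * 2 * 2 ^ n by ring,
    Nat.mul_right_inj (by positivity)] at h4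
  refine (Set.eq_of_subset_of_ncard_le (s := {y | ∃ x ∈ S, x * w * x⁻¹ = y})
    (t := {y | y * w⁻¹ ∈ zs Z T}) (fun y ⟨x, hx, e⟩ => e ▸ h.conj_mul_mem' hw hw' hT (h2 hx))
    (by rw [h4, ncard_coset, (h.ln w hw hw').cA T hT])).ge ?_
  change w * a * w⁻¹ ∈ zs Z T
  rwa [← h.cen.comm hT.isPGroup (h.mem_T hw hw' hT) ha, mul_inv_cancel_right]

theorem sq_S {s : G} (hs : s ∈ S) : s * s ∈ zs Z T := by
  have cs := fun a => h.comm_S hw hw' hT hS h1 h2 h3 (a := a) hs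
  have w0 := h.mem_T hw hw' hT
  obtain ⟨a, ha, e⟩ : ∃ a ∈ zs Z T, s * w * s⁻¹ = a * w :=
    ⟨_, h.conj_mul_mem' hw hw' hT (h2 hs), (inv_mul_cancel_right _ _).symm⟩
  have a2 := h.zs_sq hT.isPGroup ha
  have key : ∀ v ∈ T, v * v = 1 → v * (s * v * s⁻¹) = 1 ∨ v * (s * v * s⁻¹) = a := fun v hv e1 => by
    refine (Sig.mem_sup_zpowers_of_sq_mem (h.norm_zs T (le_normalizer w0)) (hw.1 ▸ one_mem _)
      ((h.mem_V hw hw' hT).2 ⟨hv, e1⟩)).imp (fun e2 => ?_) fun e2 => ?_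
    · rw [← cs v e2, mul_inv_cancel_right, e1]
    · have : s * v * s⁻¹ = s * (v * w) * s⁻¹ * (s * w * s⁻¹) := by
        rw [conj_mul, mul_assoc v, hw.1, mul_one]
      rw [this, ← cs _ e2, mul_inv_cancel_right, e, h.cen.comm hT.isPGroup w0 ha, mul_assoc v,
        hw.mul_mul, ← mul_assoc, e1, one_mul]
  have hy : s * s ∈ T := (h.inf_eq hw hw' hT hS h1 h2 h3).le ⟨S.mul_mem hs hs, mem_cent.2 (by
    rw [← mul_inv_eq_iff_eq_mul, show s * s * w * (s * s)⁻¹ = s * (s * w * s⁻¹) * s⁻¹ by group, e,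
      ← mul_assoc, ← cs a ha, mul_assoc a, mul_assoc a, e, ← mul_assoc, a2, one_mul])⟩
  by_cases h4 : s * s * (s * s) = 1
  · exact (h.mem_zs hT.isPGroup).2 ((h.sq_mem h4).imp id fun e => ⟨e, hy⟩)
  exfalso
  have h5 : {y | ∃ x ∈ T, x * (s * s) * x⁻¹ = y} ⊆ {s * s, a * (s * s)} := by
    rintro _ ⟨x, hx, rfl⟩
    have h6 := conj_mem_of_mem_normalizer (h2 hs) (T.inv_mem hx)
    have h7 := key _ (T.mul_mem (T.inv_mem (T.inv_mem hx)) h6) (h.inj hw hw' hT (T.inv_mem hx) h6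
      (by rw [conj_mul, ← cs _ (h.sq_mem_zs hw hw' hT (T.inv_mem hx)), mul_inv_cancel_right]))
    rw [show x⁻¹⁻¹ * (s * x⁻¹ * s⁻¹) * (s * (x⁻¹⁻¹ * (s * x⁻¹ * s⁻¹)) * s⁻¹) =
      x * (s * s) * x⁻¹ * (s * s)⁻¹ by group] at h7
    exact h7.imp mul_inv_eq_one.1 mul_inv_eq_iff_eq_mul.1
  have h6 := (Set.ncard_le_ncard h5).trans (Set.ncard_insert_le _ _)
  rw [Frob.ncard_conj_subgroup, Set.ncard_singleton] at h6
  have h7 := SE.card_inf_mul_relIndex (centralizer {s * s}) T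
  have h8 := card_le_of_le (show T ⊓ centralizer {s * s} ≤ (zs Z T ⊔ zpowers w) ⊔ zpowers (s * s)
    from fun x hx => by
      rcases h.comm_cases hw hw' hT hy hx.1 (mem_cent.1 hx.2).symm with e1 | e1 | e1
      · exact absurd e1 h4
      · exact mem_sup_left ((h.mem_V hw hw' hT).2 ⟨hx.1, e1⟩)
      · exact (mul_mem_cancel_left (inv_mem (mem_sup_right (mem_zpowers _)))).1 (mem_sup_left
          ((h.mem_V hw hw' hT).2 ⟨T.mul_mem (T.inv_mem hy) hx.1, h.inj hw hw' hT hy hx.1 e1⟩)))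
  have h9 := card_sup_zpowers_le (h.norm_V hw hw' hT (le_normalizer hy))
    (mem_sup_left (h.sq_mem_zs hw hw' hT hy))
  have h10 := card_sup_zpowers_le (h.norm_zs T (le_normalizer w0)) (hw.1 ▸ one_mem _)
  have h11 := h.eight
  rw [(h.ln w hw hw').cA T hT] at h10
  rw [h.card_T hw hw' hT] at h7
  have h12 := Nat.mul_le_mul (h8.trans (h9.trans (Nat.mul_le_mul_left 2 h10))) h6
  rw [h7] at h12
  generalize 2 ^ n = q at h11 h12
  nlinarith

theorem norm_S {g : G} (hg : g ∈ normalizer (S : Set G)) : g * w * g⁻¹ * w⁻¹ ∈ zs Z T := by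
  have : Fact (Nat.Prime 2) := ⟨Nat.prime_two⟩
  have w0 := h.mem_T hw hw' hT
  have e0 := h.zs_S hw hw' hT hS h1 h2 h3
  have hA := (zs_le Z T).trans h1
  have hC : S ≤ centralizer (zs Z T : Set G) := fun s hs a ha =>
    h.comm_S hw hw' hT hS h1 h2 h3 hs ha
  have hn : normalizer (S : Set G) ≤ normalizer (zs Z T : Set G) := e0 ▸ h.norm_zs S
  obtain ⟨y, hy, y1, y2⟩ : ∃ y ∈ normalizer (S : Set G), y * w * y⁻¹ * w⁻¹ ∈ zs Z T ∧
      ∀ a ∈ zs Z T, ∀ b ∈ zs Z T, a ≠ 1 → b ≠ 1 → ∃ i : ℕ, y ^ i * a * (y ^ i)⁻¹ = b := by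
    obtain ⟨y, hy, h4⟩ := (h.ln w hw hw').cyc T hT
    obtain ⟨k, hk, h5⟩ := (hS.mono (le_inf hC (h2.trans (h.norm_V hw hw' hT)))
      le_top).frattini_elem (le_normalizer_inf (le_normalizer_centralizer (h.norm_zs T))
        ((h.norm_V hw hw' hT).trans le_normalizer) hy.2)
    refine ⟨_, h5, ?_, fun a ha b hb a1 b1 => (h4 a ha b hb a1 b1).imp fun i e => Eq.trans ?_ e⟩
    · rw [show k * y * w * (k * y)⁻¹ = k * (y * w * y⁻¹) * k⁻¹ by group, conj_eq_of_mem_cent hy.1]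
      exact h.conj_mul_mem hw hw' hT.isPGroup (h.norm_zs T (le_normalizer w0)) hk.2
    clear e
    induction i with
    | zero => simp
    | succ i ih =>
      have := hk.1 _ (conj_mem_of_mem_normalizer (h.norm_zs T (pow_mem hy.2 (i + 1))) ha)
      rw [show (k * y) ^ (i + 1) * a * ((k * y) ^ (i + 1))⁻¹ =
        k * (y * ((k * y) ^ i * a * ((k * y) ^ i)⁻¹) * y⁻¹) * k⁻¹ by
          simp only [pow_succ', mul_inv_rev, mul_assoc], ih, mul_inv_eq_iff_eq_mul, this, pow_succ']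
      group
  set N := normalizer (S : Set G)
  have hSN : S ≤ N := le_normalizer
  have : (S.subgroupOf N).Normal := normal_subgroupOf_of_le_normalizer le_rfl
  have : ((zs Z T).subgroupOf N).Normal := normal_subgroupOf_of_le_normalizer hn
  have inT : ∀ x : N, x ∈ S.subgroupOf N → x * ⟨w, hSN (h1 w0)⟩ = ⟨w, hSN (h1 w0)⟩ * x →
      (x : G) ∈ T := fun x hx e =>
    (h.inf_eq hw hw' hT hS h1 h2 h3).le ⟨hx, mem_cent.2 (congrArg Subtype.val e)⟩
  refine mod_lemma (S := S.subgroupOf N) (A := (zs Z T).subgroupOf N) (w := ⟨w, hSN (h1 w0)⟩)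
    (y := ⟨y, hy⟩) hS.isPGroup.comap_subtype
    (Nat.odd_iff.2 (Nat.two_dvd_ne_zero.1 (hS.mono hSN le_top).not_dvd))
    (fun x hx => hA hx) (fun s hs a ha => Subtype.ext (hC hs a ha))
    (fun a ha => Subtype.ext (h.zs_sq hT.isPGroup ha))
    (fun s hs => h.sq_S hw hw' hT hS h1 h2 h3 hs) h.three
    ((card_subgroupOf_of_le (hA.trans hSN)).trans ((h.ln w hw hw').cA T hT))
    ((card_subgroupOf_of_le hSN).trans h3) (h1 w0)
    (fun e => hw' (h.mem_of_zs hT.isPGroup e hw.2)) (Subtype.ext hw.1) (fun a ha => ?_)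
    (fun x hx z hz e1 e2 e3 => ?_) y1 (fun a ha b hb a1 b1 => ?_) ⟨g, hg⟩
  · obtain ⟨s, hs, e⟩ := h.exists_conj_S hw hw' hT hS h1 h2 h3 ha
    exact ⟨⟨s, hSN hs⟩, hs, Subtype.ext e⟩
  · have h4 := (h.mem_V hw hw' hT).2 ⟨T.mul_mem (T.inv_mem (inT x hx e1)) (inT z hz e2),
      h.inj hw hw' hT (inT x hx e1) (inT z hz e2) (congrArg Subtype.val e3)⟩
    rcases Sig.mem_sup_zpowers_of_sq_mem (h.norm_zs T (le_normalizer w0)) (hw.1 ▸ one_mem _) h4
      with e | e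
    · exact mem_sup_left e
    · exact (mul_mem_cancel_right (mem_sup_right (mem_zpowers _))).1 (mem_sup_left e)
  · exact (y2 a ha b hb (fun e => a1 (Subtype.ext e)) fun e => b1 (Subtype.ext e)).imp
      fun _ e => Subtype.ext e

theorem fusion {g : G} (hg : g * w * g⁻¹ ∈ S) : g * w * g⁻¹ * w⁻¹ ∈ zs Z T := by
  have : Fact (Nat.Prime 2) := ⟨Nat.prime_two⟩
  have hA := (zs_le Z T).trans h1
  have hn : S ≤ normalizer (zs Z T : Set G) := h2.trans (h.norm_zs T)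
  have sq := fun s => h.sq_S hw hw' hT hS h1 h2 h3 (s := s)
  have cA := (h.ln w hw hw').cA T hT
  obtain ⟨k, hk, e⟩ : ∃ k ∈ normalizer (zs Z T : Set G), k * w * k⁻¹ = g * w * g⁻¹ := by
    have h4 := hT.map_conj g
    rw [centralizer_conj] at h4
    have h5 := SE.card_inf_mul_relIndex (centralizer {g * w * g⁻¹}) S
    have h6 := Set.ncard_le_ncard (s := {y | ∃ x ∈ S, x * (g * w * g⁻¹) * x⁻¹ = y})
      (t := {y | y * (g * w * g⁻¹)⁻¹ ∈ zs Z T}) fun y ⟨x, hx, e⟩ => e ▸ comm_mem_of_sq hn sq hx hg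
    rw [Frob.ncard_conj_subgroup, ncard_coset, cA] at h6
    have h7 := h4.of_card_le (Q := S ⊓ centralizer {g * w * g⁻¹}) hS.isPGroup.to_inf_left
      inf_le_right (by
        rw [card_map_conj, h.card_T hw hw' hT]
        refine Nat.le_of_mul_le_mul_right (c := 2 ^ n) ?_ (by positivity)
        rw [show (2 ^ n) ^ 2 * 2 * 2 ^ n = 2 * (2 ^ n) ^ 3 by ring, ← h3, ← h5]
        exact Nat.mul_le_mul_left _ h6)
    obtain ⟨c, hc, h8⟩ := h7.exists_conj_eq h4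
    refine ⟨c * g, mem_normalizer_of_map_conj_eq ?_, ?_⟩
    · rw [← h.zs_map_conj, map_conj_mul, h8]
      exact h.zs_eq_of_card cA h7.isPGroup (le_inf hA fun a ha =>
        mem_cent.2 (h.comm_S hw hw' hT hS h1 h2 h3 hg ha))
    · rw [show c * g * w * (c * g)⁻¹ = c * (g * w * g⁻¹) * c⁻¹ by group, conj_eq_of_mem_cent hc]
  rw [← e] at hg ⊢
  have h4 := le_norm_of_sq hn sq le_sup_left (sup_le hA (zpowers_le.2 hg))
  have h5 := map_normalizer_le' (h2.trans (h.norm_V hw hw' hT)) (MulAut.conj k).toMonoidHom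
  rw [Subgroup.map_sup, map_conj_eq_of_mem_normalizer hk, MonoidHom.map_zpowers] at h5
  obtain ⟨d, hd, h6⟩ := (hS.mono h4 le_top).exists_conj_eq
    ((hS.map_conj_of_mem_normalizer (le_normalizer (mem_top k))).mono h5 le_top)
  have h7 := h.norm_S hw hw' hT hS h1 h2 h3 (g := d * k)
    (mem_normalizer_of_map_conj_eq (by rw [map_conj_mul, h6]))
  have h8 := h.conj_mul_mem (hw.conj k) (mt h.conj_iff.1 hw') hT.isPGroup (hn hg) hd
  have := mul_mem (inv_mem h8) h7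
  simpa [mul_assoc] using this

theorem exists_hom : ∃ f : G →* ℤˣ, f w = -1 := by
  have : Fact (Nat.Prime 2) := ⟨Nat.prime_two⟩
  have hA := (zs_le Z T).trans h1
  have hn : S ≤ normalizer (zs Z T : Set G) := h2.trans (h.norm_zs T)
  have sq := fun s => h.sq_S hw hw' hT hS h1 h2 h3 (s := s)
  obtain ⟨B, -, ⟨b1, b2, b3⟩, hB⟩ := exists_maximal_ge_of_wellFoundedGT
    (fun B : Subgroup G => zs Z T ≤ B ∧ B ≤ S ∧ w ∉ B) (zs Z T)
    ⟨le_rfl, hA, fun e => hw' (h.mem_of_zs hT.isPGroup e hw.2)⟩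
  have h4 : B.relIndex S = 2 := relIndex_eq_two_iff_exists_notMem_and'.2
    ⟨w, h1 (h.mem_T hw hw' hT), b3, fun s hs => or_iff_not_imp_right.2 fun e =>
      (Sig.mem_sup_zpowers_of_sq_mem (le_norm_of_sq hn sq b1 b2 hs) (b1 (sq s hs))
        (by_contra fun e' => e (hB ⟨b1.trans le_sup_left, sup_le b2 (zpowers_le.2 hs), e'⟩
          le_sup_left (mem_sup_right (mem_zpowers s))))).resolve_left b3⟩
  refine H5.exists_hom_eq_neg_one_of_forall_conj_notMem (M := B) ?_ (by rw [pow_two, hw.1])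
    fun g e => b3 ?_
  · have := hS.not_dvd
    rw [relIndex_top_right] at this
    rw [← relIndex_mul_index b2, h4]
    omega
  · have := b1 (h.fusion hw hw' hT hS h1 h2 h3 (g := g⁻¹) (by simpa using b2 e))
    rwa [inv_inv, mul_mem_cancel_left e, inv_mem_iff] at this

end

theorem false : False := by
  have : Fact (Nat.Prime 2) := ⟨Nat.prime_two⟩
  obtain ⟨w, hw, hw'⟩ := h.ex
  obtain ⟨T, hT⟩ := IsSylowIn.exists_in (p := 2) (centralizer ({w} : Set G))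
  obtain ⟨S, hS, h1, h2, h3⟩ := h.exists_S hw hw' hT
  obtain ⟨f, hf⟩ := h.exists_hom hw hw' hT hS h1 h2 h3
  have hZ : ∀ z ∈ Z, z ∈ f.ker := fun z hz => by
    obtain ⟨a, ha, b, hb, -, -, h4, h5⟩ := h.f4_top
    have e : ∀ x ∈ Z, f x = f z := fun x hx => by
      obtain ⟨g, rfl⟩ := h.one hz hx
      rw [map_mul, map_mul, map_inv, mul_inv_cancel_comm]
    have := e _ (h.mul_mem ha hb h5 h4)
    rwa [map_mul, e a ha, e b hb, mul_eq_left] at this
  obtain ⟨α, hα⟩ := h.exists_stab hS.isPGroup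
  have h4 : zs Z S ≤ f.ker := (closure_le _).2 fun z hz => hZ z hz.1
  have h5 : orbit f.ker α = Set.univ := Set.eq_univ_of_forall fun β => by
    by_cases e : α = β
    · exact e ▸ mem_orbit_self α
    obtain ⟨a, ha, a1⟩ := h.exists_fix α
    obtain ⟨b, hb, b1⟩ := h.exists_fix β
    obtain ⟨t, -, t1, -, t2, -⟩ := h.exists_swap' ha hb a1 b1 e (hZ a ha) (hZ b hb)
    exact ⟨⟨t, t1⟩, t2⟩
  obtain ⟨m, L⟩ := h.toCtx.ln (X := f.ker) (α := α)
    (fun e => absurd (hf.symm.trans (e.ge (mem_top w))) (by decide))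
    (fun e => by
      obtain ⟨β, hβ⟩ := h.exists_ne α
      obtain ⟨g, rfl⟩ := h5.ge (Set.mem_univ β)
      exact hβ (e g.2))
    ((h.f4_of_card hS.isPGroup le_rfl ((h.four_le hS h.f4_top).trans_lt' (by norm_num))).mono
      (le_inf h4 ((zs_le Z S).trans hα)))
  obtain ⟨P, h6, hP⟩ := IsSylowIn.exists_ge (hS.isPGroup.to_le (zs_le Z S)) h4
  have h7 := L.cA P hP
  have h8 := L.card
  have h9 := h.eight
  rw [h.zs_eq_of_card (h.cA S hS) hP.isPGroup h6, h.cA S hS] at h7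
  rw [h5, Set.ncard_univ, h.card_pts, ← h7, mul_eq_left₀ (by positivity), add_eq_right,
    mul_eq_zero, pow_eq_zero_iff two_ne_zero] at h8
  omega

end BC

end CfsgLib.GO
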