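import Cfsg.Agent.Lib.GOB.ZS
import Cfsg.Agent.Lib.Suz.SzTheta

/-!
# The Sylow `2`-subgroup of an `S₃`-free rank one group
-/

set_option autoImplicit false
set_option linter.unusedSectionVars false

namespace CfsgLib.GO

open Subgroup MulAction Cfsg CfsgLib.H1 CfsgLib.SE CfsgLib.Suz

variable {K : Type*} [Group K] [Finite K] {H Q : Subgroup K} {t : K}

/-- The facts needed on `Q`. -/
structure SzQ (H Q : Subgroup K) (n : ℕ) : Prop where
  p2 : IsPGroup 2 Q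
  odd : Odd n
  three : 3 ≤ n
  c0 : Nat.card (Q0g Q) = 2 ^ n
  c1 : Nat.card Q = (2 ^ n) ^ 2
  sq : ∀ x ∈ Q, x * x * (x * x) = 1
  inj : ∀ x ∈ Q, ∀ y ∈ Q, x * x = y * y → x⁻¹ * y * (x⁻¹ * y) = 1
  comm : ∀ x ∈ Q, ∀ y ∈ Q, x * y = y * x → x * x = 1 ∨ y * y = 1 ∨ x * x = y * y
  cyc : ∃ k ∈ H, ∀ a ∈ Q, ∀ b ∈ Q, IsInv a → IsInv b → ∃ i : ℕ, k ^ i * a * (k ^ i)⁻¹ = b

theorem exists_szQ (h3 : S3F K) (R : RO H Q t) (h2 : Rank2 Q) : ∃ n, SzQ H Q n := by
  obtain ⟨s, r, hs⟩ := R.exists_dist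
  have hne := h3.r_ne_s R hs
  obtain ⟨hp, h | ⟨hna, hc, hr⟩ | ⟨-, -, hr, -⟩⟩ := R.suzuki h2 hs
  · exact absurd (R.r_eq_s hs (h r hs.r_mem)) hne
  swap
  · exact absurd hr hne
  obtain ⟨n, hn, hq⟩ := R.exists_card_Q0 h2
  have ho := R.odd_of_order_four h2 hs hr hq
  obtain ⟨F, _, _, _, θ, χ, e, -, C, hθ⟩ := R.exists_coord_sz h2 hp hna hc hs hr
  have sq : ∀ a b, e a b * e a b = e 0 (a * θ a) := fun a b => by
    rw [C.mul, CharTwo.add_self_eq_zero, CharTwo.add_self_eq_zero, zero_add]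
  have z : ∀ b, e 0 b * e 0 b = 1 := fun b => by rw [sq, zero_mul, C.e_zero]
  refine ⟨n, hp, ho, ?_, hq, by rw [hc, hq], fun x hx => ?_, fun x hx y hy e1 => ?_,
    fun x hx y hy e1 => ?_, ?_⟩
  · obtain ⟨k, rfl⟩ := ho
    omega
  · obtain ⟨a, b, rfl⟩ := C.surj x hx
    rw [sq, z]
  · obtain ⟨a, b, rfl⟩ := C.surj x hx
    obtain ⟨c, d, rfl⟩ := C.surj y hy
    rw [sq, sq] at e1
    obtain rfl : a = c := C.N_inj R hs (C.inj _ _ _ _ e1).2
    rw [C.e_inv, C.mul, CharTwo.add_self_eq_zero, z]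
  · obtain ⟨a, b, rfl⟩ := C.surj x hx
    obtain ⟨c, d, rfl⟩ := C.surj y hy
    by_cases ha : a = 0
    · exact Or.inl (ha ▸ z b)
    by_cases hc0 : c = 0
    · exact Or.inr (Or.inl (hc0 ▸ z d))
    rw [C.mul, C.mul] at e1
    have e2 : a * θ c = c * θ a := by linear_combination (C.inj _ _ _ _ e1).2
    have e3 : θ (a / c) = a / c := by
      have : θ c ≠ 0 := (map_ne_zero θ).2 hc0
      rw [map_div₀, div_eq_div_iff this hc0]
      linear_combination -e2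
    have e4 := hθ (a / c)
    rw [e3, e3, pow_two, eq_comm, mul_eq_left₀ (div_ne_zero ha hc0), div_eq_one_iff_eq hc0] at e4
    rw [sq, sq, e4]
    exact Or.inr (Or.inr rfl)
  · obtain ⟨k, hk⟩ := R.exists_K_eq_zpowers h2
    refine ⟨k, Dg_le ((hk k).2 (mem_zpowers k)).1, fun a ha b hb h1 h4 => ?_⟩
    obtain ⟨x, hx, rfl⟩ := R.exists_K_conj hs ha h1.2 h1.1
    obtain ⟨y, hy, rfl⟩ := R.exists_K_conj hs hb h4.2 h4.1
    obtain ⟨i, hi⟩ := mem_powers_iff_mem_zpowers.2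
      (mul_mem (inv_mem ((hk y).1 hy)) ((hk x).1 hx))
    exact ⟨i, by rw [show k ^ i = y⁻¹ * x from hi]; group⟩

theorem comm_of_sq_comm {h x : K} (ho : Odd (orderOf h)) (e : h * h * x = x * (h * h)) :
    h * x = x * h :=
  mem_centralizer_singleton_iff.1 (mem_of_sq_mem ho (mem_centralizer_singleton_iff.2 e))

theorem SzQ.eq_one {n : ℕ} (S : SzQ H Q n) (R : RO H Q t) (hc : H.normalCore = ⊥) {h : K}
    (hh : h ∈ H) (ho : Odd (orderOf h)) (h0 : ∀ a ∈ Q, a * a = 1 → h * a = a * h) : h = 1 := by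
  have key : ∀ x ∈ Q, h * x = x * h := fun x hx => by
    have h1 := R.norm' hh hx
    have h2 := S.inj x hx _ h1 (by
      rw [conj_mul, h0 _ (mul_mem hx hx) (S.sq x hx), mul_inv_cancel_right])
    have h3 := h0 _ (mul_mem (inv_mem hx) h1) h2
    refine comm_of_sq_comm ho ?_
    set c := x⁻¹ * (h * x * h⁻¹) with hc
    have h4 : h * x = x * c * h := by rw [hc]; group
    calc h * h * x = h * (x * c * h) := by rw [mul_assoc, h4]
      _ = h * x * c * h := by group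
      _ = x * c * (h * c) * h := by rw [h4]; group
      _ = x * (c * c) * (h * h) := by rw [h3]; group
      _ = x * (h * h) := by rw [h2, mul_one]
  obtain ⟨x, hx, d, hd, e⟩ := R.dec h hh
  have h5 : d = x⁻¹ * h := by rw [e]; group
  have h6 : Commute h d := by
    rw [h5]
    exact ((show Commute h x from key x hx).inv_right).mul_right (Commute.refl h)
  have h7 : x = 1 := by
    refine eq_one_of_odd_pow (isPGroup_zpowers_of_mem S.p2 hx) (ho.mul R.odd) ?_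
    rw [show x = h * d⁻¹ by rw [e]; group, h6.inv_right.mul_pow, pow_mul, pow_orderOf_eq_one,
      one_pow, one_mul, mul_comm, pow_mul, inv_pow, R.D_pow hd, inv_one, one_pow]
  rw [h7, one_mul] at e
  exact hc.le (R.mem_normalCore_iff.2 ⟨e ▸ hd, fun y hy => (key y hy).symm⟩)

end CfsgLib.GO
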