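import Cfsg.Agent.Lib.GOB.Count

/-!
# The Sylow `2`-subgroup of the centralizer of a bad involution
-/

set_option autoImplicit false
set_option linter.unusedSectionVars false

namespace CfsgLib.GO

open Subgroup MulAction Cfsg CfsgLib.H1 CfsgLib.SE CfsgLib.Suz

universe u

/-- The pointwise stabilizer of the fixed points of `w`. -/
abbrev Nw {G : Type*} [Group G] (Ω : Type*) [MulAction G Ω] (w : G) : Subgroup G :=
  Nf G (fixedBy Ω w)

section
variable {G Ω : Type*} [Group G] [MulAction G Ω]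

theorem mem_Nw_self (w : G) : w ∈ Nw Ω w := mem_Nf.2 fun _ h => h

theorem conj_mem_Nw {g x w : G} (h : x ∈ Nw Ω w) : g * x * g⁻¹ ∈ Nw Ω (g * w * g⁻¹) :=
  mem_Nf.2 fun β hβ => by
    obtain ⟨β, rfl⟩ := MulAction.surjective g β
    exact conj_smul_eq (mem_Nf.1 h β (conj_smul_iff.1 hβ))

theorem cent_le_norm_Nw [Finite G] (w : G) :
    centralizer {w} ≤ normalizer (Nw Ω w : Set G) := fun g hg =>
  mem_normalizer_fintype fun x hx => by
    have := conj_mem_Nw (g := g) hx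
    rwa [conj_eq_of_mem_cent hg] at this

theorem centralizer_conj (g w : G) :
    (centralizer {w}).map (MulAut.conj g).toMonoidHom = centralizer {g * w * g⁻¹} := by
  ext x
  rw [mem_map_conj_iff, mem_cent, mem_cent]
  constructor
  · intro e
    calc x * (g * w * g⁻¹) = g * (g⁻¹ * x * g * w) * g⁻¹ := by group
      _ = _ := by rw [e]; group
  · intro e
    calc g⁻¹ * x * g * w = g⁻¹ * (x * (g * w * g⁻¹)) * g := by group
      _ = _ := by rw [e]; group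

theorem comm_mem_of_norm {N : Subgroup G} {t x : G} (ht : t ∈ normalizer (N : Set G))
    (hx : x ∈ N) : t * x * t⁻¹ * x⁻¹ ∈ N :=
  N.mul_mem (conj_mem_of_mem_normalizer ht hx) (N.inv_mem hx)

end

namespace BC

variable {G Ω : Type u} [Group G] [Finite G] [MulAction G Ω] {Z : Set G} {n : ℕ}
  (h : BC G Ω Z n)
include h

theorem fix_eq {w x : G} (hw : IsInv w) (hw' : w ∉ Z) (hx : IsInv x) (h1 : x ∈ Nw Ω w) :
    x ∉ Z ∧ fixedBy Ω x = fixedBy Ω w := by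
  have := h.finite
  have h2 : x ∉ Z := fun e => h.not_mem_Nf hw hw' e h1
  exact ⟨h2, (Set.eq_of_subset_of_ncard_le (mem_Nf.1 h1)
    ((h.ln x hx h2).card.trans (h.ln w hw hw').card.symm).le).symm⟩

section
variable {w : G} (hw : IsInv w) (hw' : w ∉ Z) {T : Subgroup G}
  (hT : IsSylowIn 2 T (centralizer {w}))
include hw hw' hT

theorem mem_T : w ∈ T := mem_of_sylow hT hw (mem_cent.2 rfl) hT.le

theorem mul_bad {a : G} (ha : a ∈ zs Z T) : IsInv (w * a) ∧ w * a ∉ Z :=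
  h.mul_not_mem hw hw' (((h.mem_zs hT.isPGroup).1 ha).imp id And.left)
    (mem_cent.1 (hT.le (zs_le Z T ha)))

theorem le_cent_mul {a : G} (ha : a ∈ zs Z T) : T ≤ centralizer {w * a} := fun x hx =>
  mem_cent.2 (by rw [← mul_assoc, mem_cent.1 (hT.le hx), mul_assoc, mul_assoc,
    h.cen.comm hT.isPGroup hx ha])

theorem eq_one_of_mem {a : G} (ha : a ∈ zs Z T) (h1 : a ∈ Nw Ω w) : a = 1 :=
  by_contra fun e => h.not_mem_Nf hw hw' (h.mem_of_zs hT.isPGroup ha e) h1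

theorem exists_third (a b : G) : ∃ c ∈ zs Z T, c ≠ 1 ∧ c ≠ a ∧ c ≠ b := by
  by_contra! e
  have h1 : (zs Z T : Set G) ⊆ {1, a, b} := fun c hc => by
    by_cases h2 : c = 1
    · exact Or.inl h2
    by_cases h3 : c = a
    · exact Or.inr (Or.inl h3)
    · exact Or.inr (Or.inr (e c hc h2 h3))
  have h2 := Set.ncard_le_ncard h1
  have h3 := Set.ncard_insert_le 1 ({a, b} : Set G)
  have h4 := Set.ncard_insert_le a ({b} : Set G)
  rw [Set.ncard_singleton] at h4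
  have h5 := h.eight
  rw [← (h.ln w hw hw').cA T hT, ← SetLike.coe_sort_coe, Nat.card_coe_set_eq] at h5
  omega

theorem exists_conj {a : G} (ha : a ∈ zs Z T) :
    IsSylowIn 2 T (centralizer {w * a}) ∧ ∃ g ∈ normalizer (T : Set G), g * w * g⁻¹ = w * a := by
  have : Fact (Nat.Prime 2) := ⟨Nat.prime_two⟩
  have key : ∀ v, IsInv v → v ∉ Z → T ≤ centralizer {v} → ∀ b ∈ zs Z T, ∀ c ∈ zs Z T, b ≠ 1 →
      c ≠ 1 → ∃ g, g * (v * b) * g⁻¹ = v * c := fun v hv hv' h1 b hb c hc b1 c1 => by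
    have h2 := h.mem_of_zs hT.isPGroup hb b1
    obtain ⟨α, h3⟩ := h.fix h2
    obtain ⟨g, hg, rfl⟩ := h.exists_conj_in (h.cent_not_le (h.bad hv hv') α) h2 (h1 (zs_le Z T hb))
      h3 (h.mem_of_zs hT.isPGroup hc c1) (h1 (zs_le Z T hc))
    exact ⟨g, by rw [← mul_assoc, mem_cent.1 hg]; group⟩
  obtain ⟨g, hg⟩ : ∃ g, g * w * g⁻¹ = w * a := by
    by_cases a1 : a = 1
    · exact ⟨1, by simp [a1]⟩
    obtain ⟨b, hb, b1, b2, -⟩ := h.exists_third hw hw' hT a a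
    have h1 : a * b ≠ 1 := fun e => b2 (by
      rw [eq_inv_of_mul_eq_one_right e, Invol.inv_eq (h.zs_sq hT.isPGroup ha)])
    obtain ⟨g, hg⟩ := key _ (h.mul_bad hw hw' hT ha).1 (h.mul_bad hw hw' hT ha).2
      (h.le_cent_mul hw hw' hT ha) a ha b hb a1 b1
    obtain ⟨k, hk⟩ := key w hw hw' hT.le _ (mul_mem ha hb) a ha h1 a1
    rw [mul_assoc w, h.zs_sq hT.isPGroup ha, mul_one, mul_assoc w] at hg
    exact ⟨k * g, by rw [← hk, ← hg]; group⟩
  have h1 := hT.map_conj g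
  rw [centralizer_conj, hg] at h1
  have h2 := h1.of_card_le hT.isPGroup (h.le_cent_mul hw hw' hT ha) (card_map_conj g T).le
  obtain ⟨c, hc, h3⟩ := h2.exists_conj_eq h1
  refine ⟨h2, c * g, mem_normalizer_of_map_conj_eq (by rw [map_conj_mul, h3]), ?_⟩
  rw [show c * g * w * (c * g)⁻¹ = c * (g * w * g⁻¹) * c⁻¹ by group, hg, conj_eq_of_mem_cent hc]

theorem disj {a b : G} (ha : a ∈ zs Z T) (hb : b ∈ zs Z T) (hne : a ≠ b) {x : G} (hx : x ∈ T)
    (h1 : x ∈ Nw Ω (w * a)) (h2 : x ∈ Nw Ω (w * b)) : x = 1 := by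
  by_contra h0
  obtain ⟨j, hj⟩ := exists_invol_of_two (isPGroup_zpowers_of_mem hT.isPGroup hx) h0
  obtain ⟨a1, a2⟩ := h.mul_bad hw hw' hT ha
  obtain ⟨b1, b2⟩ := h.mul_bad hw hw' hT hb
  have h3 := mem_Nw_self (Ω := Ω) (w * b)
  rw [Nw, ← (h.fix_eq b1 b2 hj (pow_mem h2 j)).2, (h.fix_eq a1 a2 hj (pow_mem h1 j)).2] at h3
  have h4 := mul_mem (inv_mem (mem_Nw_self (Ω := Ω) (w * a))) h3
  rw [mul_inv_rev, mul_assoc, inv_mul_cancel_left] at h4
  exact hne (inv_mul_eq_one.1 (h.eq_one_of_mem a1 a2 (h.exists_conj hw hw' hT ha).1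
    (mul_mem (inv_mem ha) hb) h4))

theorem disj' {a : G} (ha : a ∈ zs Z T) (hne : a ≠ 1) {x : G} (hx : x ∈ T)
    (h1 : x ∈ Nw Ω w) (h2 : x ∈ Nw Ω (w * a)) : x = 1 :=
  h.disj hw hw' hT (one_mem _) ha hne.symm hx (by rwa [mul_one]) h2

/-- A property holding modulo every line kernel. -/
theorem eq_one_of_all {x : G} (hx : x ∈ T) (h1 : ∀ v, IsInv v → v ∉ Z →
    IsSylowIn 2 T (centralizer {v}) → x ∈ Nw Ω v) : x = 1 := by
  obtain ⟨a, ha, a1, -⟩ := h.exists_third hw hw' hT 1 1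
  exact h.disj' hw hw' hT ha a1 hx (h1 w hw hw' hT) (h1 _ (h.mul_bad hw hw' hT ha).1
    (h.mul_bad hw hw' hT ha).2 (h.exists_conj hw hw' hT ha).1)

theorem central {x t : G} (hx : x ∈ T) (h1 : x * x = 1) (ht : t ∈ T) : t * x = x * t := by
  refine mul_inv_eq_iff_eq_mul.1 (mul_inv_eq_one.1 (h.eq_one_of_all hw hw' hT
    (comm_mem_of_norm (le_normalizer ht) hx) fun v hv hv' hT' => ?_))
  obtain ⟨b, hb, h2⟩ := (h.ln v hv hv').lift T hT' x hx (by rw [h1]; exact one_mem _)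
  have := comm_mem_of_norm (cent_le_norm_Nw v (hT'.le ht)) h2
  rwa [← mul_assoc, mul_assoc _ b, h.cen.comm hT.isPGroup (inv_mem ht) hb, mul_inv_rev,
    ← mul_assoc, ← mul_assoc, mul_inv_cancel_right] at this

theorem sq_of_mem {x : G} (hx : x ∈ T) (h1 : x ∈ Nw Ω w) : x * x = 1 := by
  by_contra h0
  obtain ⟨b, hb, b1, -⟩ := h.exists_third hw hw' hT 1 1
  obtain ⟨-, g, hg, e⟩ := h.exists_conj hw hw' hT hb
  have h2 := conj_mem_Nw (g := g) h1
  have h3 := conj_mem_of_mem_normalizer hg hx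
  have h4 : g * x * g⁻¹ * (g * x * g⁻¹) ≠ 1 := by rwa [conj_mul, Ne, conj_eq_one_iff]
  rw [e] at h2
  generalize g * x * g⁻¹ = y at h2 h3 h4
  have h5 : x * y * x⁻¹ * y⁻¹ = 1 := by
    refine h.disj' hw hw' hT hb b1 (comm_mem_of_norm (le_normalizer hx) h3) ?_
      (comm_mem_of_norm (cent_le_norm_Nw _ (h.le_cent_mul hw hw' hT hb hx)) h2)
    have := inv_mem (comm_mem_of_norm (cent_le_norm_Nw _ (hT.le h3)) h1)
    rwa [show (y * x * y⁻¹ * x⁻¹)⁻¹ = x * y * x⁻¹ * y⁻¹ by group] at this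
  rw [mul_inv_eq_one, mul_inv_eq_iff_eq_mul] at h5
  have key : ∀ a ∈ zs Z T, a ≠ 1 → a ≠ b → (x * x)⁻¹ * (y * y) ∈ Nw Ω (w * a) :=
    fun a ha a1 a2 => by
      obtain ⟨c1, c2⟩ := h.mul_bad hw hw' hT ha
      refine (((h.ln _ c1 c2).comm T (h.le_cent_mul hw hw' hT ha) hT.isPGroup x hx y h3
        (by rw [h5, inv_mul_cancel]; exact one_mem _)).resolve_left fun e => h0 ?_).resolve_left
        fun e => h4 ?_
      · exact h.disj' hw hw' hT ha a1 (T.mul_mem hx hx) (mul_mem h1 h1) e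
      · exact h.disj hw hw' hT ha hb a2 (T.mul_mem h3 h3) e (mul_mem h2 h2)
  obtain ⟨a, ha, a1, a2, -⟩ := h.exists_third hw hw' hT b b
  obtain ⟨c, hc, c1, c2, c3⟩ := h.exists_third hw hw' hT b a
  have h6 := inv_mul_eq_one.1 (h.disj hw hw' hT hc ha c3
    (T.mul_mem (T.inv_mem (T.mul_mem hx hx)) (T.mul_mem h3 h3)) (key c hc c1 c2) (key a ha a1 a2))
  exact h0 (h.disj' hw hw' hT hb b1 (T.mul_mem hx hx) (mul_mem h1 h1) (h6 ▸ mul_mem h2 h2))

end

theorem sq_of_two {x : G} (hp : IsPGroup 2 (zpowers x)) {α β : Ω} (hne : α ≠ β) (h1 : x • α = α)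
    (h2 : x • β = β) : x * x = 1 := by
  have : Fact (Nat.Prime 2) := ⟨Nat.prime_two⟩
  by_cases h0 : x = 1
  · rw [h0, one_mul]
  obtain ⟨j, hj⟩ := exists_invol_of_two hp h0
  have h3 := pow_smul_eq h1 j
  have h4 := pow_smul_eq h2 j
  have h5 := (h.bad_of hj hne h3 h4).2.1
  have h6 : x ∈ centralizer {x ^ j} := mem_cent.2 ((Commute.refl x).pow_right j).eq
  obtain ⟨T, h7, hT⟩ := IsSylowIn.exists_ge hp (zpowers_le.2 h6)
  exact h.sq_of_mem hj h5 hT (h7 (mem_zpowers x))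
    ((h.ln _ hj h5).two x h6 hp α h3 β h4 hne h1 h2)

theorem sq_mem {s : G} (h1 : s * s * (s * s) = 1) : s * s = 1 ∨ s * s ∈ Z := by
  have : Fact (Nat.Prime 2) := ⟨Nat.prime_two⟩
  by_contra! h0
  have hp : IsPGroup 2 (zpowers s) := IsPGroup.of_card_dvd_pow (n := 2) (by
    rw [Nat.card_zpowers]
    exact orderOf_dvd_of_pow_eq_one (by rw [← h1, ← pow_two, ← pow_two, ← pow_mul]; rfl))
  obtain ⟨T, h2, hT⟩ := IsSylowIn.exists_ge hp (H := centralizer {s * s})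
    (zpowers_le.2 (mem_cent.2 (mul_assoc _ _ _).symm))
  have h3 := h2 (mem_zpowers s)
  obtain ⟨b, hb, h4⟩ := (h.ln _ ⟨h1, h0.1⟩ h0.2).lift T hT s h3 (mem_Nw_self _)
  have := h.sq_of_mem ⟨h1, h0.1⟩ h0.2 hT (T.mul_mem h3 (zs_le Z T hb)) h4
  rw [← mul_assoc, mul_assoc s b, h.cen.comm hT.isPGroup h3 hb, ← mul_assoc, mul_assoc _ b,
    h.zs_sq hT.isPGroup hb, mul_one] at this
  exact h0.1 this

section
variable {w : G} (hw : IsInv w) (hw' : w ∉ Z) {T : Subgroup G}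
  (hT : IsSylowIn 2 T (centralizer {w}))
include hw hw' hT

theorem sq_mem_zs {s : G} (hs : s ∈ T) : s * s ∈ zs Z T :=
  (h.mem_zs hT.isPGroup).2 ((h.sq_mem (h.eq_one_of_all hw hw' hT
    (T.mul_mem (T.mul_mem hs hs) (T.mul_mem hs hs)) fun v hv hv' hT' =>
      (h.ln v hv hv').sq s (hT'.le hs) (isPGroup_zpowers_of_mem hT.isPGroup hs))).imp id
    fun e => ⟨e, T.mul_mem hs hs⟩)

theorem inj {x y : G} (hx : x ∈ T) (hy : y ∈ T) (e : x * x = y * y) :
    x⁻¹ * y * (x⁻¹ * y) = 1 :=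
  h.eq_one_of_all hw hw' hT (T.mul_mem (T.mul_mem (T.inv_mem hx) hy) (T.mul_mem (T.inv_mem hx) hy))
    fun v hv hv' hT' => (h.ln v hv hv').inj T hT'.le hT.isPGroup x hx y hy
      (by rw [e, inv_mul_cancel]; exact one_mem _)

theorem comm_cases {x y : G} (hx : x ∈ T) (hy : y ∈ T) (e : x * y = y * x) :
    x * x = 1 ∨ y * y = 1 ∨ x * x = y * y :=
  ((h.ln w hw hw').comm T hT.le hT.isPGroup x hx y hy
    (by rw [e, inv_mul_cancel]; exact one_mem _)).imp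
    (h.eq_one_of_mem hw hw' hT (h.sq_mem_zs hw hw' hT hx)) (Or.imp
      (h.eq_one_of_mem hw hw' hT (h.sq_mem_zs hw hw' hT hy)) fun e => inv_mul_eq_one.1
        (h.eq_one_of_mem hw hw' hT (mul_mem (inv_mem (h.sq_mem_zs hw hw' hT hx))
          (h.sq_mem_zs hw hw' hT hy)) e))

end

end BC

end CfsgLib.GO
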