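import Cfsg.Agent.Lib.GOB.Defs
import Cfsg.Agent.Lib.SE.Main
import Cfsg.Agent.Lib.SE.Free

/-!
# Product closed sets of involutions with unique fixed points
-/

set_option autoImplicit false
set_option linter.unusedSectionVars false

namespace CfsgLib.GO

open Subgroup MulAction Cfsg CfsgLib.H1 CfsgLib.SE

variable {G : Type*} [Group G]

/-- A normal set of involutions closed under products inside `2`-subgroups. -/
structure ZC (Z : Set G) : Prop where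
  inv : ∀ z ∈ Z, IsInv z
  conj : ∀ z ∈ Z, ∀ g : G, g * z * g⁻¹ ∈ Z
  two : ∀ z ∈ Z, ∀ w ∈ Z, IsPGroup 2 (zpowers (z * w)) → z * w = 1 ∨ z * w ∈ Z

/-- The subgroup generated by the elements of `Z` in `P`. -/
def zs (Z : Set G) (P : Subgroup G) : Subgroup G := closure (Z ∩ P)

/-- `X` contains two commuting elements of `Z`. -/
def F4 (Z : Set G) (X : Subgroup G) : Prop :=
  ∃ a ∈ Z, ∃ b ∈ Z, a ∈ X ∧ b ∈ X ∧ a ≠ b ∧ a * b = b * a

theorem F4.mono {Z : Set G} {X Y : Subgroup G} (h : F4 Z X) (hle : X ≤ Y) : F4 Z Y :=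
  let ⟨a, ha, b, hb, h1, h2, h3⟩ := h
  ⟨a, ha, b, hb, hle h1, hle h2, h3⟩

theorem zs_le (Z : Set G) (P : Subgroup G) : zs Z P ≤ P := (closure_le _).2 fun _ h => h.2

theorem mem_zs_of {Z : Set G} {P : Subgroup G} {z : G} (h1 : z ∈ Z) (h2 : z ∈ P) : z ∈ zs Z P :=
  subset_closure ⟨h1, h2⟩

theorem zs_mono {Z : Set G} {P Q : Subgroup G} (h : P ≤ Q) : zs Z P ≤ zs Z Q :=
  closure_mono fun _ hx => ⟨hx.1, h hx.2⟩

theorem isPGroup_zpowers_of_mem {p : ℕ} {P : Subgroup G} (hP : IsPGroup p P) {x : G}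
    (hx : x ∈ P) : IsPGroup p (zpowers x) := hP.to_le (zpowers_le.2 hx)

theorem eq_one_of_odd_pow {y : G} (hp : IsPGroup 2 (zpowers y)) {m : ℕ} (hm : Odd m)
    (h : y ^ m = 1) : y = 1 := by
  obtain ⟨k, hk⟩ := hp ⟨y, mem_zpowers y⟩
  exact orderOf_eq_one_iff.1 (Nat.eq_one_of_dvd_coprimes
    ((Nat.coprime_two_left.2 hm).pow_left k)
    (orderOf_dvd_of_pow_eq_one (congrArg Subtype.val hk)) (orderOf_dvd_of_pow_eq_one h))

theorem comm_of_sq {a b : G} (ha : a * a = 1) (hb : b * b = 1) (h : a * b * (a * b) = 1) :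
    a * b = b * a := by
  have := inv_eq_of_mul_eq_one_right h
  rw [mul_inv_rev, Invol.inv_eq ha, Invol.inv_eq hb] at this
  exact this.symm

theorem sq_of_comm {a b : G} (ha : a * a = 1) (hb : b * b = 1) (h : a * b = b * a) :
    a * b * (a * b) = 1 := by
  calc a * b * (a * b) = a * (b * a) * b := by simp only [mul_assoc]
    _ = 1 := by rw [← h, ← mul_assoc, ha, one_mul, hb]

namespace ZC

variable {Z : Set G} (h : ZC Z)
include h

theorem sq {z : G} (hz : z ∈ Z) : z * z = 1 := (h.inv z hz).1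

theorem ne_one {z : G} (hz : z ∈ Z) : z ≠ 1 := (h.inv z hz).2

theorem conj' {z : G} (hz : z ∈ Z) (g : G) : g⁻¹ * z * g ∈ Z := by
  simpa using h.conj z hz g⁻¹

theorem conj_iff {z g : G} : g * z * g⁻¹ ∈ Z ↔ z ∈ Z :=
  ⟨fun h1 => by simpa [mul_assoc] using h.conj' h1 g, fun h1 => h.conj z h1 g⟩

theorem mul_of_comm {z w : G} (hz : z ∈ Z) (hw : w ∈ Z) (hc : z * w = w * z) :
    z * w = 1 ∨ z * w ∈ Z :=
  h.two z hz w hw (Invol.isPGroup_zpowers (sq_of_comm (h.sq hz) (h.sq hw) hc))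

theorem mul_mem {z w : G} (hz : z ∈ Z) (hw : w ∈ Z) (hc : z * w = w * z) (hne : z ≠ w) :
    z * w ∈ Z :=
  (h.mul_of_comm hz hw hc).resolve_left fun e => hne (by
    rw [← (h.inv w hw).inv_eq]; exact eq_inv_of_mul_eq_one_left e)

theorem comm_of_two {z w : G} (hz : z ∈ Z) (hw : w ∈ Z) (hp : IsPGroup 2 (zpowers (z * w))) :
    z * w = w * z :=
  comm_of_sq (h.sq hz) (h.sq hw) ((h.two z hz w hw hp).elim (fun e => by rw [e, one_mul]) h.sq)

theorem mem_zs {P : Subgroup G} (hP : IsPGroup 2 P) {x : G} :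
    x ∈ zs Z P ↔ x = 1 ∨ (x ∈ Z ∧ x ∈ P) := by
  refine ⟨fun hx => ?_, fun hx => hx.elim (fun e => e ▸ one_mem _) fun e => mem_zs_of e.1 e.2⟩
  induction hx using closure_induction with
  | mem x hx => exact Or.inr hx
  | one => exact Or.inl rfl
  | mul x y _ _ hx hy =>
    rcases hx with rfl | hx
    · rwa [one_mul]
    rcases hy with rfl | hy
    · rw [mul_one]; exact Or.inr hx
    exact (h.two x hx.1 y hy.1 (isPGroup_zpowers_of_mem hP (P.mul_mem hx.2 hy.2))).imp id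
      fun e => ⟨e, P.mul_mem hx.2 hy.2⟩
  | inv x _ hx =>
    rcases hx with rfl | hx
    · exact Or.inl inv_one
    · rw [(h.inv x hx.1).inv_eq]; exact Or.inr hx

theorem mem_of_zs {P : Subgroup G} (hP : IsPGroup 2 P) {x : G} (hx : x ∈ zs Z P) (h1 : x ≠ 1) :
    x ∈ Z := (((h.mem_zs hP).1 hx).resolve_left h1).1

theorem zs_sq {P : Subgroup G} (hP : IsPGroup 2 P) {x : G} (hx : x ∈ zs Z P) : x * x = 1 :=
  ((h.mem_zs hP).1 hx).elim (fun e => by rw [e, one_mul]) fun e => h.sq e.1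

theorem zs_comm {P : Subgroup G} (hP : IsPGroup 2 P) {x y : G} (hx : x ∈ zs Z P)
    (hy : y ∈ zs Z P) : x * y = y * x :=
  comm_of_sq (h.zs_sq hP hx) (h.zs_sq hP hy) (h.zs_sq hP (Subgroup.mul_mem _ hx hy))

theorem zs_ea {P : Subgroup G} (hP : IsPGroup 2 P) : IsElementaryAbelian 2 (zs Z P) :=
  isElementaryAbelian_two_of_sq fun _ hx => by rw [pow_two, h.zs_sq hP hx]

theorem zs_map_conj (P : Subgroup G) (g : G) :
    zs Z (P.map (MulAut.conj g).toMonoidHom) = (zs Z P).map (MulAut.conj g).toMonoidHom := by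
  rw [zs, zs, MonoidHom.map_closure]
  congr 1
  ext x
  constructor
  · rintro ⟨h1, y, hy, rfl⟩
    exact ⟨y, ⟨h.conj_iff.1 h1, hy⟩, rfl⟩
  · rintro ⟨y, hy, rfl⟩
    exact ⟨h.conj y hy.1 g, y, hy.2, rfl⟩

theorem norm_zs (P : Subgroup G) [Finite G] :
    normalizer (P : Set G) ≤ normalizer (zs Z P : Set G) := fun g hg =>
  mem_normalizer_of_map_conj_eq (by rw [← h.zs_map_conj, map_conj_eq_of_mem_normalizer hg])

theorem mul_pow_mem {z w : G} (hz : z ∈ Z) (hw : w ∈ Z) (i : ℕ) : z * (z * w) ^ i ∈ Z := by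
  have e : ∀ k : ℕ, z * (z * w) ^ k = ((z * w) ^ k)⁻¹ * z := fun k => by
    rw [← Invol.inverts_of_mem_zpowers (Invol.inverts_mul (h.sq hz) (h.sq hw))
      (pow_mem (mem_zpowers _) k), inv_mul_cancel_right]
  rcases Nat.even_or_odd' i with ⟨k, rfl | rfl⟩
  · rw [two_mul, pow_add, ← mul_assoc, e]
    exact h.conj' hz _
  · rw [two_mul, add_assoc, pow_add, ← mul_assoc, e, pow_succ', ← mul_assoc, mul_assoc _ z,
      (h.inv z hz).mul_mul]
    exact h.conj' hw _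

theorem mul_zpowers_mem [Finite G] {z w c : G} (hz : z ∈ Z) (hw : w ∈ Z)
    (hc : c ∈ zpowers (z * w)) : z * c ∈ Z := by
  obtain ⟨i, rfl⟩ := mem_powers_iff_mem_zpowers.2 hc
  exact h.mul_pow_mem hz hw i

theorem odd_or [Finite G] {z w : G} (hz : z ∈ Z) (hw : w ∈ Z) : Odd (orderOf (z * w)) ∨
    ∃ v ∈ Z, v ∈ zpowers (z * w) ∧ v * z = z * v ∧ v * w = w * v := by
  refine or_iff_not_imp_left.2 fun h1 => ?_
  obtain ⟨v, hv, h2, h3⟩ := Invol.exists_involution_mem_zpowers (Nat.not_odd_iff_even.1 h1)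
  have h4 := Invol.inverts_of_mem_zpowers (Invol.inverts_mul (h.sq hz) (h.sq hw)) hv
  rw [Invol.inv_eq h3, mul_inv_eq_iff_eq_mul] at h4
  have h5 : v * (z * w) = z * w * v := by
    obtain ⟨k, rfl⟩ := hv
    exact ((Commute.refl _).zpow_left k).eq
  refine ⟨v, ?_, hv, h4.symm, ?_⟩
  · have := h.mul_of_comm hz (h.mul_zpowers_mem hz hw hv) (by rw [mul_assoc, ← h4])
    rw [(h.inv z hz).mul_mul] at this
    exact this.resolve_left h2
  · rw [← mul_assoc, ← h4, mul_assoc, mul_assoc, mul_left_cancel_iff] at h5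
    exact h5

theorem exists_swap [Finite G] {z w : G} (hz : z ∈ Z) (hw : w ∈ Z)
    (ho : Odd (orderOf (z * w))) {L : Subgroup G} (h1 : z ∈ L) (h2 : w ∈ L) :
    ∃ t ∈ Z, t ∈ L ∧ t * z * t⁻¹ = w := by
  obtain ⟨c, hc, h3⟩ := Invol.exists_conj_eq_mul (Invol.inverts_mul (h.sq hz) (h.sq hw)) ho
  have h4 := Invol.inverts_of_mem_zpowers (Invol.inverts_mul (h.sq hz) (h.sq hw)) (inv_mem hc)
  rw [(h.inv z hz).mul_mul] at h3
  refine ⟨z * c⁻¹, h.mul_zpowers_mem hz hw (inv_mem hc),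
    L.mul_mem h1 (zpowers_le.2 (L.mul_mem h1 h2) (inv_mem hc)), ?_⟩
  rw [inv_inv, mul_inv_eq_iff_eq_mul] at h4
  rw [h4, ← h3]
  group

theorem map [Finite G] {X : Subgroup G} {G' : Type*} [Group G'] {f : X →* G'}
    (hf : Function.Surjective f) (h1 : ∀ x : X, (x : G) ∈ Z → f x ≠ 1) :
    ZC (f '' {x : X | (x : G) ∈ Z}) where
  inv := by
    rintro _ ⟨z, hz, rfl⟩
    exact ⟨by rw [← map_mul, show z * z = 1 from Subtype.ext (h.sq hz), map_one], h1 z hz⟩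
  conj := by
    rintro _ ⟨z, hz, rfl⟩ g
    obtain ⟨g, rfl⟩ := hf g
    exact ⟨g * z * g⁻¹, h.conj z hz g, by simp⟩
  two := by
    rintro _ ⟨z, hz, rfl⟩ _ ⟨w, hw, rfl⟩ hp
    obtain ⟨j, hj⟩ := exists_odd_pow ((z : G) * w)
    have h2 := h.two z hz _ (h.mul_pow_mem hz hw (2 * j + 1)) (by rwa [(h.inv z hz).mul_mul])
    rw [(h.inv z hz).mul_mul] at h2
    have h3 : (z * w) ^ (2 * j + 1) * (z * w) ^ (2 * j + 1) = 1 :=
      Subtype.ext (h2.elim (fun e => by simp [e]) h.sq)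
    have h4 : f z * f w * (f z * f w) = 1 := by
      refine eq_one_of_odd_pow (isPGroup_zpowers_of_mem hp
        (Subgroup.mul_mem _ (mem_zpowers _) (mem_zpowers _))) (odd_two_mul_add_one j) ?_
      rw [(Commute.refl _).mul_pow, ← map_mul, ← map_pow, ← map_mul, h3, map_one]
    have h5 : f z * f w = f ((z * w) ^ (2 * j + 1)) := by
      rw [map_pow, map_mul, pow_succ, pow_mul, pow_two, h4, one_pow, one_mul]
    rw [h5]
    exact h2.imp (fun e => by rw [show (z * w) ^ (2 * j + 1) = 1 from Subtype.ext e, map_one])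
      fun e => ⟨_, e, rfl⟩

theorem exists_norm_conj [Finite G] {T X : Subgroup G} (hT : IsSylowIn 2 T X) {a g : G}
    (ha : a ∈ zs Z T) (hg : g ∈ X) (hb : g * a * g⁻¹ ∈ zs Z T) :
    ∃ n ∈ X ⊓ normalizer (zs Z T : Set G), n * a * n⁻¹ = g * a * g⁻¹ := by
  have : Fact (Nat.Prime 2) := ⟨Nat.prime_two⟩
  have hB := hT.isPGroup.to_le (zs_le Z T)
  have hX := (zs_le Z T).trans hT.le
  obtain ⟨T₁, h1, hT₁⟩ := IsSylowIn.exists_ge hB (H := X ⊓ centralizer {g * a * g⁻¹})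
    (le_inf hX fun x hx => mem_centralizer_singleton_iff.2 (h.zs_comm hT.isPGroup hx hb))
  obtain ⟨x, hx, h2⟩ := hT₁.exists_conj_le (hB.map (MulAut.conj g).toMonoidHom) (by
    rintro _ ⟨y, hy, rfl⟩
    refine ⟨X.mul_mem (X.mul_mem hg (hX hy)) (X.inv_mem hg), mem_centralizer_singleton_iff.2 ?_⟩
    change g * y * g⁻¹ * _ = _ * (g * y * g⁻¹)
    rw [conj_mul, conj_mul, h.zs_comm hT.isPGroup hy ha])
  obtain ⟨y, -, h3⟩ := hT.exists_conj_le hT₁.isPGroup (hT₁.le.trans inf_le_left)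
  have h4 : zs Z T = zs Z T₁ := by
    refine eq_of_le_of_card_ge ((closure_le _).2 fun z hz => mem_zs_of hz.1 (h1 (mem_zs_of hz.1 hz.2)))
      ?_
    rw [← card_map_conj y, ← h.zs_map_conj]
    exact card_le_of_le (zs_mono h3)
  refine ⟨x * g, ⟨X.mul_mem hx.1 hg, mem_normalizer_fintype fun z hz => ?_⟩, ?_⟩
  · by_cases h0 : z = 1
    · simp [h0]
    · rw [SetLike.mem_coe, h4]
      refine mem_zs_of (h.conj z (h.mem_of_zs hT.isPGroup hz h0) _) (h2 ?_)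
      rw [← map_conj_mul]
      exact mem_map_of_mem _ hz
  · have := mem_centralizer_singleton_iff.1 hx.2
    rw [show x * g * a * (x * g)⁻¹ = x * (g * a * g⁻¹) * x⁻¹ by group, this, mul_inv_cancel_right]

theorem four_le [Finite G] {P : Subgroup G} {a b : G} (ha : a ∈ Z) (hb : b ∈ Z) (h1 : a ∈ P)
    (h2 : b ∈ P) (hne : a ≠ b) : 4 ≤ Nat.card (zs Z P) :=
  (four_le_card (h.inv a ha) (h.inv b hb) hne).trans (card_le_of_le
    (sup_le (zpowers_le.2 (mem_zs_of ha h1)) (zpowers_le.2 (mem_zs_of hb h2))))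

theorem exists_center [Finite G] {P : Subgroup G} (hP : IsPGroup 2 P) {a : G} (ha : a ∈ Z)
    (h1 : a ∈ P) : ∃ b ∈ Z, b ∈ P ∧ P ≤ centralizer {b} := by
  have : Fact (Nat.Prime 2) := ⟨Nat.prime_two⟩
  obtain ⟨⟨b, hb⟩, h2⟩ := ne_bot_iff_exists_ne_one.1
    (inf_centralizer_ne_bot_of_isNilpotent hP.isNilpotent (zs_le Z P)
      (le_normalizer.trans (h.norm_zs P))
      fun e => h.ne_one ha (e.le (mem_zs_of ha h1)))
  exact ⟨b, h.mem_of_zs hP hb.1 fun e => h2 (Subtype.ext e), zs_le Z P hb.1,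
    fun x hx => mem_centralizer_singleton_iff.2 (hb.2 x hx)⟩

theorem mem_zs_of_norm {P : Subgroup G} (hP : IsPGroup 2 P) {z : G} (hz : z ∈ Z)
    {A : Subgroup G} (hA : A ≤ P) (hm : ∀ Q : Subgroup G, IsPGroup 2 Q → A ≤ Q → zs Z Q ≤ A)
    (hn : z ∈ normalizer (A : Set G)) : z ∈ A :=
  hm _ (isPGroup_sup_of_le_normalizer (Invol.isPGroup_zpowers (h.sq hz)) (hP.to_le hA)
    (zpowers_le.2 hn)) le_sup_right (mem_zs_of hz (mem_sup_left (mem_zpowers z)))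

/-- `zs Z T` is maximal for a Sylow subgroup `T`. -/
theorem zs_eq [Finite G] {T X Q : Subgroup G} (hT : IsSylowIn 2 T X) (hQ : IsPGroup 2 Q)
    (h1 : Q ≤ X) (h2 : zs Z T ≤ Q) : zs Z Q = zs Z T := by
  have : Fact (Nat.Prime 2) := ⟨Nat.prime_two⟩
  obtain ⟨y, -, h3⟩ := hT.exists_conj_le hQ h1
  refine (eq_of_le_of_card_ge ((closure_le _).2 fun z hz =>
    mem_zs_of hz.1 (h2 (mem_zs_of hz.1 hz.2))) ?_).symm
  rw [← card_map_conj y, ← h.zs_map_conj]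
  exact card_le_of_le (zs_mono h3)

theorem card_zs_le [Finite G] {T X Q : Subgroup G} (hT : IsSylowIn 2 T X) (hQ : IsPGroup 2 Q)
    (h1 : Q ≤ X) : Nat.card (zs Z Q) ≤ Nat.card (zs Z T) := by
  have : Fact (Nat.Prime 2) := ⟨Nat.prime_two⟩
  obtain ⟨y, -, h3⟩ := hT.exists_conj_le hQ h1
  rw [← card_map_conj y, ← h.zs_map_conj]
  exact card_le_of_le (zs_mono h3)

end ZC

/-- Every element of `Z` fixes a unique point. -/
structure ZS (G Ω : Type*) [Group G] [MulAction G Ω] (Z : Set G) : Prop extends ZC Z where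
  trans : ∀ α β : Ω, ∃ g : G, g • α = β
  nontriv : ∃ α β : Ω, α ≠ β
  uniq : ∀ z ∈ Z, ∀ α β : Ω, z • α = α → z • β = β → α = β
  four : ∃ α : Ω, F4 Z (stabilizer G α)

namespace ZS

variable {Ω : Type*} [MulAction G Ω] {Z : Set G} (h : ZS G Ω Z)
include h

theorem exists_ne (α : Ω) : ∃ β : Ω, β ≠ α := by
  obtain ⟨a, b, h⟩ := h.nontriv
  by_cases h1 : a = α
  · exact ⟨b, fun e => h (h1.trans e.symm)⟩
  · exact ⟨a, h1⟩

theorem stab_ne_top (α : Ω) : stabilizer G α ≠ ⊤ := fun e => by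
  obtain ⟨β, hβ⟩ := h.exists_ne α
  obtain ⟨g, rfl⟩ := h.trans α β
  exact hβ (e.ge (mem_top g))

theorem f4 (α : Ω) : F4 Z (stabilizer G α) := by
  obtain ⟨β, a, ha, b, hb, h1, h2, h3, h4⟩ := h.four
  obtain ⟨g, rfl⟩ := h.trans β α
  exact ⟨_, h.conj a ha g, _, h.conj b hb g, conj_smul_eq h1, conj_smul_eq h2,
    fun e => h3 (by simpa using e), by rw [conj_mul, conj_mul, h4]⟩

theorem exists_fix (α : Ω) : ∃ a ∈ Z, a • α = α :=
  let ⟨a, ha, _, _, h1, _⟩ := h.f4 α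
  ⟨a, ha, h1⟩

theorem fix_of_conj {z g : G} {α : Ω} (hz : z ∈ Z) (h1 : z • α = α)
    (h' : (g * z * g⁻¹) • α = α) : g • α = α :=
  h.uniq _ (h.conj z hz g) _ _ (conj_smul_eq h1) h'

theorem fix_of_comm {z g : G} {α : Ω} (hz : z ∈ Z) (h1 : z • α = α) (hc : g * z = z * g) :
    g • α = α :=
  h.fix_of_conj hz h1 (by rwa [hc, mul_inv_cancel_right])

theorem cent_le {z : G} {α : Ω} (hz : z ∈ Z) (h1 : z • α = α) :
    centralizer {z} ≤ stabilizer G α := fun _ hg =>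
  h.fix_of_comm hz h1 (mem_centralizer_singleton_iff.1 hg)

variable [Finite G]

theorem finite : Finite Ω := by
  obtain ⟨α, -⟩ := h.nontriv
  exact Finite.of_surjective (fun g : G => g • α) (h.trans α)

theorem odd_mul {z w : G} {α : Ω} (hz : z ∈ Z) (hw : w ∈ Z) (h1 : z • α = α)
    (h2 : w • α ≠ α) : Odd (orderOf (z * w)) :=
  (h.odd_or hz hw).resolve_right fun ⟨_, hv, _, h3, h4⟩ =>
    h2 (h.fix_of_comm hv (h.fix_of_comm hz h1 h3) h4.symm)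

theorem exists_swap {z w : G} {α : Ω} (hz : z ∈ Z) (hw : w ∈ Z) (h1 : z • α = α)
    (h2 : w • α ≠ α) {L : Subgroup G} (h3 : z ∈ L) (h4 : w ∈ L) :
    ∃ t ∈ Z, t ∈ L ∧ t * z * t⁻¹ = w :=
  h.toZC.exists_swap hz hw (h.odd_mul hz hw h1 h2) h3 h4

theorem smul_ne {z : G} {α β : Ω} (hz : z ∈ Z) (h1 : z • α = α) (h2 : β ≠ α) : z • β ≠ β :=
  fun e => h2 (h.uniq z hz _ _ e h1)

theorem exists_swap' {z w : G} {α β : Ω} (hz : z ∈ Z) (hw : w ∈ Z) (h1 : z • α = α)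
    (h2 : w • β = β) (hne : α ≠ β) {L : Subgroup G} (h3 : z ∈ L) (h4 : w ∈ L) :
    ∃ t ∈ Z, t ∈ L ∧ t * z * t⁻¹ = w ∧ t • α = β ∧ t • β = α := by
  obtain ⟨t, ht, h5, h6⟩ := h.exists_swap hz hw h1 (h.smul_ne hw h2 hne) h3 h4
  have h7 : t • α = β := h.uniq w hw _ _ (h6 ▸ conj_smul_eq h1) h2
  exact ⟨t, ht, h5, h6, h7, by rw [← h7, (h.inv t ht).smul_smul]⟩

theorem exists_conj_in {X : Subgroup G} {a z : G} {α : Ω} (hX : ¬ X ≤ stabilizer G α)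
    (ha : a ∈ Z) (haX : a ∈ X) (h1 : a • α = α) (hz : z ∈ Z) (hzX : z ∈ X) :
    ∃ g ∈ X, g * a * g⁻¹ = z := by
  by_cases h2 : z • α = α
  · obtain ⟨g, hg, h3⟩ := SetLike.not_le_iff_exists.1 hX
    obtain ⟨t, -, h4, h5⟩ := h.exists_swap hz (h.conj a ha g) h2
      (fun e => h3 (h.fix_of_conj ha h1 e)) hzX (X.mul_mem (X.mul_mem hg haX) (X.inv_mem hg))
    refine ⟨t⁻¹ * g, X.mul_mem (X.inv_mem h4) hg, ?_⟩
    rw [show t⁻¹ * g * a * (t⁻¹ * g)⁻¹ = t⁻¹ * (g * a * g⁻¹) * t by group, ← h5]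
    group
  · obtain ⟨t, -, h4, h5⟩ := h.exists_swap ha hz h1 h2 haX hzX
    exact ⟨t, h4, h5⟩

theorem exists_fix_in {X : Subgroup G} {a z : G} {α : Ω}
    (ha : a ∈ Z) (haX : a ∈ X) (h1 : a • α = α) (hz : z ∈ Z) (hzX : z ∈ X) :
    ∃ g ∈ X, z • g • α = g • α := by
  by_cases h2 : z • α = α
  · exact ⟨1, one_mem X, by rwa [one_smul]⟩
  · obtain ⟨t, -, h4, rfl⟩ := h.exists_swap ha hz h1 h2 haX hzX
    exact ⟨t, h4, conj_smul_eq h1⟩

theorem fix {z : G} (hz : z ∈ Z) : ∃ α : Ω, z • α = α := by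
  obtain ⟨α, -⟩ := h.nontriv
  obtain ⟨a, ha, h1⟩ := h.exists_fix α
  obtain ⟨g, -, h2⟩ := h.exists_fix_in ha (mem_top a) h1 hz (mem_top z)
  exact ⟨_, h2⟩

theorem one {z w : G} (hz : z ∈ Z) (hw : w ∈ Z) : ∃ g : G, g * z * g⁻¹ = w := by
  obtain ⟨α, h1⟩ := h.fix hz
  obtain ⟨g, -, h2⟩ := h.exists_conj_in (X := ⊤) (fun e => h.stab_ne_top α (top_le_iff.1 e)) hz
    (mem_top z) h1 hw (mem_top w)
  exact ⟨g, h2⟩

theorem exists_conj_st2 {a a' : G} {α β : Ω} (hne : α ≠ β) (ha : a ∈ Z) (ha' : a' ∈ Z)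
    (h1 : a • α = α) (h2 : a' • α = α) : ∃ d ∈ st2 G α β, d * a * d⁻¹ = a' := by
  obtain ⟨b, hb, h3⟩ := h.exists_fix β
  obtain ⟨t, -, -, e1, e2, e3⟩ := h.exists_swap' ha hb h1 h3 hne (mem_top a) (mem_top b)
  obtain ⟨s, -, -, f1, f2, f3⟩ := h.exists_swap' hb ha' h3 h2 hne.symm (mem_top _) (mem_top _)
  refine ⟨s * t, ⟨?_, ?_⟩, ?_⟩
  · change (s * t) • α = α
    rw [mul_smul, e2, f2]
  · change (s * t) • β = β
    rw [mul_smul, e3, f3]
  · rw [← f1, ← e1]; group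

theorem le_stab {P : Subgroup G} (hP : IsPGroup 2 P) {a : G} {α : Ω} (ha : a ∈ Z) (h1 : a ∈ P)
    (h2 : a • α = α) : P ≤ stabilizer G α := by
  obtain ⟨b, hb, -, h3⟩ := h.exists_center hP ha h1
  exact h3.trans (h.cent_le hb (h.fix_of_comm ha h2 (mem_centralizer_singleton_iff.1 (h3 h1)).symm))

theorem norm_zs_le {P : Subgroup G} {a : G} {α : Ω} (ha : a ∈ Z) (h1 : a ∈ P)
    (h2 : P ≤ stabilizer G α) : normalizer (zs Z P : Set G) ≤ stabilizer G α := fun _ hg =>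
  h.fix_of_conj ha (h2 h1) (h2 (zs_le Z P (conj_mem_of_mem_normalizer hg (mem_zs_of ha h1))))

theorem exists_mem_sylow {T X : Subgroup G} (hT : IsSylowIn 2 T X) {a : G} (ha : a ∈ Z)
    (h1 : a ∈ X) : ∃ g ∈ X, g * a * g⁻¹ ∈ T := by
  have : Fact (Nat.Prime 2) := ⟨Nat.prime_two⟩
  obtain ⟨g, hg, h2⟩ := hT.exists_conj_le (Invol.isPGroup_zpowers (h.sq ha)) (zpowers_le.2 h1)
  exact ⟨g, hg, h2 (mem_map_of_mem _ (mem_zpowers a))⟩

theorem sylow_le_stab {T X : Subgroup G} (hT : IsSylowIn 2 T X) {a : G} {α : Ω} (ha : a ∈ Z)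
    (h1 : a ∈ X) (h2 : a • α = α) : ∃ g ∈ X, T ≤ stabilizer G (g • α) := by
  obtain ⟨g, hg, h3⟩ := h.exists_mem_sylow hT ha h1
  exact ⟨g, hg, h.le_stab hT.isPGroup (h.conj a ha g) h3 (conj_smul_eq h2)⟩

theorem sylow_of_stab {T X : Subgroup G} {a : G} {α : Ω} (hT : IsSylowIn 2 T (X ⊓ stabilizer G α))
    (ha : a ∈ Z) (h1 : a ∈ X) (h2 : a • α = α) : IsSylowIn 2 T X := by
  have : Fact (Nat.Prime 2) := ⟨Nat.prime_two⟩
  obtain ⟨g, hg, h3⟩ := h.exists_mem_sylow hT ha (⟨h1, h2⟩ : a ∈ X ⊓ stabilizer G α)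
  exact IsSylowIn.of_maximal (hT.le.trans inf_le_left) hT.isPGroup fun Q hQ h4 h5 =>
    (hT.eq_of_le hQ h4 (le_inf h5
      (h.le_stab hQ (h.conj a ha g) (h4 h3) (hT.le h3).2))).le

theorem sylow_top {T : Subgroup G} {α : Ω} (hT : IsSylowIn 2 T (stabilizer G α)) :
    IsSylowIn 2 T ⊤ :=
  let ⟨a, ha, h1⟩ := h.exists_fix α
  h.sylow_of_stab (by rwa [top_inf_eq]) ha (mem_top a) h1

theorem four_le {T X : Subgroup G} (hT : IsSylowIn 2 T X) (h4 : F4 Z X) :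
    4 ≤ Nat.card (zs Z T) := by
  obtain ⟨a, ha, b, hb, h1, h2, h3, h5⟩ := h4
  have hp : IsPGroup 2 ↥(zpowers a ⊔ zpowers b) :=
    isPGroup_sup_of_le_normalizer (Invol.isPGroup_zpowers (h.sq ha))
      (Invol.isPGroup_zpowers (h.sq hb)) (zpowers_le.2 (centralizer_le_normalizer _ (by
        rw [SE.centralizer_zpowers]; exact mem_centralizer_singleton_iff.2 h5)))
  exact (h.toZC.four_le ha hb (mem_sup_left (mem_zpowers a)) (mem_sup_right (mem_zpowers b))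
    h3).trans (h.card_zs_le hT hp (sup_le (zpowers_le.2 h1) (zpowers_le.2 h2)))

theorem trans_zs {T X : Subgroup G} {α : Ω} (hT : IsSylowIn 2 T X) (hX : ¬ X ≤ stabilizer G α)
    (h1 : T ≤ stabilizer G α) {a b : G} (ha : a ∈ zs Z T) (hb : b ∈ zs Z T) (ha1 : a ≠ 1)
    (hb1 : b ≠ 1) : ∃ n ∈ X ⊓ normalizer (zs Z T : Set G), n * a * n⁻¹ = b := by
  obtain ⟨g, hg, rfl⟩ := h.exists_conj_in hX (h.mem_of_zs hT.isPGroup ha ha1)
    (hT.le (zs_le Z T ha)) (h1 (zs_le Z T ha)) (h.mem_of_zs hT.isPGroup hb hb1)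
    (hT.le (zs_le Z T hb))
  exact h.exists_norm_conj hT ha hg hb

section Red

variable {X : Subgroup G} {α : Ω} {G' Δ : Type*} [Group G'] [MulAction G' Δ]
  {f : X →* G'} {j : Δ → Ω} (R : Red X α f j) (hX : ¬ X ≤ stabilizer G α)
include R hX

omit [Finite G] in
theorem map_ne_one (x : X) (hx : (x : G) ∈ Z) : f x ≠ 1 := fun e => hX fun m hm => by
  obtain ⟨δ, h1⟩ := R.base
  obtain ⟨ε, h2⟩ := R.exists_pt hm
  refine h.uniq x hx _ _ ?_ ?_
  · rw [← h2, ← R.smul_iff, e, one_smul]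
  · rw [← h1, ← R.smul_iff, e, one_smul]

theorem red (h4 : F4 Z (X ⊓ stabilizer G α)) : ZS G' Δ (f '' {x : X | (x : G) ∈ Z}) where
  toZC := h.map R.surj (h.map_ne_one R hX)
  trans := fun δ ε => by
    obtain ⟨m, hm, e1⟩ := R.orb δ
    obtain ⟨n, hn, e2⟩ := R.orb ε
    exact ⟨f ⟨n * m⁻¹, mul_mem hn (inv_mem hm)⟩, R.smul_iff.2 (by
      rw [e1, e2, mul_smul, inv_smul_smul])⟩
  nontriv := by
    obtain ⟨m, hm, h⟩ := SetLike.not_le_iff_exists.1 hX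
    obtain ⟨δ, e1⟩ := R.base
    obtain ⟨ε, e2⟩ := R.exists_pt hm
    exact ⟨δ, ε, fun e => h (by rw [mem_stabilizer_iff, ← e2, ← e, e1])⟩
  uniq := by
    rintro _ ⟨z, hz, rfl⟩ δ ε a b
    exact R.inj (h.uniq _ hz _ _ (R.smul_iff.1 a) (R.smul_iff.1 b))
  four := by
    obtain ⟨δ, e1⟩ := R.base
    obtain ⟨a, ha, b, hb, h1, h2, h3, h5⟩ := h4
    refine ⟨δ, f ⟨a, h1.1⟩, ⟨_, ha, rfl⟩, f ⟨b, h2.1⟩, ⟨_, hb, rfl⟩, R.smul_iff.2 (e1 ▸ h1.2),
      R.smul_iff.2 (e1 ▸ h2.2), fun e => ?_,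
      by rw [← map_mul, ← map_mul]; exact congrArg f (Subtype.ext h5)⟩
    refine h.map_ne_one R hX (⟨a, h1.1⟩ * ⟨b, h2.1⟩) (h.mul_mem ha hb h5 h3) ?_
    rw [map_mul, e, ← map_mul, show (⟨b, h2.1⟩ * ⟨b, h2.1⟩ : X) = 1 from Subtype.ext (h.sq hb),
      map_one]

end Red

end ZS

end CfsgLib.GO
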